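import Cfsg.Agent.PlusBal.Move
import Cfsg.Agent.LocalEven61.PSLSylow

/-!
The `3'`-core of the centraliser of an automorphism of `PΩ⁺_8` permuting the three classes cyclically
is trivial (helper11).
-/

set_option autoImplicit false
set_option maxHeartbeats 800000
set_option linter.unusedSectionVars false
set_option synthInstance.maxSize 1024
set_option synthInstance.maxHeartbeats 200000

namespace Cfsg.Agent.PlusBal.Tri

open Matrix QuadraticMap
open Cfsg.Agent.UnitaryOrthogonal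
open Cfsg.Agent.UnitaryOrthogonal.Adjoint (I4)
open Cfsg.Agent.CG26.AutPO (Om piO piO_surjective simRange IsLn eb eo)
open Cfsg.Agent.CG26.AutPO.D4 (setup4)

universe u

variable {F : Type u} [Field F] [Fintype F]

local notation "𝐐" => qPlus 4 F

/-- A `3'`-group centralising a cyclic automorphism, normalised by its fixed points. -/
structure Ker (x : MulAut (P8 F)) (N : Subgroup (MulAut (P8 F))) : Prop where
  comm : ∀ n ∈ N, n * x = x * n
  nrm : ∀ w, x w = w → ∀ n ∈ N, MulAut.conj w * n * (MulAut.conj w)⁻¹ ∈ N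
  cop : ¬ 3 ∣ Nat.card N

variable {x : MulAut (P8 F)} {N : Subgroup (MulAut (P8 F))}

theorem finite_aut : Finite (MulAut (P8 F)) := by
  haveI := (setup4 (F := F)).finiteV
  exact Finite.of_injective (fun e : MulAut (P8 F) => (e : P8 F → P8 F)) DFunLike.coe_injective

theorem Ker.mp_comm (h : Ker x N) {n : MulAut (P8 F)} (hn : n ∈ N) (a : Subgroup (P8 F)) :
    mp n (mp x a) = mp x (mp n a) := by
  rw [← mp_mul, h.comm n hn, mp_mul]

theorem Ker.order (h : Ker x N) {n : MulAut (P8 F)} (hn : n ∈ N) : ¬ 3 ∣ orderOf n := fun hd =>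
  h.cop (hd.trans (by
    have := orderOf_dvd_natCard (⟨n, hn⟩ : N)
    rwa [Subgroup.orderOf_mk] at this))

theorem Ker.class0 (h : Ker x N) (hx : Cyc x) {n : MulAut (P8 F)} (hn : n ∈ N) {a : Subgroup (P8 F)}
    (ha : a ∈ Cl 0) : mp n a ∈ Cl 0 := by
  obtain ⟨f, -, hf⟩ := perm_mp n
  let H : Subgroup (MulAut (P8 F)) :=
    { carrier := {g | ∀ m, ∀ b ∈ Cl (F := F) m, mp g b ∈ Cl m}
      one_mem' := fun m b hb => by rwa [mp_one]
      mul_mem' := fun {g g'} hg hg' m b hb => by rw [mp_mul]; exact hg m _ (hg' m b hb)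
      inv_mem' := fun {g} hg m b hb => by
        obtain ⟨j, hj⟩ := exists_mp_Cl g⁻¹ m
        have e : j = m := Cl_unique (hg j _ (hj b hb)) (by rw [mp_inv']; exact hb)
        exact e ▸ hj b hb }
  have hstep : ∀ m, f (m + 1) = f m + 1 := fun m => by
    obtain ⟨b, hb⟩ : ∃ b, b ∈ Cl (F := F) m := ⟨_, _, CG26.AutPO.D4.q_bv (.inl 0),
      CG26.AutPO.D4.bv_ne_zero _, rfl⟩
    exact Cl_unique (hf _ _ (hx.shift m b hb)) (by rw [h.mp_comm hn]; exact hx.shift _ _ (hf m b hb))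
  have h3 : ∀ m, f (f (f m)) = m := by
    have key : ∀ j : Fin 3, ∀ m : Fin 3, m + j + j + j = m := by decide
    have hform : ∀ m, f m = m + f 0 := by
      intro m
      fin_cases m
      · exact (zero_add _).symm
      · show f (0 + 1) = 1 + f 0
        rw [hstep, add_comm]
      · show f (0 + 1 + 1) = 2 + f 0
        rw [hstep, hstep, add_assoc, add_comm]; rfl
    intro m
    rw [hform (f (f m)), hform (f m), hform m]
    exact key _ m
  have hn3 : n * n * n ∈ H := by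
    intro m b hb
    rw [mp_mul, mp_mul]
    have := hf _ _ (hf _ _ (hf m b hb))
    rwa [h3] at this
  have ho : n ^ orderOf n ∈ H := by rw [pow_orderOf_eq_one]; exact one_mem H
  rw [← Nat.div_add_mod (orderOf n) 3, pow_add, pow_mul, pow_three'] at ho
  have hmod : orderOf n % 3 = 1 ∨ orderOf n % 3 = 2 := by
    have := h.order hn; omega
  have hr := (H.mul_mem_cancel_left (pow_mem hn3 _)).1 ho
  have : n ∈ H := by
    rcases hmod with e | e
    · rw [e, pow_one] at hr; exact hr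
    · rw [e, pow_two] at hr
      exact (H.mul_mem_cancel_left hr).1 hn3
  exact this 0 a ha

theorem Ker.abs (h : Ker x N) (hx : Cyc x) {n : MulAut (P8 F)} (hn : n ∈ N) {a : Subgroup (P8 F)}
    (ha : a ∈ Abs x) : mp n a ∈ Abs x :=
  ⟨h.class0 hx hn ha.1, by rw [← h.mp_comm hn, inc_mp]; exact ha.2⟩

theorem Ker.orbit_dvd (h : Ker x N) (hx : Cyc x) {a : Subgroup (P8 F)} (ha : a ∈ Abs x) :
    {b | ∃ m ∈ N, mp m a = b}.ncard ∣ Nat.card N := by
  haveI := finite_aut (F := F)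
  letI act : MulAction N (Abs x) :=
    { smul := fun m b => ⟨mp (m : MulAut (P8 F)) b.1, h.abs hx m.2 b.2⟩
      one_smul := fun b => Subtype.ext (mp_one _)
      mul_smul := fun m m' b => Subtype.ext (mp_mul _ _ _) }
  have e : {b | ∃ m ∈ N, mp m a = b} = Subtype.val '' MulAction.orbit N (⟨a, ha⟩ : Abs x) := by
    ext b
    constructor
    · rintro ⟨m, hm, rfl⟩
      exact ⟨_, ⟨⟨m, hm⟩, rfl⟩, rfl⟩
    · rintro ⟨_, ⟨m, rfl⟩, rfl⟩
      exact ⟨m.1, m.2, rfl⟩
  rw [e, Set.ncard_image_of_injective _ Subtype.val_injective, ← Nat.card_coe_set_eq,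
    Nat.card_congr (MulAction.orbitEquivQuotientStabilizer N (⟨a, ha⟩ : Abs x))]
  exact Subgroup.card_quotient_dvd_card _

theorem Ker.no_opp (h : Ker x N) (hx : Cyc x) (r : ℕ) [Fact r.Prime] [CharP F r] (hr : r ≠ 3)
    {n : MulAut (P8 F)} (hn : n ∈ N) {a : Subgroup (P8 F)} (ha : a ∈ Abs x) : Inc (mp n a) a := by
  by_contra hop
  set B := {b | ∃ m ∈ N, mp m a = b} with hB
  have hBa : ∀ {b}, b ∈ B → b ∈ Abs x := by
    rintro b ⟨m, hm, rfl⟩
    exact h.abs hx hm ha
  have closed : ∀ {b g}, b ∈ B → g ∈ Abs x → ¬ Inc g b → g ∈ B := by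
    rintro b g ⟨m, hm, rfl⟩ hg hgb
    have hb' := h.abs hx (mul_mem hm hn) ha
    obtain ⟨w, hw, hwb, hwg⟩ := opp_trans hx (h.abs hx hm ha) hb' hg
      (by rw [mp_mul, inc_mp]; exact hop) hgb
    refine ⟨MulAut.conj w * (m * n * m⁻¹) * (MulAut.conj w)⁻¹ * m,
      mul_mem (h.nrm w hw _ (mul_mem (mul_mem hm hn) (inv_mem hm))) hm, ?_⟩
    rw [← hwg, mp_mul, ← congrArg (mp (MulAut.conj w * (m * n * m⁻¹) * (MulAut.conj w)⁻¹)) hwb,
      ← mp_mul, inv_mul_cancel_right, mp_mul, mp_mul, mp_mul, mp_inv, mp_mul]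
  have hall : ∀ c ∈ Abs x, c ∈ B := by
    intro c hc
    by_contra hcB
    obtain ⟨v, hv, hvs⟩ := exists_five hx r hr ha
    obtain ⟨v', hv', hvs'⟩ := exists_five hx r hr hc
    have haB : a ∈ B := ⟨1, one_mem _, mp_one a⟩
    have hperp : ∀ i j, polar 𝐐 (v i) (v' j) = 0 := by
      have base : ∀ p ∈ pointsOf ({a} ∪ {g | g ∈ Abs x ∧ ¬ Inc g a}),
          ∀ q ∈ pointsOf ({c} ∪ {g | g ∈ Abs x ∧ ¬ Inc g c}), polar 𝐐 p q = 0 := by
        rintro p ⟨hp, hp0, hpS⟩ q ⟨hq, hq0, hqS⟩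
        have hpB : Upt p ∈ B := by
          rcases hpS with e | ⟨h1, h2⟩
          · rw [Set.mem_singleton_iff.1 e]; exact haB
          · exact closed haB h1 h2
        have hqB : Upt q ∉ B ∧ Upt q ∈ Abs x := by
          rcases hqS with e | ⟨h1, h2⟩
          · rw [Set.mem_singleton_iff.1 e]; exact ⟨hcB, hc⟩
          · exact ⟨fun hqB => hcB (closed hqB hc fun e => h2 e.symm), h1⟩
        rw [← inc_Upt_Upt hp hp0 hq hq0]
        by_contra e
        exact hqB.1 (closed hpB hqB.2 fun e' => e e'.symm)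
      intro i j
      have h1 : ∀ q ∈ pointsOf ({c} ∪ {g | g ∈ Abs x ∧ ¬ Inc g c}), polar 𝐐 (v i) q = 0 := by
        intro q hq
        have hle : Submodule.span F (pointsOf ({a} ∪ {g | g ∈ Abs x ∧ ¬ Inc g a})) ≤
            LinearMap.ker (polarBilin 𝐐 q) := Submodule.span_le.2 fun p hp => by
          show polar 𝐐 q p = 0
          rw [polar_comm]; exact base p hp q hq
        have : polar 𝐐 q (v i) = 0 := hle (hvs i)
        rwa [polar_comm] at this
      have hle : Submodule.span F (pointsOf ({c} ∪ {g | g ∈ Abs x ∧ ¬ Inc g c})) ≤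
          LinearMap.ker (polarBilin 𝐐 (v i)) := Submodule.span_le.2 h1
      exact hle (hvs' j)
    have hinj : Function.Injective (polarBilin 𝐐) := by
      rw [injective_iff_map_eq_zero]
      intro u hu
      exact (setup4 (F := F)).nd u fun z => LinearMap.congr_fun hu z
    have hle : (Submodule.span F (Set.range v)).map (polarBilin 𝐐) ≤
        (Submodule.span F (Set.range v')).dualAnnihilator := by
      rw [Submodule.map_span, Submodule.span_le]
      rintro _ ⟨_, ⟨i, rfl⟩, rfl⟩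
      refine (Submodule.mem_dualAnnihilator _).2 fun w hw => ?_
      have hker : Submodule.span F (Set.range v') ≤ LinearMap.ker (polarBilin 𝐐 (v i)) :=
        Submodule.span_le.2 (Set.range_subset_iff.2 fun j => hperp i j)
      exact hker hw
    have d1 := (Submodule.span F (Set.range v)).equivMapOfInjective (polarBilin 𝐐) hinj |>.finrank_eq
    have d2 := Submodule.finrank_mono hle
    have d3 : Module.finrank F (Submodule.span F (Set.range v')) +
        Module.finrank F (Submodule.span F (Set.range v')).dualAnnihilator = Module.finrank F (I4 → F) :=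
      Subspace.finrank_add_finrank_dualAnnihilator_eq (Submodule.span F (Set.range v'))
    have d4 : Module.finrank F (I4 → F) = 8 := by simp
    rw [finrank_span_eq_card hv] at d1
    rw [finrank_span_eq_card hv', d4] at d3
    simp only [Fintype.card_fin] at d1 d3
    have h3' : Module.finrank F (Submodule.span F (Set.range v')).dualAnnihilator = 3 := by omega
    exact absurd (d1.le.trans (d2.trans (le_of_eq h3'))) (by norm_num)
  have h3 := (absolute_points r hr hx.cube hx.shift).2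
  rw [show {a | a ∈ Cl (F := F) 0 ∧ Inc a (mp x a)} = B from
    Set.ext fun c => ⟨fun hc => hall c hc, fun hc => hBa hc⟩] at h3
  exact h.cop (h3.trans (h.orbit_dvd hx ha))

theorem Ker.special (h : Ker x N) (hx : Cyc x) (r : ℕ) [Fact r.Prime] [CharP F r] (hr : r ≠ 3)
    {n : MulAut (P8 F)} (hn : n ∈ N) {a : Subgroup (P8 F)} (ha : a ∈ Abs x) :
    Inc (mp n a) (mp x a) := by
  by_contra hne
  obtain ⟨w, hw, hwa, hwb⟩ := move_off hx r hr ha (h.abs hx hn ha) (h.no_opp hx r hr hn ha) hne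
  refine hwb ?_
  have := h.no_opp hx r hr (mul_mem (h.nrm w hw n hn) (inv_mem hn)) (h.abs hx hn ha)
  rw [mp_mul, mp_inv, ← congrArg (mp (MulAut.conj w * n * (MulAut.conj w)⁻¹)) hwa, ← mp_mul,
    inv_mul_cancel_right, mp_mul] at this
  exact this

theorem Ker.fix (h : Ker x N) (hx : Cyc x) (r : ℕ) [Fact r.Prime] [CharP F r] (hr : r ≠ 3)
    {n₀ : MulAut (P8 F)} (hn₀ : n₀ ∈ N) {a : Subgroup (P8 F)} (ha : a ∈ Abs x) : mp n₀ a = a := by
  classical
  by_contra hne
  obtain ⟨p, hp, hp0, hap⟩ := mem_Cl0.1 ha.1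
  subst hap
  have hb := h.abs hx hn₀ ha
  obtain ⟨p', hp', hp0', hbp⟩ := mem_Cl0.1 hb.1
  rw [hbp] at hb
  have hind : ∀ c : F, p' ≠ c • p := fun c e => hne (by
    rw [hbp, e, Upt_smul hp fun e' => hp0' (by rw [e, e', zero_smul])])
  have hba : Inc (Upt p') (mp x (Upt p)) := hbp ▸ h.special hx r hr hn₀ ha
  have hab : Inc (Upt p) (mp x (Upt p')) := by
    have := h.special hx r hr (inv_mem hn₀) hb
    rwa [show mp n₀⁻¹ (Upt p') = Upt p by rw [← hbp, mp_inv]] at this
  have hind' : ∀ c : F, p ≠ c • p' := fun c e => by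
    by_cases hc : c = 0
    · exact hp0 (by rw [e, hc, zero_smul])
    · exact hind c⁻¹ (by rw [e, inv_smul_smul₀ hc])
  obtain ⟨a1, -, -, -⟩ := hx.abs ha
  have hpp : polar 𝐐 p p' = 0 := (line_mem (by decide) a1 hp hp0 hp' hp0' ha.2 hba).1
  have hln : IsLn 𝐐 p p' := ⟨hp, hp', hpp, hp0, hind⟩
  set B := {b | ∃ m ∈ N, mp m (Upt p) = b} with hB
  have hline : ∀ u : I4 → F, 𝐐 u = 0 → u ≠ 0 → Upt u ∈ B →
      u ∈ Submodule.span F ({p, p'} : Set (I4 → F)) := by
    rintro u hu hu0 ⟨m, hm, e⟩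
    refine collinear hx hp hp0 hp' hp0' hu hu0 ha hb hind hba hab (e ▸ h.special hx r hr hm ha) ?_
    have := h.special hx r hr (mul_mem hm (inv_mem hn₀)) hb
    rwa [mp_mul, show mp n₀⁻¹ (Upt p') = Upt p by rw [← hbp, mp_inv], e] at this
  let L : (Fin 2 → F) → (I4 → F) := fun v => v 0 • p + v 1 • p'
  have hL0 : ∀ v : Fin 2 → F, v ≠ 0 → L v ≠ 0 := fun v hv e => hv (by
    obtain ⟨e0, e1⟩ := hln.coeff e
    funext i; fin_cases i <;> assumption)
  have hLQ : ∀ v, 𝐐 (L v) = 0 := fun v => hln.form_mem (CG26.AutPO.mem_pair.2 ⟨v 0, v 1, rfl⟩)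
  have htr : ∀ c : F, ∃ k : Om 𝐐, x (piO 𝐐 k) = piO 𝐐 k ∧ k.1.1 p = p ∧ k.1.1 p' = p' + c • p :=
    translate hx r hr hp hp0 hp' hp0' ha hb hind hba hab
  have hBmem : ∀ c : F, Upt (c • p + p') ∈ B := by
    intro c
    obtain ⟨k, hk, hkp, hkp'⟩ := htr c
    set w := piO 𝐐 k
    refine ⟨MulAut.conj w * n₀ * (MulAut.conj w)⁻¹, h.nrm w hk _ hn₀, ?_⟩
    have hwa : mp (MulAut.conj w) (Upt p) = Upt p := by rw [mp_conj_Upt k hp, hkp]
    rw [← congrArg (mp (MulAut.conj w * n₀ * (MulAut.conj w)⁻¹)) hwa, ← mp_mul, inv_mul_cancel_right,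
      mp_mul, hbp, mp_conj_Upt k hp', hkp', add_comm]
  have hBcard : B.ncard = Fintype.card F + 1 := by
    let e : Option F → B := fun o =>
      match o with
      | none => ⟨Upt p, 1, one_mem _, mp_one _⟩
      | some c => ⟨Upt (c • p + p'), hBmem c⟩
    have hQc : ∀ c : F, 𝐐 (c • p + p') = 0 := fun c => by simpa [L] using hLQ ![c, 1]
    have hc0 : ∀ c : F, c • p + p' ≠ 0 := fun c => by
      simpa [L] using hL0 ![c, 1] (fun e => one_ne_zero (congrFun e 1 : (1 : F) = 0))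
    have he : Function.Bijective e := by
      constructor
      · rintro (_ | c) (_ | d) hcd
        · rfl
        · obtain ⟨t, ht⟩ := exists_smul_of_Upt_eq hp hp0 (hQc d) (hc0 d) (congrArg Subtype.val hcd)
          exact absurd (show p' = (t - d) • p by rw [sub_smul, ← ht, add_sub_cancel_left]) (hind _)
        · obtain ⟨t, ht⟩ := exists_smul_of_Upt_eq hp hp0 (hQc c) (hc0 c) (congrArg Subtype.val hcd).symm
          exact absurd (show p' = (t - c) • p by rw [sub_smul, ← ht, add_sub_cancel_left]) (hind _)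
        · obtain ⟨t, ht⟩ := exists_smul_of_Upt_eq (hQc c) (hc0 c) (hQc d) (hc0 d) (congrArg Subtype.val hcd)
          obtain ⟨e1, e2⟩ := hln.coeff (a := d - t * c) (b := 1 - t)
            (by linear_combination (norm := module) ht)
          rw [← sub_eq_zero.1 e2, one_mul] at e1
          rw [sub_eq_zero.1 e1]
      · rintro ⟨b, hbB⟩
        obtain ⟨m, hm, hmb⟩ := id hbB
        obtain ⟨u, hu, hu0, rfl⟩ := mem_Cl0.1 (hmb ▸ (h.abs hx hm ha).1 : b ∈ Cl 0)
        obtain ⟨s, t, rfl⟩ := CG26.AutPO.mem_pair.1 (hline u hu hu0 hbB)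
        by_cases ht : t = 0
        · refine ⟨none, Subtype.ext ?_⟩
          show Upt p = Upt (s • p + t • p')
          subst ht
          rw [zero_smul, add_zero] at hu0
          rw [zero_smul, add_zero]
          exact (Upt_smul hp fun e => hu0 (by rw [e, zero_smul])).symm
        · refine ⟨some (t⁻¹ * s), Subtype.ext ?_⟩
          show Upt _ = _
          rw [← Upt_smul (hQc _) ht, smul_add, smul_smul, mul_inv_cancel_left₀ ht]
    rw [← Nat.card_coe_set_eq, ← Nat.card_congr (Equiv.ofBijective e he), Finite.card_option,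
      Nat.card_eq_fintype_card]
  set q := Fintype.card F with hq
  have hq3 : ¬ 3 ∣ q := by
    obtain ⟨m, -, hm⟩ := FiniteField.card F r
    rw [hq, hm]
    intro hd
    exact hr ((Nat.prime_dvd_prime_iff_eq Nat.prime_three Fact.out).1 (Nat.prime_three.dvd_of_dvd_pow hd)).symm
  have hq1 : ¬ 3 ∣ q + 1 := fun hd => h.cop (hd.trans (hBcard ▸ h.orbit_dvd hx ha))
  have h4 : 4 ≤ q := by have := Fintype.one_lt_card (α := F); omega
  let R : Matrix.SpecialLinearGroup (Fin 2) F → MulAut (P8 F) → Prop := fun g α =>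
    ∀ v : Fin 2 → F, v ≠ 0 → mp α (Upt (L v)) = Upt (L (g.1 *ᵥ v))
  have hne0 : ∀ (g : Matrix.SpecialLinearGroup (Fin 2) F) (v : Fin 2 → F), v ≠ 0 → g.1 *ᵥ v ≠ 0 := by
    intro g v hv e
    refine hv ?_
    have := congrArg (fun w => (g⁻¹ : Matrix.SpecialLinearGroup (Fin 2) F).1 *ᵥ w) e
    rwa [Matrix.mulVec_mulVec, ← Matrix.SpecialLinearGroup.coe_mul, inv_mul_cancel,
      Matrix.SpecialLinearGroup.coe_one, Matrix.one_mulVec, Matrix.mulVec_zero] at this
  have R1 : R 1 1 := fun v _ => by rw [mp_one, Matrix.SpecialLinearGroup.coe_one, Matrix.one_mulVec]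
  have Rmul : ∀ {g g' α α'}, R g α → R g' α' → R (g * g') (α * α') := by
    intro g g' α α' hg hg' v hv
    rw [mp_mul, hg' v hv, hg _ (hne0 g' v hv), Matrix.mulVec_mulVec, Matrix.SpecialLinearGroup.coe_mul]
  have Rinv : ∀ {g α}, R g α → R g⁻¹ α⁻¹ := by
    intro g α hg v hv
    have := hg _ (hne0 g⁻¹ v hv)
    rw [Matrix.mulVec_mulVec, ← Matrix.SpecialLinearGroup.coe_mul, mul_inv_cancel,
      Matrix.SpecialLinearGroup.coe_one, Matrix.one_mulVec] at this
    rw [← this, mp_inv]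
  have Rk : ∀ (k : Om 𝐐) (g : Matrix.SpecialLinearGroup (Fin 2) F),
      (∀ v, k.1.1 (L v) = L (g.1 *ᵥ v)) → R g (MulAut.conj (piO 𝐐 k)) := by
    intro k g hk v _
    rw [mp_conj_Upt k (hLQ v), hk]
  let E : Subgroup (Matrix.SpecialLinearGroup (Fin 2) F) :=
    { carrier := {g | ∃ w, x w = w ∧ R g (MulAut.conj w)}
      one_mem' := ⟨1, map_one x, by rw [map_one]; exact R1⟩
      mul_mem' := by
        rintro g g' ⟨w, hw, hg⟩ ⟨w', hw', hg'⟩
        exact ⟨w * w', by rw [map_mul, hw, hw'], by rw [map_mul]; exact Rmul hg hg'⟩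
      inv_mem' := by
        rintro g ⟨w, hw, hg⟩
        exact ⟨w⁻¹, by rw [map_inv, hw], by rw [map_inv]; exact Rinv hg⟩ }
  have htv : ∀ {i j : Fin 2} (hij : i ≠ j) (c : F) (v : Fin 2 → F),
      (Matrix.SpecialLinearGroup.transvection hij c).1 *ᵥ v = v + Pi.single i (c * v j) := by
    intro i j hij c v
    show (Matrix.transvection i j c) *ᵥ v = _
    rw [Matrix.transvection, Matrix.add_mulVec, Matrix.one_mulVec, Matrix.single_mulVec]
    funext l
    simp [Pi.single_apply, Function.update_apply]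
  have hE : E = ⊤ := by
    refine LinearGroup.eq_top_of_transvection_mem fun i j hij c => ?_
    have key : ∀ i j : Fin 2, i ≠ j → (i = 0 ∧ j = 1) ∨ (i = 1 ∧ j = 0) := by decide
    rcases key i j hij with ⟨rfl, rfl⟩ | ⟨rfl, rfl⟩
    · obtain ⟨k, hk, hkp, hkp'⟩ := htr c
      refine ⟨_, hk, Rk k _ fun v => ?_⟩
      simp only [L, htv, map_add, map_smul, hkp, hkp', Pi.add_apply, Pi.single_eq_same,
        Pi.single_eq_of_ne (show (1 : Fin 2) ≠ 0 by decide)]
      module
    · obtain ⟨k, hk, hkp, hkp'⟩ := translate hx r hr hp' hp0' hp hp0 hb ha hind' hab hba c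
      refine ⟨_, hk, Rk k _ fun v => ?_⟩
      simp only [L, htv, map_add, map_smul, hkp, hkp', Pi.add_apply, Pi.single_eq_same,
        Pi.single_eq_of_ne (show (0 : Fin 2) ≠ 1 by decide)]
      module
  let D : Subgroup (Matrix.SpecialLinearGroup (Fin 2) F) :=
    { carrier := {g | ∃ n ∈ N, R g n}
      one_mem' := ⟨1, one_mem _, R1⟩
      mul_mem' := by
        rintro g g' ⟨n, hn, hg⟩ ⟨n', hn', hg'⟩
        exact ⟨n * n', mul_mem hn hn', Rmul hg hg'⟩
      inv_mem' := by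
        rintro g ⟨n, hn, hg⟩
        exact ⟨n⁻¹, inv_mem hn, Rinv hg⟩ }
  have hmemE : ∀ e, e ∈ E := fun e => by rw [hE]; exact Subgroup.mem_top e
  have hDn : D.Normal := by
    refine ⟨fun g hg e => ?_⟩
    obtain ⟨n, hn, hg⟩ := hg
    obtain ⟨w, hw, he⟩ := hmemE e
    exact ⟨_, h.nrm w hw n hn, Rmul (Rmul he hg) (Rinv he)⟩
  -- a noncentral element
  obtain ⟨s, hs⟩ := mem_simRange_of_fix ha.1 (h.class0 hx hn₀ ha.1)
  obtain ⟨β, hβ⟩ := exists_smul_of_Upt_eq hp' hp0' (by rw [s.form', hp, map_zero, mul_zero])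
    (fun e => hp0 (s.g.map_eq_zero_iff.1 e)) (by rw [← mp_sim_Upt s hp, hs, hbp])
  have hβ0 : β ≠ 0 := fun e => hp0 (s.g.map_eq_zero_iff.1 (by rw [hβ, e, zero_smul]))
  obtain ⟨γ, δ, hγ⟩ := CG26.AutPO.mem_pair.1 (hline (s.g p') (by rw [s.form', hp', map_zero, mul_zero])
    (fun e => hp0' (s.g.map_eq_zero_iff.1 e))
    ⟨n₀ * n₀, mul_mem hn₀ hn₀, by rw [mp_mul, hbp, ← hs, mp_sim_Upt s hp']⟩)
  have hγ0 : γ ≠ 0 := fun e => hind (s.σ.symm (δ / β)) (s.g.injective (by
    rw [s.map_smul', s.σ.apply_symm_apply, hβ, smul_smul, div_mul_cancel₀ _ hβ0, ← hγ, e, zero_smul,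
      zero_add]))
  obtain ⟨k, hk, hkp, hkp'⟩ := htr 1
  rw [one_smul] at hkp'
  have hT : R (Matrix.SpecialLinearGroup.transvection (show (0 : Fin 2) ≠ 1 by decide) 1)
      (MulAut.conj (piO 𝐐 k)) := Rk k _ fun v => by
    simp only [L, htv, map_add, map_smul, hkp, hkp', Pi.add_apply, Pi.single_eq_same,
      Pi.single_eq_of_ne (show (1 : Fin 2) ≠ 0 by decide)]
    module
  have hS : R (Matrix.SpecialLinearGroup.transvection (show (1 : Fin 2) ≠ 0 by decide) (β / γ))
      (MulAut.conj (piO 𝐐 (s.omAut k))) := Rk _ _ fun v => by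
    set k' := (s.omAut k).1 with hk'
    have hg : ∀ u, k'.1 (s.g u) = s.g (k.1.1 u) := fun u => by
      show s.g (k.1.1 (s.g.symm (s.g u))) = _
      rw [s.g.symm_apply_apply]
    have e1 : k'.1 p' = p' := by
      have := hg p
      rw [hkp, hβ, map_smul] at this
      exact smul_right_injective _ hβ0 this
    have e2 : k'.1 p = p + (β / γ) • p' := by
      have := hg p'
      rw [hkp', map_add, hβ, ← hγ, map_add, map_smul, map_smul, e1] at this
      refine smul_right_injective _ hγ0 ?_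
      show γ • k'.1 p = γ • (p + (β / γ) • p')
      rw [smul_add, smul_smul, mul_div_cancel₀ _ hγ0]
      linear_combination (norm := module) this
    simp only [L, htv, map_add, map_smul, e1, e2, Pi.add_apply, Pi.single_eq_same,
      Pi.single_eq_of_ne (show (0 : Fin 2) ≠ 1 by decide)]
    module
  set tT := Matrix.SpecialLinearGroup.transvection (show (0 : Fin 2) ≠ 1 by decide) (1 : F)
  set tS := Matrix.SpecialLinearGroup.transvection (show (1 : Fin 2) ≠ 0 by decide) (β / γ)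
  have hd : tS * tT⁻¹ ∈ D := by
    refine ⟨MulAut.conj (piO 𝐐 (s.omAut k)) * (MulAut.conj (piO 𝐐 k))⁻¹, ?_, Rmul hS (Rinv hT)⟩
    rw [← CG26.AutPO.Sim.aut_piO, hs, show MulAut.conj (n₀ (piO 𝐐 k)) =
      n₀ * MulAut.conj (piO 𝐐 k) * n₀⁻¹ from eq_mul_inv_of_mul_eq (conj_tau n₀ _),
      show n₀ * MulAut.conj (piO 𝐐 k) * n₀⁻¹ * (MulAut.conj (piO 𝐐 k))⁻¹ =
        n₀ * (MulAut.conj (piO 𝐐 k) * n₀⁻¹ * (MulAut.conj (piO 𝐐 k))⁻¹) by group]
    exact mul_mem hn₀ (h.nrm _ hk _ (inv_mem hn₀))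
  haveI := LocalEven61.psl_simple (F := F) h4
  set π := QuotientGroup.mk' (Subgroup.center (Matrix.SpecialLinearGroup (Fin 2) F))
  have hnc : π (tS * tT⁻¹) ≠ 1 := fun e => by
    obtain ⟨z, -, hz⟩ := Matrix.SpecialLinearGroup.mem_center_iff.1 ((QuotientGroup.eq_one_iff _).1 e)
    have e1 := congrArg (fun M : Matrix (Fin 2) (Fin 2) F => (M *ᵥ (Pi.single 0 1 : Fin 2 → F)) 1) hz
    have e0 : (tT⁻¹).1 *ᵥ (Pi.single 0 1 : Fin 2 → F) = Pi.single 0 1 := by
      have h1 : tT.1 *ᵥ (Pi.single 0 1 : Fin 2 → F) = Pi.single 0 1 := by rw [htv]; simp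
      conv_lhs => rw [← h1]
      rw [Matrix.mulVec_mulVec, ← Matrix.SpecialLinearGroup.coe_mul, inv_mul_cancel,
        Matrix.SpecialLinearGroup.coe_one, Matrix.one_mulVec]
    simp only [Matrix.SpecialLinearGroup.coe_mul, ← Matrix.mulVec_mulVec, e0] at e1
    rw [htv] at e1
    simp [Matrix.scalar_apply, Pi.single_apply] at e1
    exact div_ne_zero hβ0 hγ0 e1.symm
  have hmap : D.map π = ⊤ :=
    ((Subgroup.Normal.map hDn π (QuotientGroup.mk'_surjective _)).eq_bot_or_eq_top).resolve_left fun e =>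
      hnc ((Subgroup.eq_bot_iff_forall _).1 e _ ⟨_, hd, rfl⟩)
  let g₃ : Matrix.SpecialLinearGroup (Fin 2) F := ⟨!![0, -1; 1, -1], by simp [Matrix.det_fin_two]⟩
  have hg₃ : g₃ ^ 3 = 1 := by
    apply Subtype.ext
    rw [Matrix.SpecialLinearGroup.coe_pow, Matrix.SpecialLinearGroup.coe_one, pow_three]
    ext i j
    fin_cases i <;> fin_cases j <;> simp [g₃, Matrix.mul_apply, Fin.sum_univ_two]
  obtain ⟨d, ⟨n, hn, hR⟩, hd3⟩ := (hmap.symm ▸ Subgroup.mem_top (π g₃) : π g₃ ∈ D.map π)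
  obtain ⟨z, -, hz⟩ := Matrix.SpecialLinearGroup.mem_center_iff.1
    ((QuotientGroup.eq_one_iff (d⁻¹ * g₃)).1 (by
      show π (d⁻¹ * g₃) = 1
      rw [map_mul, map_inv, hd3, inv_mul_cancel]))
  have hzv : ∀ v : Fin 2 → F, g₃.1 *ᵥ v = z • (d.1 *ᵥ v) := fun v => by
    conv_lhs => rw [show g₃ = d * (d⁻¹ * g₃) from (mul_inv_cancel_left d g₃).symm]
    rw [Matrix.SpecialLinearGroup.coe_mul, ← Matrix.mulVec_mulVec, ← hz, Matrix.scalar_apply,
      show (Matrix.diagonal fun _ : Fin 2 => z) *ᵥ v = z • v from funext fun i => by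
        simp [Matrix.mulVec_diagonal], Matrix.mulVec_smul]
  have hR3 : R g₃ n := fun v hv => by
    have hz0 : z ≠ 0 := fun e => hne0 g₃ v hv (by rw [hzv, e, zero_smul])
    rw [hR v hv, hzv, show L (z • (d.1 *ᵥ v)) = z • L (d.1 *ᵥ v) by simp [L, smul_add, smul_smul],
      Upt_smul (hLQ _) hz0]
  have Rpow : ∀ j : ℕ, R (g₃ ^ j) (n ^ j) := fun j => by
    induction j with
    | zero => rw [pow_zero, pow_zero]; exact R1
    | succ j ih => rw [pow_succ, pow_succ]; exact Rmul ih hR3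
  obtain ⟨j, hj1, hj2⟩ : ∃ j, j % 3 = 1 ∧ orderOf n ∣ j := by
    have := h.order hn
    rcases (show orderOf n % 3 = 1 ∨ orderOf n % 3 = 2 by omega) with e | e
    · exact ⟨orderOf n, e, dvd_rfl⟩
    · exact ⟨2 * orderOf n, by omega, dvd_mul_left _ _⟩
  have hgj : g₃ ^ j = g₃ := by
    rw [← Nat.div_add_mod j 3, hj1, pow_add, pow_mul, hg₃, one_pow, one_mul, pow_one]
  have := Rpow j
  rw [hgj, orderOf_dvd_iff_pow_eq_one.1 hj2] at this
  have e := this ![1, 0] (fun e => one_ne_zero (congrFun e 0 : (1 : F) = 0))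
  rw [mp_one, show g₃.1 *ᵥ (![1, 0] : Fin 2 → F) = ![0, 1] from funext fun i => by
    fin_cases i <;> simp [g₃, Matrix.mulVec, dotProduct, Fin.sum_univ_two]] at e
  exact hne (hbp.trans (by simpa [L] using e.symm))

/-- **The centraliser of a cyclic automorphism has trivial `3'`-core.** -/
theorem core_cyclic_bot {r : ℕ} [Fact r.Prime] [CharP F r] (hr : r ≠ 3) (hx : Cyc x)
    (A : Subgroup (MulAut (P8 F))) (hinn : ∀ k, MulAut.conj k ∈ A) :
    Cfsg.pPrimeCore 3 ↥(A ⊓ Subgroup.centralizer {x}) = ⊥ := by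
  haveI := finite_aut (F := F)
  set C := A ⊓ Subgroup.centralizer {x}
  set N₀ := Cfsg.pPrimeCore 3 ↥C
  have hker : Ker x (N₀.map C.subtype) := by
    refine ⟨?_, ?_, ?_⟩
    · rintro _ ⟨n, -, rfl⟩
      exact Subgroup.mem_centralizer_singleton_iff.1 n.2.2
    · rintro w hw _ ⟨n, hn, rfl⟩
      have hwC : MulAut.conj w ∈ C := ⟨hinn w, Subgroup.mem_centralizer_singleton_iff.2 (by
        conv_lhs => rw [← hw]
        exact conj_tau x w)⟩
      exact ⟨⟨_, hwC⟩ * n * ⟨_, hwC⟩⁻¹, Subgroup.Normal.conj_mem inferInstance n hn _, rfl⟩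
    · rw [Nat.card_congr (Subgroup.equivMapOfInjective N₀ C.subtype C.subtype_injective).toEquiv.symm]
      exact fun hd => by
        have := Nat.Coprime.eq_one_of_dvd (Nat.Coprime.symm (Thompson.card_pPrimeCore_coprime (p := 3) (G := ↥C))) hd
        omega
  obtain ⟨⟨a, ha⟩, -⟩ := absolute_points r hr hx.cube hx.shift
  refine (Subgroup.eq_bot_iff_forall _).2 fun n hn => ?_
  have hnN : (n : MulAut (P8 F)) ∈ N₀.map C.subtype := ⟨n, hn, rfl⟩
  exact Subtype.ext (fix_trivial hx r hr (show a ∈ Abs x from ha) (hker.comm _ hnN)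
    fun b hb => hker.fix hx r hr hnN hb)

end Cfsg.Agent.PlusBal.Tri
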