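import Cfsg.Agent.LocalEven61.POMinusBalanceGram

/-!
`PΩ` of a nondegenerate form `∑ xᵢ yᵢ + z₁² + a z₁ z₂ + b z₂²`, whatever the type of its binary part:
the centre is trivial and a semilinear inducer is unique up to scalars (helper11).
-/

set_option autoImplicit false

namespace Cfsg.Agent.PlusBal

open Matrix QuadraticMap
open Cfsg.Agent.AutPSL (fieldMap scalarGL Induced act normGL)
open Cfsg.Agent.FieldAutGen Cfsg.Agent.FieldAutGen.Orth
open Cfsg.Agent.FieldAutGen.Minus (Idx qf qf_apply qf_map qf_e1 e1 frame)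
open Cfsg.Agent.LocalEven61.POMinusBalance (Om PG pi ro semi_pow)

universe u v

variable {k : ℕ} {F : Type u} [Field F] [Fintype F] {a b : F}

variable (hk : 3 ≤ k) (hn : (qf k F a b).polarBilin.Nondegenerate)

include hk hn

theorem has_siegel : HasSiegel (qf k F a b) := Orth.hasSiegel _ hn (by simp; omega)

theorem scalar_of_induced {g : GL (Idx k) F} {σ : F ≃+* F}
    (hg : Cfsg.IsSemisimilarityPair (Cfsg.quadFormMinus k F a b) g σ)
    (h : Induced (ro k F a b) g σ 1) : σ = 1 ∧ ∃ c : Fˣ, g = scalarGL (Idx k) c :=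
  eq_one_of_induced hk (frame k F a b) (has_siegel hk hn) (Q := qf k F a b) hg h

omit hk hn in
theorem isSemi_ro (s : Om k F a b) :
    Cfsg.IsSemisimilarityPair (Cfsg.quadFormMinus k F a b) (ro k F a b s) 1 :=
  isSemi_one_iff.2 (iso_le_sim _ s.1.2)

omit hk hn in
theorem induced_conj (s : Om k F a b) :
    Induced (ro k F a b) (ro k F a b s) 1 (MulAut.conj (pi k F a b s)) := by
  intro t t' ht
  have e : t' = s * t * s⁻¹ := rho_injective _ (by
    rw [ht, AutPSL.act_apply, AutPSL.fieldMap_one, map_mul, map_mul, map_inv])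
  rw [e]
  rfl

theorem mk_eq_one_iff (s : Om k F a b) :
    pi k F a b s = 1 ↔ ∃ c : Fˣ, ro k F a b s = scalarGL (Idx k) c := by
  refine ⟨fun h => ?_, fun ⟨c, hc⟩ => ?_⟩
  · have h1 := induced_conj s
    rw [h, map_one] at h1
    exact (scalar_of_induced hk hn (isSemi_ro s) h1).2
  · refine (QuotientGroup.eq_one_iff _).2 (Subgroup.mem_center_iff.2 fun t => rho_injective _ ?_)
    rw [map_mul, map_mul]
    show ro k F a b t * ro k F a b s = ro k F a b s * ro k F a b t
    rw [hc, AutPSL.scalarGL_mul_comm]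

theorem center_pg : Subgroup.center (PG k F a b) = ⊥ := by
  refine (Subgroup.eq_bot_iff_forall _).2 fun z hz => ?_
  obtain ⟨s, rfl⟩ := QuotientGroup.mk_surjective z
  have h1 : MulAut.conj (QuotientGroup.mk s : PG k F a b) = 1 := MulEquiv.ext fun y => by
    rw [MulAut.conj_apply, ← Subgroup.mem_center_iff.1 hz y, mul_inv_cancel_right, MulAut.one_apply]
  have h2 := induced_conj s
  rw [show MulAut.conj (pi k F a b s) = 1 from h1] at h2
  exact (mk_eq_one_iff hk hn s).2 (scalar_of_induced hk hn (isSemi_ro s) h2).2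

theorem scalar_sq {c : Fˣ} {s : Om k F a b} (hc : ro k F a b s = scalarGL (Idx k) c) : c * c = 1 := by
  refine Units.ext ?_
  have h := mem_iso.1 (show ro k F a b s ∈ Cfsg.isometryGroup F (Cfsg.quadFormMinus k F a b) from s.1.2)
    (e1 k F)
  rw [hc, AutPSL.scalarGL_coe, smul_mulVec, one_mulVec, ← qf_apply, ← qf_apply,
    QuadraticMap.map_smul, qf_e1, smul_eq_mul, mul_one] at h
  simpa using h

theorem norm_scalar {g : GL (Idx k) F} {σ : F ≃+* F}
    (hg : Cfsg.IsSemisimilarityPair (Cfsg.quadFormMinus k F a b) g σ) {β : MulAut (PG k F a b)}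
    (hβ : Induced (ro k F a b) g σ β) {n : ℕ} (hn' : orderOf β = n) :
    σ ^ n = 1 ∧ ∃ c : Fˣ, normGL σ g n = scalarGL (Idx k) c := by
  obtain ⟨h1, h2⟩ := semi_pow hg hβ n
  rw [← hn', pow_orderOf_eq_one, hn'] at h2
  exact scalar_of_induced hk hn h1 h2

theorem unique_inducer {g g' : GL (Idx k) F} {σ σ' : F ≃+* F} {β : MulAut (PG k F a b)}
    (hg : Cfsg.IsSemisimilarityPair (Cfsg.quadFormMinus k F a b) g σ)
    (hg' : Cfsg.IsSemisimilarityPair (Cfsg.quadFormMinus k F a b) g' σ')
    (h : Induced (ro k F a b) g σ β) (h' : Induced (ro k F a b) g' σ' β) :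
    σ = σ' ∧ ∃ c : Fˣ, g = g' * scalarGL (Idx k) c := by
  have hN := normalises hg'
  have h1 := Induced.comp (normalises hg) (Induced.inverse (rho_injective _) hN h') h
  rw [inv_mul_cancel] at h1
  obtain ⟨e1, c, hc⟩ := scalar_of_induced hk hn (IsSemi_comp (isSemi_inverse hg') hg) h1
  rw [inv_mul_eq_one] at e1
  subst e1
  refine ⟨rfl, Units.map (σ'.toRingHom : F →* F) c, ?_⟩
  have h2 := congrArg (fieldMap σ') hc
  rw [map_mul, AutPSL.fieldMap_apply_inv, AutPSL.fieldMap_apply_inv, AutPSL.fieldMap_scalarGL] at h2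
  rw [← h2, mul_inv_cancel_left]

end Cfsg.Agent.PlusBal
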