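import Cfsg.Agent.CG26.AutPO.D4Count
import Cfsg.Agent.FieldAutGen.PlusTriality

/-!
`PΩ⁺_8` as matrices and as the group of Eichler transformations: semisimilarities are the stabiliser
of the point class (helper11).
-/

set_option autoImplicit false
set_option maxHeartbeats 800000

namespace Cfsg.Agent.PlusBal

open Matrix QuadraticMap
open Cfsg.Agent.AutPSL (fieldMap Induced)
open Cfsg.Agent.FieldAutGen Cfsg.Agent.FieldAutGen.Orth
open Cfsg.Agent.UnitaryOrthogonal (eichGroup isometryGroupEquiv qPlus qPlus_apply)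
open Cfsg.Agent.CG26.AutPO (Om piO piO_surjective simRange Ln IsLn MapsLn TT eb eo exists_mapsLn)
open Cfsg.Agent.UnitaryOrthogonal.Adjoint (I4)
open Cfsg.Agent.CG26.AutPO.D4 (setup4 tau lnR bv r0 r1 pres_mem)

universe u

/-- `PΩ⁺_8` as the group of Eichler transformations modulo its centre. -/
abbrev P8 (F : Type u) [Field F] : Type u := CG26.AutPO.PO (qPlus 4 F)

variable {F : Type u} [Field F] [Fintype F]

/-- The model of an element. -/
def Model (E : Cfsg.POmega F (Cfsg.quadFormPlus 4 F) ≃* P8 F) : Prop :=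
  ∀ s : ↥(Cfsg.Omega F (Cfsg.quadFormPlus 4 F)), ∃ h : Om (qPlus 4 F),
    E (QuotientGroup.mk s) = piO (qPlus 4 F) h ∧
      ∀ x, h.1.1 x = (rho (Cfsg.quadFormPlus 4 F) s : Matrix I4 I4 F) *ᵥ x

theorem exists_model : ∃ E : Cfsg.POmega F (Cfsg.quadFormPlus 4 F) ≃* P8 F, Model E := by
  classical
  have hS := setup4 (F := F)
  haveI := hS.fin
  set f := Cfsg.quadFormPlus 4 F
  set Q := qPlus 4 F
  set φ := isometryGroupEquiv (f := f) Q (qPlus_apply 4) with hφ
  have hmap : (Cfsg.Omega F f).map φ.toMonoidHom = eichGroup Q := by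
    rw [← OrthStab.commutator_eq hS.nd (le_trans (by norm_num) hS.dim), Cfsg.Omega, commutator_def,
      Subgroup.map_commutator, Subgroup.map_top_of_surjective _ φ.surjective, commutator_def]
  let e : ↥(Cfsg.Omega F f) ≃* Om Q :=
    (φ.subgroupMap (Cfsg.Omega F f)).trans (MulEquiv.subgroupCongr hmap)
  have hZ : (Subgroup.center ↥(Cfsg.Omega F f)).map e.toMonoidHom = Subgroup.center (Om Q) := by
    refine le_antisymm ?_ fun y hy => ?_
    · rintro _ ⟨x, hx, rfl⟩
      refine Subgroup.mem_center_iff.2 fun y => ?_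
      have := congrArg e (Subgroup.mem_center_iff.1 hx (e.symm y))
      rw [map_mul, map_mul, e.apply_symm_apply] at this
      exact this
    · refine ⟨e.symm y, Subgroup.mem_center_iff.2 fun x => e.injective ?_, e.apply_symm_apply y⟩
      rw [map_mul, map_mul, e.apply_symm_apply]
      exact Subgroup.mem_center_iff.1 hy (e x)
  exact ⟨QuotientGroup.congr _ _ e hZ, fun s => ⟨e s, rfl, fun x => rfl⟩⟩

variable {E : Cfsg.POmega F (Cfsg.quadFormPlus 4 F) ≃* P8 F}

theorem mem_simRange_of_semi (hE : Model E) {g : GL I4 F} {σ : F ≃+* F}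
    (hg : Cfsg.IsSemisimilarityPair (Cfsg.quadFormPlus 4 F) g σ)
    {β : MulAut (Cfsg.POmega F (Cfsg.quadFormPlus 4 F))}
    (hβ : Induced (rho (Cfsg.quadFormPlus 4 F)) g σ β) :
    MulAut.congr E β ∈ simRange (qPlus 4 F) := by
  obtain ⟨c, hc⟩ := id hg
  let G : (I4 → F) ≃+ (I4 → F) :=
    { toFun := fun x => (g : Matrix I4 I4 F) *ᵥ (σ ∘ x)
      invFun := fun y => σ.symm ∘ (((g⁻¹ : GL I4 F) : Matrix I4 I4 F) *ᵥ y)
      left_inv := fun x => by
        simp only [mulVec_mulVec, ← Units.val_mul, inv_mul_cancel, Units.val_one, one_mulVec]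
        exact funext fun i => σ.symm_apply_apply _
      right_inv := fun y => by
        show (g : Matrix I4 I4 F) *ᵥ (σ ∘ σ.symm ∘ (((g⁻¹ : GL I4 F) : Matrix I4 I4 F) *ᵥ y)) = y
        rw [show σ ∘ σ.symm ∘ (((g⁻¹ : GL I4 F) : Matrix I4 I4 F) *ᵥ y) = ((g⁻¹ : GL I4 F) : Matrix I4 I4 F) *ᵥ y
          from funext fun i => σ.apply_symm_apply _, mulVec_mulVec, ← Units.val_mul, mul_inv_cancel,
          Units.val_one, one_mulVec]
      map_add' := fun x y => by
        rw [← mulVec_add]; congr 1; funext i; exact map_add σ _ _ }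
  refine ⟨{ σ := σ
            g := G
            map_smul' := fun r x => ?_
            μ := c
            μ0 := c.ne_zero
            form' := fun x => ?_ }, MulEquiv.ext fun z => ?_⟩
  · show (g : Matrix I4 I4 F) *ᵥ _ = σ r • ((g : Matrix I4 I4 F) *ᵥ _)
    rw [← mulVec_smul]; congr 1; funext i; exact map_mul σ _ _
  · rw [qPlus_apply, qPlus_apply]
    exact hc x
  · obtain ⟨w, rfl⟩ := E.surjective z
    obtain ⟨s, rfl⟩ := QuotientGroup.mk_surjective w
    obtain ⟨h, hh, hhx⟩ := hE s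
    obtain ⟨s', hs'⟩ := Orth.normalises hg s
    obtain ⟨h', hh', hhx'⟩ := hE s'
    show CG26.AutPO.Sim.aut _ (E (QuotientGroup.mk s)) = E (β (E.symm (E (QuotientGroup.mk s))))
    rw [E.symm_apply_apply, hβ s s' hs', hh', hh, CG26.AutPO.Sim.aut_piO]
    refine congrArg _ (Subtype.ext (Subtype.ext (LinearEquiv.ext fun x => ?_)))
    obtain ⟨v, rfl⟩ := G.surjective x
    show G (h.1.1 (G.symm (G v))) = h'.1.1 (G v)
    rw [G.symm_apply_apply, hhx, hhx', hs']
    exact (act_mulVec g σ _ v).symm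

theorem semi_of_sim (hE : Model E) (s : CG26.AutPO.Sim (qPlus 4 F))
    {β : MulAut (Cfsg.POmega F (Cfsg.quadFormPlus 4 F))} (hs : s.aut = MulAut.congr E β) :
    ∃ g : GL I4 F, Cfsg.IsSemisimilarityPair (Cfsg.quadFormPlus 4 F) g s.σ ∧
      Induced (rho (Cfsg.quadFormPlus 4 F)) g s.σ β := by
  let L : (I4 → F) →ₗ[F] (I4 → F) :=
    { toFun := fun x => s.g (s.σ.symm ∘ x)
      map_add' := fun x y => by
        rw [← map_add]; congr 1; funext i; exact map_add s.σ.symm _ _
      map_smul' := fun c x => by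
        rw [show s.σ.symm ∘ (c • x) = s.σ.symm c • (s.σ.symm ∘ x) from
          funext fun i => map_mul s.σ.symm _ _, s.map_smul', s.σ.apply_symm_apply, RingHom.id_apply] }
  have hL : ∀ v, LinearMap.toMatrix' L *ᵥ (s.σ ∘ v) = s.g v := fun v => by
    rw [LinearMap.toMatrix'_mulVec]
    exact congrArg s.g (funext fun i => s.σ.symm_apply_apply (v i))
  have hinj : Function.Injective L := fun x y e => funext fun i =>
    s.σ.symm.injective (congrFun (s.g.injective e) i)
  have hu : IsUnit (LinearMap.toMatrix' L).det := by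
    rw [LinearMap.det_toMatrix']
    exact LinearEquiv.isUnit_det' (LinearEquiv.ofInjectiveEndo L hinj)
  let G : GL I4 F := Matrix.GeneralLinearGroup.mk'' _ hu
  refine ⟨G, ⟨Units.mk0 s.μ s.μ0, fun v => ?_⟩, fun t t' ht => E.injective ?_⟩
  · show Cfsg.quadFormPlus 4 F (LinearMap.toMatrix' L *ᵥ (s.σ ∘ v)) = _
    rw [hL, ← qPlus_apply, s.form', qPlus_apply, Units.val_mk0]
  · obtain ⟨h, hh, hhx⟩ := hE t
    obtain ⟨h', hh', hhx'⟩ := hE t'
    have e := DFunLike.congr_fun hs (E (QuotientGroup.mk t))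
    rw [show MulAut.congr E β (E (QuotientGroup.mk t)) = E (β (QuotientGroup.mk t)) from
      congrArg (fun y => E (β y)) (E.symm_apply_apply _)] at e
    rw [← e, hh, hh', CG26.AutPO.Sim.aut_piO]
    refine congrArg _ (Subtype.ext (Subtype.ext (LinearEquiv.ext fun x => ?_)))
    obtain ⟨v, rfl⟩ := s.g.surjective x
    show s.g (h.1.1 (s.g.symm (s.g v))) = h'.1.1 (s.g v)
    rw [s.g.symm_apply_apply, hhx, hhx', ht, ← hL v, ← hL]
    exact (act_mulVec G s.σ _ v).symm

theorem semi_of_mem_simRange (hE : Model E) {β : MulAut (Cfsg.POmega F (Cfsg.quadFormPlus 4 F))}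
    (h : MulAut.congr E β ∈ simRange (qPlus 4 F)) :
    ∃ (g : GL I4 F) (σ : F ≃+* F), Cfsg.IsSemisimilarityPair (Cfsg.quadFormPlus 4 F) g σ ∧
      Induced (rho (Cfsg.quadFormPlus 4 F)) g σ β := by
  obtain ⟨s, hs⟩ := h
  obtain ⟨g, h1, h2⟩ := semi_of_sim hE s hs
  exact ⟨g, s.σ, h1, h2⟩

theorem mapsLn_self {α : MulAut (P8 F)} {u z : I4 → F} (hi : IsLn (qPlus 4 F) u z)
    (h : α (eb (qPlus 4 F) u z) = eb (qPlus 4 F) u z) :
    MapsLn α (Submodule.span F {u, z}) (Submodule.span F {u, z}) := by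
  open Cfsg.Agent.CG26.AutPO in
  have hS := setup4 (F := F)
  obtain ⟨L', hL⟩ := exists_mapsLn hS α (L := Submodule.span F {u, z}) ⟨u, z, hi, rfl⟩
  obtain ⟨c, d, hj, rfl⟩ := hL.2.1
  have hm : eb (qPlus 4 F) u z ∈ TT (qPlus 4 F) (Submodule.span F {c, d}) := by
    rw [← hL.2.2]
    exact ⟨_, ⟨u, IsLn.span_mem_left, z, IsLn.span_mem_right, rfl⟩, h⟩
  obtain ⟨t, ht⟩ := (mem_TT hj).1 hm
  have hz : polar (qPlus 4 F) c (t • d) = 0 := by simp [hj.uz]
  have ht0 : t ≠ 0 := fun e => eb_ne_one hS hi.qu hi.uz hi.u0 hi.ind (by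
    rw [ht, e, zero_smul, eb, show eo (qPlus 4 F) c 0 = 1 from Subtype.ext (UnitaryOrthogonal.eich_zero c),
      map_one])
  have hind : ∀ s : F, t • d ≠ s • c := fun s e => hj.ind (t⁻¹ * s) (by
    rw [← smul_smul, ← e, inv_smul_smul₀ ht0])
  have e := congrArg Subtype.val (piO_inj hS (eo_isU hi.qu hi.uz) (eo_isU hj.qu hz) ht)
  have e2 := span_eq_of_eich_eq hS hi.qu hi.uz hi.u0 hi.ind hj.qu hz hj.u0 hind e
  have e3 : Submodule.span F ({u, z} : Set (I4 → F)) = Submodule.span F {c, d} :=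
    ln_eq ⟨u, z, hi, rfl⟩ ⟨c, d, hj, rfl⟩ (e2 ▸ Submodule.span_le.2 (by
      rintro v (rfl | rfl)
      · exact IsLn.span_mem_left
      · exact Submodule.smul_mem _ _ IsLn.span_mem_right))
  conv_rhs => rw [e3]
  exact hL

end Cfsg.Agent.PlusBal
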