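import Cfsg.Agent.PlusBal.Core
import Cfsg.Agent.LocalEven61.POMinusBalanceGraph

/-!
The fixed group of a standard field automorphism of `PΩ` of a form `∑ xᵢ yᵢ + z₁² + a z₁ z₂ + b z₂²`
with coefficients fixed by the automorphism, of either type over the fixed field (helper11).
-/

set_option autoImplicit false
set_option maxHeartbeats 800000

namespace Cfsg.Agent.PlusBal

open Matrix QuadraticMap
open Cfsg.Agent.AutPSL (fieldMap scalarGL Induced act normGL)
open Cfsg.Agent.FieldAutGen Cfsg.Agent.FieldAutGen.Orth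
open Cfsg.Agent.FieldAutGen.Minus (Idx qf qf_apply qf_map qf_sigma qf_e1 e1 frame fixer)
open Cfsg.Agent.LocalEven61.POMinusBalance (Om PG pi ro semi_pow siegel_map siegel_eigen qf_incl
  exists_isoMap exists_rational map_mem_iso sq_mem_omega refl_pair_sq)
open Cfsg.Agent.CG26.PSpLB (Fix mem_fix)
open Cfsg.Agent.LocalEven61.OrthRat
open Cfsg.Agent.Reflections (mat refl)

universe u v

variable {k : ℕ} {F : Type u} [Field F] {a b : F}

theorem nondeg_fix (hn : (qf k F a b).polarBilin.Nondegenerate) {σ : F ≃+* F} (hσm : σ ∈ fixer a b) :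
    (qf k (fixField σ) (⟨a, hσm.1⟩ : fixField σ) ⟨b, hσm.2⟩).polarBilin.Nondegenerate := by
  have hpol : ∀ x y : Idx k → fixField σ,
      polar ⇑(qf k F a b) ((fixField σ).subtype ∘ x) ((fixField σ).subtype ∘ y) =
        (fixField σ).subtype (polar ⇑(qf k (fixField σ) (⟨a, hσm.1⟩ : fixField σ) ⟨b, hσm.2⟩) x y) :=
    fun x y => polar_map (Q := ⇑(qf k F a b))
      (Q₀ := ⇑(qf k (fixField σ) (⟨a, hσm.1⟩ : fixField σ) ⟨b, hσm.2⟩)) (fixField σ).subtype
      (qf_map (a := (⟨a, hσm.1⟩ : fixField σ)) (b := (⟨b, hσm.2⟩ : fixField σ)) (fixField σ).subtype) x y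
  have hl : ∀ x, (∀ y, polar ⇑(qf k (fixField σ) (⟨a, hσm.1⟩ : fixField σ) ⟨b, hσm.2⟩) x y = 0) → x = 0 := by
    intro x hx
    have h0 : (qf k F a b).polarBilin ((fixField σ).subtype ∘ x) = 0 :=
      LinearMap.pi_ext' fun j => LinearMap.ext_ring (by
        show polar ⇑(qf k F a b) ((fixField σ).subtype ∘ x) (Pi.single j 1) = 0
        rw [← comp_single (fixField σ).subtype j, hpol, hx, map_zero])
    have h1 := hn.1 ((fixField σ).subtype ∘ x) fun y => by rw [h0]; rfl
    exact funext fun l => (fixField σ).subtype.injective ((congrFun h1 l).trans (map_zero _).symm)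
  exact ⟨fun x hx => hl x hx, fun y hy => hl y fun x => by rw [polar_comm]; exact hy x⟩

variable [Fintype F]
variable (hk : 3 ≤ k) (hn : (qf k F a b).polarBilin.Nondegenerate)

include hk hn

omit hk hn [Fintype F] in
theorem induced_pre {σ : F ≃+* F} (hσ : σ ∈ fixer a b) {φ : MulAut (PG k F a b)}
    (hφ : Induced (ro k F a b) 1 σ φ) (s : Om k F a b) :
    ∃ s' : Om k F a b, ro k F a b s' = fieldMap σ (ro k F a b s) ∧ φ (pi k F a b s) = pi k F a b s' := by
  obtain ⟨s', hs'⟩ := Orth.normalises (Q := Cfsg.quadFormMinus k F a b)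
    (isSemi_std fun v => qf_sigma (k := k) hσ.1 hσ.2 v) s
  refine ⟨s', ?_, hφ s s' hs'⟩
  rw [hs', AutPSL.act_apply, one_mul, inv_one, mul_one]

omit hk hn [Fintype F] in
theorem fix_of_fixed {σ : F ≃+* F} (hσ : σ ∈ fixer a b) {φ : MulAut (PG k F a b)}
    (hφ : Induced (ro k F a b) 1 σ φ) {s : Om k F a b}
    (h : fieldMap σ (ro k F a b s) = ro k F a b s) : pi k F a b s ∈ Fix φ := by
  obtain ⟨s', hs', he⟩ := induced_pre hσ hφ s
  rw [mem_fix, he, rho_injective _ (hs'.trans h)]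

/-- A fixed element is rational up to a sign. -/
theorem fixed_sign {σ : F ≃+* F} (hσ : σ ∈ fixer a b) {φ : MulAut (PG k F a b)}
    (hφ : Induced (ro k F a b) 1 σ φ) {s : Om k F a b} (h : pi k F a b s ∈ Fix φ) :
    ∃ c : Fˣ, c * c = 1 ∧ fieldMap σ (ro k F a b s) = ro k F a b s * scalarGL (Idx k) c := by
  obtain ⟨s', hs', he⟩ := induced_pre hσ hφ s
  have h' : pi k F a b s' = pi k F a b s := he.symm.trans (mem_fix.1 h)
  obtain ⟨c, hc⟩ := (mk_eq_one_iff hk hn (s⁻¹ * s')).1 (by rw [map_mul, map_inv, h', inv_mul_cancel])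
  refine ⟨c, scalar_sq hk hn hc, ?_⟩
  rw [← hs', ← hc, ← map_mul, mul_inv_cancel_left]

theorem fixed_of_odd {σ : F ≃+* F} (hσ : σ ∈ fixer a b) {φ : MulAut (PG k F a b)}
    (hφ : Induced (ro k F a b) 1 σ φ) {s : Om k F a b} (h : pi k F a b s ∈ Fix φ)
    (hodd : Odd (orderOf σ)) : fieldMap σ (ro k F a b s) = ro k F a b s := by
  obtain ⟨c, hc2, hf⟩ := fixed_sign hk hn hσ hφ h
  have hσc : Units.map (σ.toRingHom : F →* F) c = c := by
    apply Units.ext
    show σ (c : F) = c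
    have : (c : F) * c = 1 := by rw [← Units.val_mul, hc2, Units.val_one]
    rcases mul_self_eq_one_iff.1 this with h | h <;> simp [h]
  have hpow : ∀ j : ℕ, fieldMap (σ ^ j) (ro k F a b s) = ro k F a b s * scalarGL _ (c ^ j) := by
    intro j
    induction j with
    | zero =>
      rw [pow_zero, pow_zero, AutPSL.fieldMap_one, show scalarGL (Idx k) (1 : Fˣ) = 1 from map_one _,
        mul_one]
    | succ j ih =>
      have hσj : Units.map (σ.toRingHom : F →* F) (c ^ j) = c ^ j := by rw [map_pow, hσc]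
      rw [pow_succ', AutPSL.fieldMap_mul, ih, map_mul, hf, AutPSL.fieldMap_scalarGL]
      rw [hσj, mul_assoc, ← map_mul, ← pow_succ']
  obtain ⟨m, hm⟩ := hodd
  have h1 := hpow (orderOf σ)
  rw [pow_orderOf_eq_one, AutPSL.fieldMap_one, eq_comm, mul_eq_left] at h1
  have h2 : c ^ orderOf σ = 1 := AutPSL.scalarGL_injective (h1.trans (map_one _).symm)
  rw [hm, pow_succ, pow_mul, pow_two, hc2, one_pow, one_mul] at h2
  rw [hf, h2, show scalarGL (Idx k) (1 : Fˣ) = 1 from map_one _, mul_one]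

theorem fixed_sq {σ : F ≃+* F} (hσ : σ ∈ fixer a b) {φ : MulAut (PG k F a b)}
    (hφ : Induced (ro k F a b) 1 σ φ) {s : Om k F a b} (h : pi k F a b s ∈ Fix φ) :
    fieldMap σ (ro k F a b (s * s)) = ro k F a b (s * s) := by
  obtain ⟨c, hc2, hf⟩ := fixed_sign hk hn hσ hφ h
  have e : scalarGL (Idx k) c * scalarGL (Idx k) c = 1 := by rw [← map_mul, hc2, map_one]
  rw [map_mul, map_mul, hf, mul_assoc, ← mul_assoc (scalarGL (Idx k) c),
    AutPSL.scalarGL_mul_comm c (ro k F a b s), mul_assoc (ro k F a b s) _ (scalarGL (Idx k) c), e, mul_one]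

theorem pow_eq_one_of_fix {σ : F ≃+* F} (hσm : σ ∈ fixer a b) {p : ℕ} (hσ : orderOf σ = p)
    {β : MulAut (PG k F a b)}
    (hsem : ∃ (g : GL (Idx k) F) (τ : F ≃+* F),
      Cfsg.IsSemisimilarityPair (Cfsg.quadFormMinus k F a b) g τ ∧ Induced (ro k F a b) g τ β)
    (h : ∀ (t : Om k (fixField σ) ⟨a, hσm.1⟩ ⟨b, hσm.2⟩) (s : Om k F a b),
      ro k F a b s = Matrix.GeneralLinearGroup.map (fixField σ).subtype (rho _ t) →
        β (pi k F a b s) = pi k F a b s) :
    β ^ p = 1 := by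
  classical
  obtain ⟨g, τ, hg, hb⟩ := hsem
  letI : Fintype (fixField σ) := Fintype.ofFinite _
  obtain ⟨f, hf, hfΩ⟩ := exists_isoMap (k := k) (fixField σ).subtype (a := a) (b := b)
    (a₀ := (⟨a, hσm.1⟩ : fixField σ)) (b₀ := ⟨b, hσm.2⟩) rfl rfl
  obtain ⟨hτ, c, hc0, hc⟩ := eq_scalar_of_commute_rat hk (frame k F a b) σ (qf_sigma hσm.1 hσm.2)
    (fun i => rat_single σ _) (fun i => rat_single σ _) g τ fun u v hru hrv hu hv huv x => by
    let u₀ : Idx k → fixField σ := fun j => ⟨u j, hru j⟩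
    let v₀ : Idx k → fixField σ := fun j => ⟨v j, hrv j⟩
    have hu' : (fixField σ).subtype ∘ u₀ = u := rfl
    have hv' : (fixField σ).subtype ∘ v₀ = v := rfl
    obtain ⟨t, ht⟩ := Orth.hasSiegel _ (nondeg_fix hn hσm) (by simp; omega) u₀ v₀
      ((fixField σ).subtype.injective (by rw [← qf_incl (fixField σ).subtype rfl rfl, map_zero]; exact hu))
      ((fixField σ).subtype.injective (by rw [← qf_incl (fixField σ).subtype rfl rfl, map_zero]; exact hv))
      ((fixField σ).subtype.injective (by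
        rw [← polar_map _ (qf_incl (fixField σ).subtype rfl rfl), map_zero]; exact huv))
    let s : Om k F a b := ⟨f t.1, hfΩ _ t.2⟩
    have hsR : ro k F a b s = Matrix.GeneralLinearGroup.map (fixField σ).subtype (rho _ t) := hf t.1
    have hs : ((ro k F a b s : GL (Idx k) F) : Matrix (Idx k) (Idx k) F) =
        Cfsg.siegelMatrix ⇑(qf k F a b) u v 1 := by
      rw [hsR, ← hu', ← hv', ← siegel_map (fixField σ).subtype (a := a) (b := b) (a₀ := (⟨a, hσm.1⟩ : fixField σ))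
          (b₀ := ⟨b, hσm.2⟩) rfl rfl, ← ht]; rfl
    obtain ⟨s', hs'⟩ := Orth.normalises hg s
    have e := (h t s hsR).symm.trans (hb _ _ hs')
    obtain ⟨l, hl⟩ := (mk_eq_one_iff hk hn (s⁻¹ * s')).1 (by rw [map_mul, map_inv, e]; exact inv_mul_cancel _)
    have hss : ro k F a b s' = ro k F a b s * scalarGL _ l := by rw [← hl, ← map_mul, mul_inv_cancel_left]
    have hl1 : (l : F) = 1 := by
      by_cases hu0 : u = 0 ∧ v = 0
      · have h1 : ro k F a b s = 1 := Units.ext (by rw [hs, hu0.1, hu0.2]; simp [Cfsg.siegelMatrix])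
        rw [hss, h1, one_mul, AutPSL.act_apply, map_one, mul_one, mul_inv_cancel] at hs'
        exact congrArg Units.val (AutPSL.scalarGL_injective (hs'.trans (map_one _).symm))
      obtain ⟨y₀, hy₀, hfy⟩ : ∃ y₀ : Idx k → F, y₀ ≠ 0 ∧ Cfsg.siegelMatrix ⇑(qf k F a b) u v 1 *ᵥ y₀ = y₀ := by
        obtain ⟨f1, f2⟩ : Cfsg.siegelMatrix ⇑(qf k F a b) u v 1 *ᵥ u = u ∧
            Cfsg.siegelMatrix ⇑(qf k F a b) u v 1 *ᵥ v = v := by
          have hvu : polar ⇑(qf k F a b) v u = 0 := by rw [polar_comm, huv]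
          constructor <;> simp [Reflections.siegel_mulVec, Reflections.polar_self', hu, hv, huv, hvu]
        by_cases hu' : u = 0
        · exact ⟨v, fun h => hu0 ⟨hu', h⟩, f2⟩
        · exact ⟨u, hu', f1⟩
      have hne : (g : Matrix (Idx k) (Idx k) F) *ᵥ (τ ∘ y₀) ≠ 0 := fun e => hy₀ (by
        have h1 := congrArg (((g⁻¹ : GL (Idx k) F) : Matrix (Idx k) (Idx k) F) *ᵥ ·) e
        simp only [mulVec_mulVec, ← Units.val_mul, inv_mul_cancel, Units.val_one, one_mulVec,
          mulVec_zero] at h1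
        exact funext fun i => τ.injective ((congrFun h1 i).trans (map_zero τ).symm))
      have h1 := congrArg (fun w : GL (Idx k) F => (w : Matrix (Idx k) (Idx k) F) *ᵥ
        ((g : Matrix (Idx k) (Idx k) F) *ᵥ (τ ∘ y₀))) hs'
      simp only [act_mulVec, hs, hfy, hss, Units.val_mul, AutPSL.scalarGL_coe, Matrix.mul_smul, mul_one,
        smul_mulVec] at h1
      have := siegel_eigen hu hv huv hne (l := (l : F)⁻¹) (by rw [eq_inv_smul_iff₀ l.ne_zero]; exact h1)
      exact inv_eq_one.1 this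
    rw [hss, show l = 1 from Units.ext hl1, show scalarGL (Idx k) (1 : Fˣ) = 1 from map_one _, mul_one] at hs'
    have := congrArg (fun y : GL (Idx k) F => (y : Matrix (Idx k) (Idx k) F) *ᵥ
      ((g : Matrix (Idx k) (Idx k) F) *ᵥ (τ ∘ x))) hs'
    simp only [act_mulVec, hs] at this
    exact this.symm
  have hτm : τ ∈ fixer a b := ⟨hτ a hσm.1, hτ b hσm.2⟩
  have hgs : g = scalarGL (Idx k) (Units.mk0 c hc0) := Units.ext (by rw [AutPSL.scalarGL_coe, hc]; rfl)
  have hb1 : Induced (ro k F a b) 1 τ β := fun t t' ht => hb t t' (by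
    rw [ht, AutPSL.act_apply, AutPSL.act_apply, hgs, one_mul, inv_one, mul_one, AutPSL.scalarGL_mul_comm,
      mul_inv_cancel_right])
  have hτp : τ ^ p = 1 := hσ ▸ Cfsg.Agent.LocalEven61.PSLBalance.pow_eq_one_of_fixes hτ
  obtain ⟨-, h2⟩ := semi_pow (isSemi_std fun v => qf_sigma (k := k) hτm.1 hτm.2 v) hb1 p
  have hn1 : ∀ j : ℕ, normGL τ (1 : GL (Idx k) F) j = 1 := by
    intro j
    induction j with
    | zero => rfl
    | succ j ih => rw [show normGL τ (1 : GL (Idx k) F) (j + 1) = 1 * fieldMap τ (normGL τ 1 j) from rfl,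
        ih, map_one, mul_one]
  rw [hτp, hn1] at h2
  exact Induced.ext AutPSL.normalises_one h2 (AutPSL.induced_one' (rho_injective _))

/-- An involution of the group over a field of odd characteristic. -/
theorem exists_involution (h2 : (2 : F) ≠ 0) : ∃ t : Om k F a b, pi k F a b t ≠ 1 ∧ pi k F a b (t * t) = 1 := by
  classical
  let i₀ : Fin k := ⟨0, by omega⟩
  let i₁ : Fin k := ⟨1, by omega⟩
  let i₂ : Fin k := ⟨2, by omega⟩
  let E := frame k F a b
  let u := E.e i₀ + E.f i₀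
  let w := E.e i₁ + E.f i₁
  have h01 : i₀ ≠ i₁ := fun e => by simpa [i₀, i₁] using congrArg Fin.val e
  have h02 : i₀ ≠ i₂ := fun e => by simpa [i₀, i₂] using congrArg Fin.val e
  have h12 : i₁ ≠ i₂ := fun e => by simpa [i₁, i₂] using congrArg Fin.val e
  have hu : (qf k F a b) u = 1 := by
    show (qf k F a b) (E.e i₀ + E.f i₀) = 1
    rw [Reflections.map_add', E.Qe, E.Qf, E.ef, if_pos rfl]; ring
  have hw : (qf k F a b) w = 1 := by
    show (qf k F a b) (E.e i₁ + E.f i₁) = 1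
    rw [Reflections.map_add', E.Qe, E.Qf, E.ef, if_pos rfl]; ring
  have huw : polar ⇑(qf k F a b) u w = 0 := by
    show polar ⇑(qf k F a b) (E.e i₀ + E.f i₀) (E.e i₁ + E.f i₁) = 0
    simp only [polar_add_left, polar_add_right, E.ee', E.ff', E.ef, E.fe, if_neg h01, if_neg h01.symm,
      add_zero]
  obtain ⟨J, hJ⟩ := refl_pair_sq (Q := qf k F a b) h2 (u := u) (w := w) (by rw [hu]; exact one_ne_zero) huw
    (hw.trans hu.symm)
  refine ⟨⟨J * J, sq_mem_omega (qf k F a b) hn (by simp; omega) J⟩, ?_, ?_⟩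
  · intro h
    obtain ⟨c, hc⟩ := (mk_eq_one_iff hk hn _).1 h
    have hv : ∀ x, mat (refl (qf k F a b) u * refl (qf k F a b) w) *ᵥ x = (c : F) • x := fun x => by
      have h1 := congrArg (fun g : GL (Idx k) F => (g : Matrix (Idx k) (Idx k) F) *ᵥ x) hc
      simp only [AutPSL.scalarGL_coe, smul_mulVec, one_mulVec] at h1
      rw [← hJ]
      exact h1
    have hQu : (qf k F a b) u ≠ 0 := by rw [hu]; exact one_ne_zero
    have hQw : (qf k F a b) w ≠ 0 := by rw [hw]; exact one_ne_zero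
    have hval : ∀ x, Reflections.act (refl (qf k F a b) u * refl (qf k F a b) w) x = (c : F) • x := hv
    have he2 : E.e i₂ ≠ 0 := fun e => one_ne_zero (α := F) (by
      have := E.ef i₂ i₂
      rw [e, if_pos rfl, polar_zero_left] at this
      exact this.symm)
    have h1 := hval (E.e i₂)
    rw [Reflections.act_mul, Reflections.act_refl hQw, Reflections.act_refl hQu] at h1
    have e1 : polar ⇑(qf k F a b) (E.e i₂) w = 0 := by
      show polar ⇑(qf k F a b) (E.e i₂) (E.e i₁ + E.f i₁) = 0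
      rw [polar_add_right, E.ee', E.ef, if_neg h12.symm, add_zero]
    have e1' : polar ⇑(qf k F a b) w (E.e i₂) = 0 := (polar_comm _ _ _).trans e1
    have e2 : polar ⇑(qf k F a b) (E.e i₂) u = 0 := by
      show polar ⇑(qf k F a b) (E.e i₂) (E.e i₀ + E.f i₀) = 0
      rw [polar_add_right, E.ee', E.ef, if_neg h02.symm, add_zero]
    have e2' : polar ⇑(qf k F a b) u (E.e i₂) = 0 := (polar_comm _ _ _).trans e2
    simp only [e1, e1', e2, e2', mul_zero, zero_smul, sub_zero] at h1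
    have hc1 : (c : F) = 1 := by
      have : ((c : F) - 1) • E.e i₂ = 0 := by rw [sub_smul, one_smul, ← h1, sub_self]
      exact sub_eq_zero.1 ((smul_eq_zero.1 this).resolve_right he2)
    have h3 := hval u
    rw [Reflections.act_mul, Reflections.act_refl hQw] at h3
    simp only [huw, polar_comm (⇑(qf k F a b)) w u, mul_zero, zero_smul, sub_zero] at h3
    rw [Reflections.act_refl hQu, Reflections.polar_self', hu, hc1, one_smul] at h3
    have h4 : (2 : F) • u = 0 := by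
      linear_combination (norm := module) -h3
    rcases smul_eq_zero.1 h4 with h5 | h5
    · exact h2 h5
    · rw [h5, QuadraticMap.map_zero] at hu; exact zero_ne_one hu
  · refine (congrArg _ (Subtype.ext ?_)).trans (map_one _)
    show J * J * (J * J) = 1
    rw [hJ]
    have hQu : (qf k F a b) u ≠ 0 := by rw [hu]; exact one_ne_zero
    have hQw : (qf k F a b) w ≠ 0 := by rw [hw]; exact one_ne_zero
    have hcm : refl (qf k F a b) u * refl (qf k F a b) w = refl (qf k F a b) w * refl (qf k F a b) u := by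
      have h1 := Reflections.conj_refl (refl (qf k F a b) u) hQw
      rw [Reflections.act_refl hQu, huw,
        mul_zero, zero_smul, sub_zero] at h1
      exact (eq_mul_inv_iff_mul_eq.1 h1.symm).symm
    have hiu : refl (qf k F a b) u * refl (qf k F a b) u = 1 := by
      conv_lhs => arg 2; rw [← Reflections.refl_inv hQu]
      exact mul_inv_cancel _
    have hiw : refl (qf k F a b) w * refl (qf k F a b) w = 1 := by
      conv_lhs => arg 2; rw [← Reflections.refl_inv hQw]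
      exact mul_inv_cancel _
    rw [mul_assoc, ← mul_assoc (refl (qf k F a b) w), ← hcm, mul_assoc, hiw, mul_one, hiu]

set_option maxHeartbeats 1600000 in
/-- The structure of the fixed group. -/
theorem fix_hyps {p : ℕ} [Fact p.Prime] {σ : F ≃+* F} (hσm : σ ∈ fixer a b) (hσ : orderOf σ = p)
    (hsimple : IsSimpleGroup (PG k (fixField σ) (⟨a, hσm.1⟩ : fixField σ) ⟨b, hσm.2⟩))
    (h2 : p = 2 → (2 : F) ≠ 0)
    {φ : MulAut (PG k F a b)} (hφ : Induced (ro k F a b) 1 σ φ)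
    (hsem : ∀ β : MulAut (PG k F a b), (∀ x ∈ Fix φ, β x = x) → ∃ (g : GL (Idx k) F) (τ : F ≃+* F),
      Cfsg.IsSemisimilarityPair (Cfsg.quadFormMinus k F a b) g τ ∧ Induced (ro k F a b) g τ β) :
    Fix φ ≠ ⊥ ∧ (p = 2 → 2 ∣ Nat.card (Fix φ)) ∧
      (∀ β : MulAut (PG k F a b), (∀ x ∈ Fix φ, β x = x) → β ^ p = 1) ∧
      (p ∣ Nat.card (Fix φ) → ∀ M : Subgroup (PG k F a b), M ≤ Fix φ →
        (∀ l ∈ Fix φ, ∀ m ∈ M, l * m * l⁻¹ ∈ M) → (Nat.card M).Coprime p → M = ⊥) := by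
  classical
  have hp : p.Prime := Fact.out
  set F₀ := fixField σ with hF₀
  letI : Fintype F₀ := Fintype.ofFinite _
  have hi : ∀ x : F, σ x = x ↔ ∃ y, F₀.subtype y = x :=
    fun x => ⟨fun h => ⟨⟨x, h⟩, rfl⟩, by rintro ⟨y, rfl⟩; exact y.2⟩
  have hn₀ := nondeg_fix hn hσm
  obtain ⟨f, hf, hfΩ⟩ := exists_isoMap (k := k) F₀.subtype (a := a) (b := b)
    (a₀ := (⟨a, hσm.1⟩ : F₀)) (b₀ := ⟨b, hσm.2⟩) rfl rfl
  let em : Om k F₀ ⟨a, hσm.1⟩ ⟨b, hσm.2⟩ →* Om k F a b :=
    (f.comp (Cfsg.Omega F₀ _).subtype).codRestrict _ fun g => hfΩ _ g.2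
  have hem : ∀ t, ro k F a b (em t) = Matrix.GeneralLinearGroup.map F₀.subtype (rho _ t) := fun t => hf t.1
  let ψ : Om k F₀ ⟨a, hσm.1⟩ ⟨b, hσm.2⟩ →* PG k F a b := (pi k F a b).comp em
  have hψfix : ∀ t, ψ t ∈ Fix φ := fun t => fix_of_fixed hσm hφ (by
    rw [hem]; exact Units.ext (Matrix.ext fun p q => fixField_fixed _))
  -- the centre is killed
  have hker : ∀ t, pi k F₀ _ _ t = 1 → ψ t = 1 := by
    intro t ht
    obtain ⟨c, hc⟩ := (mk_eq_one_iff hk hn₀ t).1 ht
    refine (mk_eq_one_iff hk hn (em t)).2 ⟨Units.map (F₀.subtype : F₀ →* F) c, ?_⟩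
    rw [hem, hc]
    refine Units.ext (Matrix.ext fun p q => ?_)
    show F₀.subtype ((scalarGL (Idx k) c : GL (Idx k) F₀) p q) = _
    rw [AutPSL.scalarGL_coe, AutPSL.scalarGL_coe]
    by_cases hpq : p = q <;> simp [hpq]
  have hker' : ∀ t, ψ t = 1 → pi k F₀ _ _ t = 1 := by
    intro t ht
    obtain ⟨c, hc⟩ := (mk_eq_one_iff hk hn (em t)).1 ht
    rw [hem] at hc
    refine (QuotientGroup.eq_one_iff _).2 (Subgroup.mem_center_iff.2 fun u => rho_injective _ ?_)
    have hinj : Function.Injective (Matrix.GeneralLinearGroup.map F₀.subtype :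
        GL (Idx k) F₀ →* GL (Idx k) F) := fun x y h => Units.ext (Matrix.ext fun p q =>
      Subtype.ext (congrArg (fun z : GL (Idx k) F => (z : Matrix (Idx k) (Idx k) F) p q) h))
    apply hinj
    rw [map_mul, map_mul, map_mul, map_mul, hc, AutPSL.scalarGL_mul_comm]
  haveI := hsimple
  have hrat : ∀ s : Om k F a b, fieldMap σ (ro k F a b s) = ro k F a b s →
      ∃ g : ↥(Cfsg.isometryGroup F₀ (Cfsg.quadFormMinus k F₀ ⟨a, hσm.1⟩ ⟨b, hσm.2⟩)),
        f g = (s : ↥(Cfsg.isometryGroup F _)) := by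
    intro s hs
    obtain ⟨g, hg⟩ := exists_rational F₀.subtype (a₀ := (⟨a, hσm.1⟩ : F₀)) (b₀ := ⟨b, hσm.2⟩) rfl rfl hi hs
    exact ⟨g, Subtype.ext ((hf g).trans hg)⟩
  have hfix : ∀ β : MulAut (PG k F a b), (∃ (g : GL (Idx k) F) (τ : F ≃+* F),
      Cfsg.IsSemisimilarityPair (Cfsg.quadFormMinus k F a b) g τ ∧ Induced (ro k F a b) g τ β) →
      (∀ t, β (ψ t) = ψ t) → β ^ p = 1 := fun β hs hβ =>
    pow_eq_one_of_fix hk hn hσm hσ hs fun t s hs => by
      rw [show s = em t from rho_injective _ (hs.trans (hem t).symm)]; exact hβ t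
  have heven : p = 2 → 2 ∣ Nat.card ψ.range := by
    intro e2
    have h20 : (2 : F₀) ≠ 0 := fun h => h2 e2 (by rw [← map_ofNat F₀.subtype 2, h, map_zero])
    obtain ⟨t, ht1, ht2⟩ := exists_involution hk hn₀ h20
    have h : orderOf (⟨ψ t, ⟨t, rfl⟩⟩ : ψ.range) = 2 := by
      refine orderOf_eq_prime (Subtype.ext ?_) fun e => ht1 (hker' t (congrArg Subtype.val e))
      show (ψ t) ^ 2 = 1
      rw [pow_two, ← map_mul]
      exact hker _ ht2
    have h' := orderOf_dvd_natCard (⟨ψ t, ⟨t, rfl⟩⟩ : ψ.range)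
    rwa [h] at h'
  refine ⟨fun e => ?_, fun e2 => ?_, fun β hβ => hfix β (hsem β hβ) fun t => hβ _ (hψfix t),
    fun hdvd M hM hnor hcop => ?_⟩
  · obtain ⟨x, hx⟩ := exists_ne (1 : PG k F₀ ⟨a, hσm.1⟩ ⟨b, hσm.2⟩)
    obtain ⟨t, rfl⟩ := QuotientGroup.mk_surjective x
    have := hψfix t
    rw [e, Subgroup.mem_bot] at this
    exact hx (hker' t this)
  · exact (heven e2).trans (Subgroup.card_dvd_of_le (by rintro _ ⟨t, rfl⟩; exact hψfix t))
  have hnorm : (M.comap ψ).Normal := ⟨fun x hx g => by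
    show ψ (g * x * g⁻¹) ∈ M
    rw [map_mul, map_mul, map_inv]
    exact hnor _ (hψfix g) _ hx⟩
  rcases IsSimpleGroup.eq_bot_or_eq_top_of_normal _
    (hnorm.map (pi k F₀ ⟨a, hσm.1⟩ ⟨b, hσm.2⟩) (QuotientGroup.mk'_surjective _)) with hbot | htop
  · refine (Subgroup.eq_bot_iff_forall _).2 fun x hx => ?_
    obtain ⟨s, hs, hsf⟩ : ∃ s : Om k F a b, pi k F a b s = x ∧
        fieldMap σ (ro k F a b s) = ro k F a b s := by
      by_cases e2 : p = 2
      · have ho : Odd (orderOf x) := by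
          have h6 : orderOf x ∣ Nat.card M := by
            have h := orderOf_dvd_natCard (⟨x, hx⟩ : M)
            rwa [Subgroup.orderOf_mk] at h
          exact (Nat.coprime_two_right.1 (e2 ▸ hcop)).of_dvd_nat h6
        obtain ⟨j, hj⟩ := ho
        obtain ⟨s, hs⟩ := QuotientGroup.mk_surjective (x ^ (j + 1))
        refine ⟨s * s, ?_, fixed_sq hk hn hσm hφ ?_⟩
        · rw [map_mul, show pi k F a b s = x ^ (j + 1) from hs, ← pow_add,
            show j + 1 + (j + 1) = orderOf x + 1 by omega, pow_succ, pow_orderOf_eq_one, one_mul]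
        · rw [show pi k F a b s = x ^ (j + 1) from hs]
          exact pow_mem (hM hx) _
      · obtain ⟨s, rfl⟩ := QuotientGroup.mk_surjective x
        exact ⟨s, rfl, fixed_of_odd hk hn hσm hφ (hM hx) (hσ ▸ hp.odd_of_ne_two e2)⟩
    obtain ⟨g, hg⟩ := hrat s hsf
    have hfixed : ∀ t, MulAut.conj x (ψ t) = ψ t := by
      intro t
      let t' : Om k F₀ ⟨a, hσm.1⟩ ⟨b, hσm.2⟩ := ⟨g * t * g⁻¹,
        (Subgroup.commutator_normal (⊤ : Subgroup ↥(Cfsg.isometryGroup F₀ _)) ⊤).conj_mem _ t.2 g⟩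
      have himg : ψ t' = x * ψ t * x⁻¹ := by
        rw [← hs]
        show pi _ F a b (em t') = pi _ F a b s * pi _ F a b (em t) * (pi _ F a b s)⁻¹
        rw [← map_inv, ← map_mul, ← map_mul]
        refine congrArg _ (Subtype.ext ?_)
        show f (g * t.1 * g⁻¹) = s.1 * f t.1 * s.1⁻¹
        rw [map_mul, map_mul, map_inv, hg]
      have h3 : t' * t⁻¹ ∈ M.comap ψ := by
        show ψ (t' * t⁻¹) ∈ M
        rw [map_mul, map_inv, himg]
        have h0 := M.mul_mem hx (hnor _ (hψfix t) _ (M.inv_mem hx))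
        simpa [mul_assoc] using h0
      have h4 : pi _ F₀ _ _ (t' * t⁻¹) = 1 := by
        have := Subgroup.mem_map_of_mem (pi k F₀ ⟨a, hσm.1⟩ ⟨b, hσm.2⟩) h3
        rwa [hbot, Subgroup.mem_bot] at this
      have h5 := hker _ h4
      rw [map_mul, map_inv, himg, mul_inv_eq_one] at h5
      exact h5
    have h4 := hfix _ ⟨_, _, isSemi_ro s, hs ▸ induced_conj s⟩ hfixed
    rw [← map_pow, ← map_one (MulAut.conj : PG k F a b →* _)] at h4
    have h5 := CG26.PSpLB.conj_injective (center_pg hk hn) h4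
    have h6 : orderOf x ∣ Nat.card M := by
      have h := orderOf_dvd_natCard (⟨x, hx⟩ : M)
      rwa [Subgroup.orderOf_mk] at h
    exact orderOf_eq_one_iff.1 (Nat.eq_one_of_dvd_coprimes hcop h6 (orderOf_dvd_of_pow_eq_one h5))
  · exfalso
    have hle : ∀ t, ψ t ∈ M := fun t => by
      obtain ⟨n, hn', he⟩ : pi k F₀ _ _ t ∈
          (M.comap ψ).map (pi k F₀ ⟨a, hσm.1⟩ ⟨b, hσm.2⟩) := htop ▸ Subgroup.mem_top _
      have h1 := hker (n⁻¹ * t) (by rw [map_mul, map_inv, he, inv_mul_cancel])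
      rw [map_mul, map_inv, inv_mul_eq_one] at h1
      exact h1 ▸ hn'
    by_cases e2 : p = 2
    · subst e2
      exact hp.coprime_iff_not_dvd.1 hcop.symm
        ((heven rfl).trans (Subgroup.card_dvd_of_le (by rintro _ ⟨t, rfl⟩; exact hle t)))
    obtain ⟨⟨x, hx⟩, hxo⟩ := exists_prime_orderOf_dvd_card' p hdvd
    rw [Subgroup.orderOf_mk] at hxo
    obtain ⟨s, rfl⟩ := QuotientGroup.mk_surjective x
    obtain ⟨g, hg⟩ := hrat s (fixed_of_odd hk hn hσm hφ hx (hσ ▸ hp.odd_of_ne_two e2))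
    have hgg := sq_mem_omega (qf k F₀ (⟨a, hσm.1⟩ : F₀) ⟨b, hσm.2⟩) hn₀ (by simp; omega) g
    have hx2 : pi k F a b s * pi k F a b s ∈ M := by
      have e : em ⟨g * g, hgg⟩ = s * s := Subtype.ext (by
        show f (g * g) = _
        rw [map_mul, hg]; rfl)
      have := hle ⟨g * g, hgg⟩
      change pi _ F a b _ ∈ M at this
      rwa [e, map_mul] at this
    change orderOf (pi k F a b s) = p at hxo
    have h7 : orderOf (pi k F a b s * pi k F a b s) ∣ Nat.card M := by
      have h := orderOf_dvd_natCard (⟨_, hx2⟩ : M)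
      rwa [Subgroup.orderOf_mk] at h
    have h8 : orderOf (pi k F a b s * pi k F a b s) ∣ p := by
      rw [← hxo, ← pow_two]; exact orderOf_pow_dvd 2
    have h9 := orderOf_eq_one_iff.1 (Nat.eq_one_of_dvd_coprimes hcop h7 h8)
    have h10 : p ∣ 2 := hxo ▸ orderOf_dvd_of_pow_eq_one (by rw [pow_two]; exact h9)
    exact e2 ((Nat.prime_dvd_prime_iff_eq hp Nat.prime_two).1 h10)

end Cfsg.Agent.PlusBal
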