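import Cfsg.Agent.PlusBal.Semi
import Cfsg.Agent.PlusBal.Field
import Cfsg.Agent.LocalEven61.Balance

/-!
Automorphisms of `PΩ⁺_{2m}` that become standard field automorphisms in split coordinates fixed by
them: the criterion (helper11).
-/

set_option autoImplicit false
set_option maxHeartbeats 1600000

namespace Cfsg.Agent.PlusBal

open Matrix QuadraticMap
open Cfsg.Agent.AutPSL (fieldMap scalarGL Induced act)
open Cfsg.Agent.FieldAutGen Cfsg.Agent.FieldAutGen.Orth
open Cfsg.Agent.FieldAutGen.Minus (Idx qf qf_sigma fixer)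
open Cfsg.Agent.UnitaryOrthogonal.Adjoint (I4)
open Cfsg.Agent.CG26.AutPO.D4 (bv)
open Cfsg.Agent.CG26.PSpLB (Fix mem_fix)
open Cfsg.Agent.LocalEven61.POMinusBalance (PG pi ro siegel_map)

universe u v

variable {F : Type u} [Field F] [Fintype F]

theorem congr_siegel {ι ι' : Type} [Fintype ι] [DecidableEq ι] [Fintype ι'] [DecidableEq ι']
    {Q : QuadraticForm F (ι → F)} {Q' : QuadraticForm F (ι' → F)} (T : (ι → F) ≃ₗ[F] (ι' → F))
    (hT : ∀ v, Q' (T v) = Q v) {g : GL ι F} {u w : ι → F}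
    (hg : (g : Matrix ι ι F) = Cfsg.siegelMatrix ⇑Q u w 1) :
    (glT T g : Matrix ι' ι' F) = Cfsg.siegelMatrix ⇑Q' (T u) (T w) 1 := by
  refine Matrix.ext_iff_mulVec.mpr fun y => ?_
  obtain ⟨x, rfl⟩ := T.surjective y
  have hp : ∀ a c, polar ⇑Q' (T a) (T c) = polar ⇑Q a c := fun a c => by
    simp only [polar, ← map_add, hT]
  rw [glT_mulVec, hg, Reflections.siegel_mulVec, Reflections.siegel_mulVec, hp, hp, map_sub, map_add,
    map_smul, map_smul]

/-- The criterion, read through an isomorphism. -/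
theorem core_of_congr {K : Type u} [Group K] [Finite K] {K' : Type v} [Group K']
    (hZ : Subgroup.center K = ⊥) {p : ℕ} [Fact p.Prime] {x : MulAut K} (ψ : K ≃* K')
    (h1 : Fix (MulAut.congr ψ x) ≠ ⊥)
    (h2 : ∀ β : MulAut K', (∀ z ∈ Fix (MulAut.congr ψ x), β z = z) → β ^ p = 1)
    (h3 : p ∣ Nat.card (Fix (MulAut.congr ψ x)) → ∀ M : Subgroup K', M ≤ Fix (MulAut.congr ψ x) →
      (∀ l ∈ Fix (MulAut.congr ψ x), ∀ m ∈ M, l * m * l⁻¹ ∈ M) → (Nat.card M).Coprime p → M = ⊥)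
    (A : Subgroup (MulAut K)) (hinn : ∀ z : K, MulAut.conj z ∈ A) :
    (Cfsg.pPrimeCore p ↥(A ⊓ Subgroup.centralizer {x}) ≠ ⊥ ↔ Nat.Coprime p (Nat.card (Fix x))) ∧
      Nat.card (Fix (MulAut.congr ψ x)) = Nat.card (Fix x) := by
  have hcard : (Fix x).map ψ.toMonoidHom = Fix (MulAut.congr ψ x) := by
    ext z
    constructor
    · rintro ⟨y, hy, rfl⟩
      show ψ (x (ψ.symm (ψ y))) = ψ y
      rw [ψ.symm_apply_apply]
      exact congrArg ψ hy
    · intro hz
      refine ⟨ψ.symm z, ?_, ψ.apply_symm_apply z⟩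
      exact ψ.injective ((show ψ (x (ψ.symm z)) = z from hz).trans (ψ.apply_symm_apply z).symm)
  have hinj : Function.Injective ψ.toMonoidHom := ψ.injective
  refine ⟨CG26.PSpLB.core_iff hZ (x := x) ?_ ?_ ?_ A hinn, by
    rw [← hcard, Subgroup.card_map_of_injective hinj]⟩
  · intro e
    refine h1 ?_
    rw [← hcard, e, Subgroup.map_bot]
  · intro β hβ
    have h4 : (MulAut.congr ψ β) ^ p = 1 := h2 _ fun z hz => by
      rw [← hcard] at hz
      obtain ⟨y, hy, rfl⟩ := hz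
      show ψ (β (ψ.symm (ψ y))) = ψ y
      rw [ψ.symm_apply_apply, hβ y hy]
    rw [← map_pow, ← map_one (MulAut.congr ψ)] at h4
    exact (MulAut.congr ψ).injective h4
  · intro hdvd M hM hnor hcop
    have h4 : M.map ψ.toMonoidHom = ⊥ := by
      refine h3 (by rw [← hcard, Subgroup.card_map_of_injective hinj]; exact hdvd) _
        (hcard ▸ Subgroup.map_mono hM) ?_ (by rwa [Subgroup.card_map_of_injective hinj])
      rintro l hl _ ⟨z, hz, rfl⟩
      rw [← hcard] at hl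
      obtain ⟨y, hy, rfl⟩ := hl
      exact ⟨y * z * y⁻¹, hnor _ hy _ hz, by rw [map_mul, map_mul, map_inv]⟩
    exact (Subgroup.map_eq_bot_iff_of_injective _ hinj).1 h4

theorem center_plus {k : ℕ} (hk : 3 ≤ k) :
    Subgroup.center (Cfsg.POmega F (Cfsg.quadFormPlus (k + 1) F)) = ⊥ := by
  obtain ⟨θ, -⟩ := exists_compat (f := Cfsg.quadFormPlus (k + 1) F) (f' := Cfsg.quadFormMinus k F 1 0)
    (splitT (k := k) 1 0 (by simp)) (splitT_form 1 0 0 (by simp) (by simp))
  have hc := center_pg hk (split_nondeg (k := k) (1 : F) 0 0 (by simp) (by simp))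
  refine (Subgroup.eq_bot_iff_forall _).2 fun z hz => θ.injective ?_
  rw [map_one, ← Subgroup.mem_bot (G := PG k F 1 0), ← hc, Subgroup.mem_center_iff]
  intro y
  obtain ⟨w, rfl⟩ := θ.surjective y
  rw [← map_mul, ← map_mul, Subgroup.mem_center_iff.1 hz w]

/-- The criterion for an automorphism standard in split coordinates. -/
theorem std_core {k : ℕ} (hk : 3 ≤ k) {a b t : F} (hd : a + 2 * t ≠ 0) (ht : t * t + a * t + b = 0)
    {θ : Cfsg.POmega F (Cfsg.quadFormPlus (k + 1) F) ≃* PG k F a b}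
    (hθ : Compat (splitT (k := k) a t hd) θ)
    {p : ℕ} [Fact p.Prime] {σ : F ≃+* F} (hσm : σ ∈ fixer a b) (hσ : orderOf σ = p)
    (hsimple : IsSimpleGroup (PG k (fixField σ) (⟨a, hσm.1⟩ : fixField σ) ⟨b, hσm.2⟩))
    (h2 : p = 2 → (2 : F) ≠ 0) {x : MulAut (Cfsg.POmega F (Cfsg.quadFormPlus (k + 1) F))}
    (hx : Induced (ro k F a b) 1 σ (MulAut.congr θ x))
    (A : Subgroup (MulAut (Cfsg.POmega F (Cfsg.quadFormPlus (k + 1) F))))
    (hinn : ∀ z, MulAut.conj z ∈ A) :
    (Cfsg.pPrimeCore p ↥(A ⊓ Subgroup.centralizer {x}) ≠ ⊥ ↔ Nat.Coprime p (Nat.card (Fix x))) ∧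
      (p = 2 → 2 ∣ Nat.card (Fix x)) := by
  classical
  have hTf := splitT_form (k := k) a b t hd ht
  have hn := split_nondeg (k := k) a b t hd ht
  obtain ⟨h1, heven, h3, h4⟩ := fix_hyps hk hn hσm hσ hsimple h2 hx fun β hβ => by
    obtain ⟨g₀, τ, hg₀, hb₀⟩ : IsSemiAut (Cfsg.quadFormPlus (k + 1) F) ((MulAut.congr θ).symm β) := by
      rcases Nat.lt_or_ge (k + 1) 5 with h | h
      · obtain rfl : k = 3 := by omega
        refine semi_of_fix4 fun j hj s hs => ?_
        obtain ⟨s', hs', hsr⟩ := hθ s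
        show θ.symm (β (θ (QuotientGroup.mk s))) = QuotientGroup.mk s
        have hfx : pi 3 F a b s' ∈ Fix (MulAut.congr θ x) := fix_of_fixed hσm hx (Units.ext ?_)
        · rw [hs', show β (QuotientGroup.mk s') = QuotientGroup.mk s' from hβ _ hfx, ← hs', θ.symm_apply_apply]
        have hmat := congr_siegel (Q := Plus.qf (3 + 1) F) (Q' := qf 3 F a b) (splitT a t hd)
          (fun v => hTf v) (g := rho (Cfsg.quadFormPlus (3 + 1) F) s) hs
        have hrat : ∀ i : I4, i = .inl 0 ∨ i = .inl 2 ∨ i = .inr 2 →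
            σ ∘ splitT (k := 3) a t hd (bv i) = splitT (k := 3) a t hd (bv i) := by
          intro i hi
          funext l
          rcases l with (l | l) | l
          · show σ (bv i _) = bv i _
            by_cases e : (Sum.inl l.castSucc : I4) = i <;> simp [bv, Pi.single_apply, e]
          · show σ (bv i _) = bv i _
            by_cases e : (Sum.inr l.castSucc : I4) = i <;> simp [bv, Pi.single_apply, e]
          · rcases hi with rfl | rfl | rfl <;> fin_cases l <;>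
              simp [(splitT_inr a t hd _).1, (splitT_inr a t hd _).2, bv, Fin.ext_iff]
        rw [AutPSL.fieldMap_coe, hsr, hmat]
        refine (siegel_map (σ : F →+* F) (a₀ := a) (b₀ := b) hσm.1 hσm.2 _ _).trans ?_
        rw [show (σ : F →+* F) ∘ splitT (k := 3) a t hd (bv (.inl 0)) = _ from hrat _ (Or.inl rfl),
          show (σ : F →+* F) ∘ splitT (k := 3) a t hd (bv j) = _ from hrat j (Or.inr hj)]
      · obtain ⟨g', τ, h1, h2⟩ := Plus.exists_sim_induced h ((MulAut.congr θ).symm β)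
        exact ⟨g', τ, Plus.isSemi_sim h1 τ, h2⟩
    obtain ⟨g', -, hg', hb'⟩ := hθ.transfer hTf hg₀ hb₀
    rw [MulEquiv.apply_symm_apply] at hb'
    exact ⟨g', τ, hg', hb'⟩
  obtain ⟨hcore, hcard⟩ := core_of_congr (center_plus hk) θ h1 h3 h4 A hinn
  exact ⟨hcore, fun e => hcard ▸ heven e⟩

/-- `PΩ` of the split form is simple. -/
theorem simple_split {k : ℕ} (hk : 3 ≤ k) {a b t : F} (hd : a + 2 * t ≠ 0) (ht : t * t + a * t + b = 0) :
    IsSimpleGroup (PG k F a b) := by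
  obtain ⟨θ, -⟩ := exists_compat (f := Cfsg.quadFormPlus (k + 1) F) (f' := Cfsg.quadFormMinus k F a b)
    (splitT (k := k) a t hd) (splitT_form a b t hd ht)
  obtain ⟨j, rfl⟩ : ∃ j, k = j + 1 := ⟨k - 1, by omega⟩
  haveI := (UnitaryOrthogonal.pomega_plus (F := F) j (by omega)).1
  exact MulEquiv.isSimpleGroup θ.symm

/-- The criterion for a standard field automorphism. -/
theorem field_core {k : ℕ} (hk : 3 ≤ k) {p : ℕ} [Fact p.Prime] {σ : F ≃+* F} (hσ : orderOf σ = p)
    (h2 : p = 2 → (2 : F) ≠ 0) {φ : MulAut (Cfsg.POmega F (Cfsg.quadFormPlus (k + 1) F))}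
    (hφ : Induced (rho (Cfsg.quadFormPlus (k + 1) F)) 1 σ φ)
    (A : Subgroup (MulAut (Cfsg.POmega F (Cfsg.quadFormPlus (k + 1) F))))
    (hinn : ∀ z, MulAut.conj z ∈ A) :
    (Cfsg.pPrimeCore p ↥(A ⊓ Subgroup.centralizer {φ}) ≠ ⊥ ↔ Nat.Coprime p (Nat.card (Fix φ))) ∧
      (p = 2 → 2 ∣ Nat.card (Fix φ)) := by
  have hd : (1 : F) + 2 * 0 ≠ 0 := by simp
  have ht : (0 : F) * 0 + 1 * 0 + 0 = 0 := by simp
  have hT := splitT_form (k := k) (1 : F) 0 0 hd ht
  obtain ⟨θ, hθ⟩ := exists_compat _ hT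
  have hσm : σ ∈ fixer (1 : F) 0 := ⟨map_one σ, map_zero σ⟩
  obtain ⟨g', hg', -, hb⟩ := hθ.transfer hT (isSemi_std fun v => Plus.qf_sigma σ v) hφ
  have hg1 : g' = 1 := gl_ext fun w => by
    obtain ⟨v, rfl⟩ : ∃ v, w = σ ∘ splitT (k := k) (1 : F) 0 hd v := by
      refine ⟨(splitT (k := k) (1 : F) 0 hd).symm (σ.symm ∘ w), ?_⟩
      rw [LinearEquiv.apply_symm_apply]
      exact funext fun l => (σ.apply_symm_apply _).symm
    rw [hg']
    simp only [Units.val_one, one_mulVec]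
    funext l
    rcases l with (l | l) | l
    · rfl
    · rfl
    · fin_cases l <;> simp [(splitT_inr (1 : F) 0 hd _).1, (splitT_inr (1 : F) 0 hd _).2]
  subst hg1
  refine std_core hk hd ht hθ hσm hσ ?_ h2 hb A hinn
  letI : Fintype (fixField σ) := Fintype.ofFinite _
  exact simple_split hk (t := (0 : fixField σ)) (by
    show (1 : fixField σ) + 2 * 0 ≠ 0
    simp) (Subtype.ext (by push_cast; simp))

end Cfsg.Agent.PlusBal
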