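import Cfsg.Agent.PlusBal.Trans

/-!
The unipotent radical of a flag, opposite flags, and the fixed elements of an automorphism permuting
the classes cyclically (helper11).
-/

set_option autoImplicit false
set_option maxHeartbeats 800000
set_option linter.unusedSectionVars false
set_option synthInstance.maxSize 1024
set_option synthInstance.maxHeartbeats 200000

namespace Cfsg.Agent.PlusBal.Tri

open QuadraticMap Cfsg.Lie
open Cfsg.Agent.UnitaryOrthogonal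
open Cfsg.Agent.UnitaryOrthogonal.Adjoint (I4 d4Pair)
open Cfsg.Agent.CG26.AutPO (Om piO piO_surjective simRange IsLn IsU eb eo)
open Cfsg.Agent.CG26.AutPO.D4 (setup4 tau bv X tau_cube exists_decomp polar_bv q_bv bv_ne_zero)

universe u

variable {F : Type u} [Field F]

local notation "𝐐" => qPlus 4 F
local notation "W₀" => Upt (e0 (F := F))
local notation "W₁" => Usp (spc (F := F) T1)
local notation "W₂" => Usp (spc (F := F) T2)
local notation "O₀" => Upt (f0 (F := F))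
local notation "O₁" => Usp (spc (F := F) O1)
local notation "O₂" => Usp (spc (F := F) O2)

/-! ### The filtration -/

/-- The height of a coordinate with respect to the flag. -/
def lev : I4 → ℕ
  | .inl i => if i = 0 then 4 else if i = 3 then 2 else 3
  | .inr i => if i = 0 then 0 else if i = 3 then 2 else 1

/-- The filtration. -/
def Fil (n : ℕ) : Submodule F (I4 → F) where
  carrier := {v | ∀ j, lev j < n → v j = 0}
  add_mem' := fun {a b} ha hb j hj => by rw [Pi.add_apply, ha j hj, hb j hj, add_zero]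
  zero_mem' := fun j _ => rfl
  smul_mem' := fun c v hv j hj => by rw [Pi.smul_apply, hv j hj, smul_zero]

theorem Fil_mono {m n : ℕ} (h : m ≤ n) : Fil (F := F) n ≤ Fil m := fun _ hv j hj =>
  hv j (lt_of_lt_of_le hj h)

theorem Fil_top {n : ℕ} (h : 5 ≤ n) {v : I4 → F} (hv : v ∈ Fil n) : v = 0 := by
  have h5 : ∀ j, lev j < 5 := by decide
  exact funext fun j => hv j (lt_of_lt_of_le (h5 j) h)

theorem bv_mem_Fil (j : I4) : bv (F := F) j ∈ Fil (lev j) := fun i hi =>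
  Pi.single_eq_of_ne (show i ≠ j from fun e => by rw [e] at hi; exact lt_irrefl _ hi) _

variable [Fintype F]

/-- The unipotent radical upstairs. -/
noncomputable def Uni : Subgroup (Om 𝐐) where
  carrier := {h | ∀ n, ∀ v ∈ Fil n, h.1.1 v - v ∈ Fil (n + 1)}
  one_mem' := fun n v _ => by simp
  mul_mem' := by
    intro h k hh hk n v hv
    have hkv : k.1.1 v ∈ Fil n := by
      rw [show k.1.1 v = v + (k.1.1 v - v) by abel]
      exact (Fil (F := F) n).add_mem hv (Fil_mono (Nat.le_succ n) (hk n v hv))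
    rw [Subgroup.coe_mul, coe_mul_apply,
      show h.1.1 (k.1.1 v) - v = (h.1.1 (k.1.1 v) - k.1.1 v) + (k.1.1 v - v) by abel]
    exact (Fil (F := F) (n + 1)).add_mem (hh n _ hkv) (hk n v hv)
  inv_mem' := by
    intro h hh n v hv
    haveI := (setup4 (F := F)).finiteV
    obtain ⟨w, hw⟩ := (Finite.injective_iff_surjective.1
      (show Function.Injective (fun v : Fil (F := F) n => (⟨h.1.1 v, by
          rw [show h.1.1 (v : I4 → F) = v + (h.1.1 v - v) by abel]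
          exact (Fil (F := F) n).add_mem v.2 (Fil_mono (Nat.le_succ n) (hh n v v.2))⟩ : Fil (F := F) n)) from
        fun a b e => Subtype.ext (h.1.1.injective (congrArg Subtype.val e)))) ⟨v, hv⟩
    have e : h.1.1 w.1 = v := congrArg Subtype.val hw
    rw [← e, Subgroup.coe_inv, coe_inv_apply_apply, show w.1 - h.1.1 w.1 = -(h.1.1 w.1 - w.1) by abel]
    exact (Fil (F := F) (n + 1)).neg_mem (hh n w.1 w.2)

theorem Uni.pow_fix {h : Om 𝐐} (hh : h ∈ Uni) :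
    ∀ k : ℕ, ∀ v ∈ Fil (F := F) (5 - k), (h ^ ringChar F ^ k).1.1 v = v := by
  intro k
  induction k with
  | zero => intro v hv; rw [Fil_top le_rfl hv, map_zero]
  | succ k ih =>
    intro v hv
    set g := h ^ ringChar F ^ k
    have hd : g.1.1 (g.1.1 v - v) = g.1.1 v - v :=
      ih _ (Fil_mono (by omega) ((pow_mem hh _ : g ∈ Uni) _ v hv))
    have key : ∀ n : ℕ, (g ^ n).1.1 v = v + (n : F) • (g.1.1 v - v) := by
      intro n
      induction n with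
      | zero => simp
      | succ n ihn =>
        rw [pow_succ', Subgroup.coe_mul, coe_mul_apply, ihn, map_add, map_smul, hd, Nat.cast_succ,
          add_smul, one_smul]
        abel
    rw [pow_succ, pow_mul, key, ringChar.Nat.cast_ringChar, zero_smul, add_zero]

theorem Uni.pow_eq_one {h : Om 𝐐} (hh : h ∈ Uni) : h ^ ringChar F ^ 5 = 1 :=
  Subtype.ext (orth_ext fun v => Uni.pow_fix hh 5 v fun j hj => absurd hj (Nat.not_lt_zero _))

theorem Uni.isU {h : Om 𝐐} (hh : h ∈ Uni) : IsU h := ⟨5, Uni.pow_eq_one hh⟩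

theorem Uni.inj {h k : Om 𝐐} (hh : h ∈ Uni) (hk : k ∈ Uni) (e : piO 𝐐 h = piO 𝐐 k) : h = k :=
  CG26.AutPO.piO_inj setup4 (Uni.isU hh) (Uni.isU hk) e

theorem Uni.sub_apply {h : Om 𝐐} (hh : h ∈ Uni) {i j : I4} (hij : lev j ≤ lev i) :
    ((h.1.1 (bv i) - bv i : I4 → F)) j = 0 :=
  hh _ _ (bv_mem_Fil i) j (Nat.lt_succ_of_le hij)

theorem Uni.fix_e0 {h : Om 𝐐} (hh : h ∈ Uni) : h.1.1 (e0 (F := F)) = e0 :=
  sub_eq_zero.1 (Fil_top le_rfl (hh _ _ (bv_mem_Fil (.inl 0))))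

theorem Uni.fixes {h : Om 𝐐} (hh : h ∈ Uni) : Fixes h (spc T1) ∧ Fixes h (spc T2) := by
  have key : ∀ T : Finset I4, (∀ j, 3 ≤ lev j → j ∈ T) → (∀ i ∈ T, 2 ≤ lev i) → Fixes h (spc T) := by
    intro T h1 h2 v hv
    have hd : h.1.1 v - v ∈ Fil 3 := hh 2 v fun j hj => hv j fun e => absurd (h2 j e) (not_le.2 hj)
    have : h.1.1 v - v ∈ spc T := fun i hi => hd i (not_le.1 fun e => hi (h1 i e))
    simpa using (spc (F := F) T).add_mem this hv
  exact ⟨key T1 (by decide) (by decide), key T2 (by decide) (by decide)⟩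

theorem eo_mem_Uni {i j : I4} (hji : polar 𝐐 (bv i) (bv (F := F) j) = 0) (h1 : lev i.swap < lev j)
    (h2 : lev j.swap < lev i) (c : F) : eo 𝐐 (bv i) (c • bv j) ∈ Uni := by
  intro n v hv
  rw [CG26.AutPO.eo_coe, eich_apply (q_bv i) (by rw [polar_smul_right, hji, smul_zero]), form_smul, q_bv,
    polar_smul_left, polar_bv, polar_bv]
  simp only [mul_zero, zero_mul, zero_smul, sub_zero, smul_eq_mul]
  have e1 : (v i.swap • c • bv j : I4 → F) ∈ Fil (n + 1) := by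
    by_cases hz : lev i.swap < n
    · rw [hv _ hz, zero_smul]; exact (Fil (F := F) _).zero_mem
    · exact (Fil (F := F) _).smul_mem _ ((Fil (F := F) _).smul_mem _ (Fil_mono (by omega) (bv_mem_Fil j)))
  have e2 : ((c * v j.swap) • bv i : I4 → F) ∈ Fil (n + 1) := by
    by_cases hz : lev j.swap < n
    · rw [hv _ hz, mul_zero, zero_smul]; exact (Fil (F := F) _).zero_mem
    · exact (Fil (F := F) _).smul_mem _ (Fil_mono (by omega) (bv_mem_Fil i))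
  rw [show v + v i.swap • c • bv j - (c * v j.swap) • bv i - v =
    v i.swap • c • bv j - (c * v j.swap) • bv i by abel]
  exact (Fil (F := F) _).sub_mem e1 e2

/-- The roots at a member of the base flag. -/
def rootsAt : Fin 3 → Fin chevD4.nroots → Prop
  | 0, r => (d4Pair r).1 = .inl 0 ∨ (d4Pair r).2.1 = .inl 0
  | 1, r => (d4Pair r).1 ∈ T1 ∧ (d4Pair r).2.1 ∈ T1
  | 2, r => (d4Pair r).1 ∈ T2 ∧ (d4Pair r).2.1 ∈ T2

instance (m : Fin 3) (r : Fin chevD4.nroots) : Decidable (rootsAt m r) := by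
  unfold rootsAt; split <;> infer_instance

/-- The base flag. -/
noncomputable def Wm : Fin 3 → Subgroup (P8 F) := ![W₀, W₁, W₂]

theorem Wm_eq (m : Fin 3) : Wm (F := F) m = RG (rootsAt m) := by
  fin_cases m
  · exact Upt_bv _
  · exact Usp_spc noPairs.1
  · exact Usp_spc noPairs.2.1

/-- The radical. -/
noncomputable def QW : Subgroup (P8 F) := W₀ ⊔ W₁ ⊔ W₂

theorem Wm_le (m : Fin 3) : Wm (F := F) m ≤ QW := by
  fin_cases m
  · exact le_sup_left.trans le_sup_left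
  · exact le_sup_right.trans le_sup_left
  · exact le_sup_right

theorem Wm_le_Uni (m : Fin 3) : Wm (F := F) m ≤ (Uni (F := F)).map (piO 𝐐) := by
  rw [Wm_eq, RG, Subgroup.closure_le]
  rintro _ ⟨r, t, hr, rfl⟩
  have key : ∀ m r, rootsAt m r → lev (d4Pair r).1.swap < lev (d4Pair r).2.1 ∧
      lev (d4Pair r).2.1.swap < lev (d4Pair r).1 := by decide +kernel
  exact ⟨_, eo_mem_Uni (CG26.AutPO.D4.isLn_root r).uz (key m r hr).1 (key m r hr).2 _, rfl⟩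

theorem exists_lift {g : P8 F} (hg : g ∈ QW) : ∃ h ∈ Uni (F := F), piO 𝐐 h = g :=
  (sup_le (sup_le (Wm_le_Uni 0) (Wm_le_Uni 1)) (Wm_le_Uni 2) : QW ≤ (Uni (F := F)).map (piO 𝐐)) hg

theorem QW_fix {g : P8 F} (hg : g ∈ QW) :
    mp (MulAut.conj g) W₀ = W₀ ∧ mp (MulAut.conj g) W₁ = W₁ ∧ mp (MulAut.conj g) W₂ = W₂ := by
  obtain ⟨h, hh, rfl⟩ := exists_lift hg
  exact ⟨by rw [mp_conj_Upt _ (q_bv _), Uni.fix_e0 hh], mp_conj_fix (Uni.fixes hh).1,
    mp_conj_fix (Uni.fixes hh).2⟩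

theorem QW_isPGroup (r : ℕ) [Fact r.Prime] [CharP F r] : IsPGroup r (QW (F := F)) := by
  rintro ⟨g, hg⟩
  obtain ⟨h, hh, rfl⟩ := exists_lift hg
  refine ⟨5, Subtype.ext ?_⟩
  show piO 𝐐 h ^ r ^ 5 = 1
  rw [← ringChar.eq F r, ← map_pow, Uni.pow_eq_one hh, map_one]

/-! ### The leading coefficients -/

/-- `f₁, f₂`. -/
def fk : Fin 2 → I4 := ![.inr 1, .inr 2]
/-- `e₁, e₂`. -/
def ek : Fin 2 → I4 := ![.inl 1, .inl 2]

/-- The column of a leading coefficient. -/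
def col : Fin 3 → Fin 2 → I4
  | 0, _ => .inr 0
  | _, k => fk k
/-- The row of a leading coefficient. -/
def row : Fin 3 → Fin 2 → I4
  | 0, k => fk k
  | 1, _ => .inr 3
  | 2, _ => .inl 3

/-- The leading coefficients upstairs. -/
def coef (l : Fin 3) (h : Om 𝐐) (k : Fin 2) : F := h.1.1 (bv (col l k)) (row l k)

theorem coef_mul {h h' : Om 𝐐} (hh : h ∈ Uni) (hh' : h' ∈ Uni) (l : Fin 3) :
    coef l (h * h') = coef l h + coef l h' := by
  funext k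
  have hlev : ∀ l k, lev (row l k) = lev (col l k) + 1 ∧ row l k ≠ col l k := by decide
  set i := col l k
  set j := row l k
  have hd := hh' _ _ (bv_mem_Fil (F := F) i)
  have h2 : ((h.1.1 (h'.1.1 (bv i) - bv i) - (h'.1.1 (bv i) - bv i) : I4 → F)) j = 0 :=
    hh _ _ hd j (by rw [(hlev l k).1]; exact Nat.lt_succ_self _)
  show (h * h').1.1 (bv i) j = h.1.1 (bv i) j + h'.1.1 (bv i) j
  rw [Subgroup.coe_mul, coe_mul_apply]
  rw [map_sub, Pi.sub_apply, Pi.sub_apply, Pi.sub_apply, bv, Pi.single_eq_of_ne (hlev l k).2] at h2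
  linear_combination h2

theorem coef_one (l : Fin 3) : coef l (1 : Om 𝐐) = 0 := by
  funext k
  have hlev : ∀ l k, row l k ≠ col l k := by decide
  show bv (F := F) (col l k) (row l k) = 0
  exact Pi.single_eq_of_ne (hlev l k) _

/-- The leading coefficients. -/
noncomputable def Φ (l : Fin 3) (g : P8 F) : Fin 2 → F :=
  open Classical in if h : ∃ h ∈ Uni (F := F), piO 𝐐 h = g then coef l h.choose else 0

theorem Φ_piO {h : Om 𝐐} (hh : h ∈ Uni) (l : Fin 3) : Φ l (piO 𝐐 h) = coef l h := by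
  have e : ∃ k ∈ Uni (F := F), piO 𝐐 k = piO 𝐐 h := ⟨h, hh, rfl⟩
  rw [Φ, dif_pos e, Uni.inj e.choose_spec.1 hh e.choose_spec.2]

theorem Φ_mul {g g' : P8 F} (hg : g ∈ QW) (hg' : g' ∈ QW) (l : Fin 3) :
    Φ l (g * g') = Φ l g + Φ l g' := by
  obtain ⟨h, hh, rfl⟩ := exists_lift hg
  obtain ⟨h', hh', rfl⟩ := exists_lift hg'
  rw [← map_mul, Φ_piO (mul_mem hh hh'), Φ_piO hh, Φ_piO hh', coef_mul hh hh']

theorem Φ_one (l : Fin 3) : Φ l (1 : P8 F) = 0 := by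
  rw [← map_one (piO 𝐐), Φ_piO (one_mem _), coef_one]

theorem Φ_kill {l m : Fin 3} (hlm : l ≠ m) {g : P8 F} (hg : g ∈ Wm m) : Φ l g = 0 := by
  rw [Wm_eq] at hg
  have hle : RG (F := F) (rootsAt m) ≤ QW := Wm_eq (F := F) m ▸ Wm_le m
  unfold RG at hg
  induction hg using Subgroup.closure_induction with
  | mem x hx =>
    obtain ⟨r, t, hr, rfl⟩ := hx
    have key : ∀ m r, rootsAt m r → lev (d4Pair r).1.swap < lev (d4Pair r).2.1 ∧
        lev (d4Pair r).2.1.swap < lev (d4Pair r).1 := by decide +kernel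
    have key2 : ∀ l m r, l ≠ m → rootsAt m r → ∀ k,
        ¬ ((d4Pair r).1.swap = col l k ∧ (d4Pair r).2.1 = row l k) ∧
        ¬ ((d4Pair r).2.1.swap = col l k ∧ (d4Pair r).1 = row l k) ∧ row l k ≠ col l k := by
      decide +kernel
    have hi := CG26.AutPO.D4.isLn_root (F := F) r
    rw [X, eb, Φ_piO (eo_mem_Uni hi.uz (key m r hr).1 (key m r hr).2 _)]
    funext k
    obtain ⟨k1, k2, k3⟩ := key2 l m r hlm hr k
    show (eo 𝐐 _ _).1.1 (bv (col l k)) (row l k) = 0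
    rw [CG26.AutPO.eo_coe, eich_apply (q_bv _) (by rw [polar_smul_right, hi.uz, smul_zero]), form_smul, q_bv,
      polar_smul_left, polar_bv, polar_bv]
    simp only [mul_zero, zero_mul, zero_smul, sub_zero, Pi.sub_apply, Pi.add_apply, Pi.smul_apply,
      bv, Pi.single_apply, smul_eq_mul]
    rw [if_neg k3]
    split_ifs <;> simp_all
  | one => exact Φ_one l
  | mul x y hx hy ex ey => rw [Φ_mul (hle hx) (hle hy), ex, ey, add_zero]
  | inv x hx ex =>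
    have e := Φ_mul (hle hx) (hle (inv_mem hx)) l
    rw [mul_inv_cancel, Φ_one, ex, zero_add] at e
    exact e.symm

theorem Φ_surj (l : Fin 3) (z : Fin 2 → F) : ∃ g ∈ Wm (F := F) l, Φ l g = z := by
  have mk : ∀ (u v : I4 → F), 𝐐 u = 0 → polar 𝐐 u v = 0 → eb 𝐐 u v ∈ Wm l →
      ∀ l', Φ l' (eb 𝐐 u v) = coef l' (eo 𝐐 u v) := by
    intro u v hu hv hm l'
    obtain ⟨h, hh, e⟩ := exists_lift (Wm_le l hm)
    have : h = eo 𝐐 u v :=
      CG26.AutPO.piO_inj setup4 (Uni.isU hh) (CG26.AutPO.eo_isU hu hv) e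
    rw [← e, Φ_piO hh, this]
  fin_cases l
  · set v : I4 → F := z 0 • bv (.inr 1) + z 1 • bv (.inr 2) with hv
    have hp : polar 𝐐 (e0 (F := F)) v = 0 := by rw [polar_bv]; simp [hv]
    refine ⟨eb 𝐐 e0 v, eb_mem_Upt hp, ?_⟩
    rw [mk _ _ (q_bv _) hp (eb_mem_Upt hp)]
    funext k
    show (eo 𝐐 e0 v).1.1 (bv (.inr 0)) (fk k) = z k
    rw [CG26.AutPO.eo_coe, eich_apply (q_bv _) hp, polar_comm _ v, polar_bv, polar_bv]
    fin_cases k <;> simp [hv, fk]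
  all_goals
    set v : I4 → F := (-z 0) • bv (.inl 1) + (-z 1) • bv (.inl 2) with hv
  · have hp : polar 𝐐 (bv (F := F) (.inr 3)) v = 0 := by rw [polar_bv]; simp [hv]
    have hv' : v ∈ spc T1 := (spc (F := F) T1).add_mem
      ((spc (F := F) T1).smul_mem _ (bv_mem_spc (by decide)))
      ((spc (F := F) T1).smul_mem _ (bv_mem_spc (by decide)))
    have hm := eb_mem_Usp (bv_mem_spc (F := F) (show (.inr 3 : I4) ∈ T1 by decide)) hv'
    refine ⟨_, hm, ?_⟩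
    rw [mk _ _ (q_bv _) hp hm]
    funext k
    show (eo 𝐐 (bv (.inr 3)) v).1.1 (bv (fk k)) (.inr 3) = z k
    rw [CG26.AutPO.eo_coe, eich_apply (q_bv _) hp, polar_comm _ v, polar_bv, polar_bv,
      ts_spc noPairs.1 v hv']
    fin_cases k <;> simp [hv, fk]
  · have hp : polar 𝐐 (bv (F := F) (.inl 3)) v = 0 := by rw [polar_bv]; simp [hv]
    have hv' : v ∈ spc T2 := (spc (F := F) T2).add_mem
      ((spc (F := F) T2).smul_mem _ (bv_mem_spc (by decide)))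
      ((spc (F := F) T2).smul_mem _ (bv_mem_spc (by decide)))
    have hm := eb_mem_Usp (bv_mem_spc (F := F) (show (.inl 3 : I4) ∈ T2 by decide)) hv'
    refine ⟨_, hm, ?_⟩
    rw [mk _ _ (q_bv _) hp hm]
    funext k
    show (eo 𝐐 (bv (.inl 3)) v).1.1 (bv (fk k)) (.inl 3) = z k
    rw [CG26.AutPO.eo_coe, eich_apply (q_bv _) hp, polar_comm _ v, polar_bv, polar_bv,
      ts_spc noPairs.2.1 v hv']
    fin_cases k <;> simp [hv, fk]

/-! ### Opposite flags -/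

/-- An element fixing the opposite base flag is trivial. -/
theorem QW_free {g : P8 F} (hg : g ∈ QW) (h0 : mp (MulAut.conj g) O₀ = O₀)
    (h1 : mp (MulAut.conj g) O₁ = O₁) (h2 : mp (MulAut.conj g) O₂ = O₂) : g = 1 := by
  obtain ⟨h, hh, rfl⟩ := exists_lift hg
  have hne : ∀ v : I4 → F, v ≠ 0 → h.1.1 v ≠ 0 := fun v hv e => hv (LinearEquiv.map_eq_zero_iff _ |>.1 e)
  rw [mp_conj_Upt _ (q_bv _)] at h0
  obtain ⟨c, hc⟩ := exists_smul_of_Upt_eq (q_bv _) (bv_ne_zero _) (by rw [map_form, q_bv])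
    (hne _ (bv_ne_zero _)) h0.symm
  have hO : ∀ i, (i ∈ O1 → h.1.1 (bv i) ∈ spc O1) ∧ (i ∈ O2 → h.1.1 (bv i) ∈ spc O2) := by
    intro i
    have e : mp (MulAut.conj (piO 𝐐 h)) (Upt (bv i)) = Upt (h.1.1 (bv i)) := mp_conj_Upt _ (q_bv _)
    have hq : 𝐐 (h.1.1 (bv i)) = 0 := by rw [map_form, q_bv]
    refine ⟨fun hi => ?_, fun hi => ?_⟩
    · refine (inc_base hq (hne _ (bv_ne_zero _))).2.2.1.1 ?_
      rw [← e, ← h1, inc_mp]
      exact (inc_base (q_bv i) (bv_ne_zero i)).2.2.1.2 (bv_mem_spc hi)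
    · refine (inc_base hq (hne _ (bv_ne_zero _))).2.2.2.1 ?_
      rw [← e, ← h2, inc_mp]
      exact (inc_base (q_bv i) (bv_ne_zero i)).2.2.2.2 (bv_mem_spc hi)
  have key : ∀ i, (∀ j, lev i < lev j → h.1.1 (bv i) j = 0) → h.1.1 (bv i) = bv i := by
    intro i hi
    funext j
    rcases Nat.lt_or_ge (lev i) (lev j) with e | e
    · rw [hi j e, bv, Pi.single_eq_of_ne (fun e' => by rw [e'] at e; exact lt_irrefl _ e)]
    · have := Uni.sub_apply hh e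
      rw [Pi.sub_apply, sub_eq_zero] at this
      exact this
  have f0' : h.1.1 (bv (.inr 0)) = bv (.inr 0) := key _ fun j hj => by
    rw [hc, Pi.smul_apply, bv, Pi.single_eq_of_ne (fun e => by rw [e] at hj; exact lt_irrefl _ hj),
      smul_zero]
  have hfix : ∀ i, i ≠ .inl 1 → i ≠ .inl 2 → h.1.1 (bv (F := F) i) = bv i := by
    intro i n1 n2
    have hcase : ∀ i j : I4, i ≠ .inl 1 → i ≠ .inl 2 → i ≠ .inl 0 → i ≠ .inr 0 → lev i < lev j →
        (i ∈ O1 ∧ j ∉ O1) ∨ (i ∈ O2 ∧ j ∉ O2) := by decide +kernel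
    by_cases n0 : i = .inl 0
    · subst n0; exact Uni.fix_e0 hh
    by_cases n3 : i = .inr 0
    · subst n3; exact f0'
    refine key i fun j hj => ?_
    rcases hcase i j n1 n2 n0 n3 hj with ⟨a, b⟩ | ⟨a, b⟩
    · exact (hO i).1 a j b
    · exact (hO i).2 a j b
  have hek : ∀ i, (i = .inl 1 ∨ i = .inl 2) → h.1.1 (bv (F := F) i) = bv i := by
    intro i hi
    refine key i fun j hj => ?_
    have hj' : ∀ i j : I4, (i = .inl 1 ∨ i = .inl 2) → lev i < lev j → j = .inl 0 := by decide +kernel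
    obtain rfl := hj' i j hi hj
    have e := map_polar h.1 (bv (.inr 0)) (bv i)
    rw [f0', polar_bv, polar_bv] at e
    rw [show (Sum.inl 0 : I4) = Sum.swap (Sum.inr 0) from rfl, e]
    rcases hi with rfl | rfl <;> simp
  have hall : ∀ i, h.1.1 (bv (F := F) i) = bv i := fun i => by
    by_cases e1 : i = .inl 1
    · exact hek i (Or.inl e1)
    by_cases e2 : i = .inl 2
    · exact hek i (Or.inr e2)
    exact hfix i e1 e2
  rw [show h = 1 from Subtype.ext (orth_ext fun v => by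
    conv_lhs => rw [vec_eq_sum v]
    rw [map_sum]
    conv_rhs => rw [show ((1 : Om 𝐐).1.1 v) = v from rfl, vec_eq_sum v]
    exact Finset.sum_congr rfl fun i _ => by rw [map_smul, hall]), map_one]

theorem conj_Cl (g : P8 F) {m : Fin 3} {a : Subgroup (P8 F)} (ha : a ∈ Cl m) :
    mp (MulAut.conj g) a ∈ Cl m := by
  obtain ⟨p, hp, hp0, rfl⟩ := ha
  obtain ⟨k, hk⟩ := piO_surjective ((tau ^ (m : ℕ))⁻¹ g)
  refine ⟨k.1.1 p, by rw [map_form, hp], fun e => hp0 (LinearEquiv.map_eq_zero_iff _ |>.1 e), ?_⟩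
  rw [← mp_conj_Upt k hp, hk, ← mp_mul, ← mp_mul]
  congr 1
  exact MulEquiv.ext fun y => by simp [MulAut.mul_apply, MulAut.conj_apply, map_mul, map_inv]

theorem conj_tau (α : MulAut (P8 F)) (g : P8 F) : MulAut.conj (α g) * α = α * MulAut.conj g :=
  MulEquiv.ext fun y => by simp [MulAut.mul_apply, MulAut.conj_apply, map_mul, map_inv]

/-- A triple opposite to the base flag. -/
structure Opp3 (a b c : Subgroup (P8 F)) : Prop where
  ha : a ∈ Cl 0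
  hb : b ∈ Cl 1
  hc : c ∈ Cl 2
  ab : Inc a b
  bc : Inc b c
  ca : Inc c a
  na : ¬ Inc a W₀
  nb : ¬ Inc b W₁
  nc : ¬ Inc c W₂

theorem inc_e0 {p : I4 → F} (hp : 𝐐 p = 0) (hp0 : p ≠ 0) : Inc (Upt p) W₀ ↔ p (.inr 0) = 0 := by
  rw [inc_Upt_Upt hp hp0 (q_bv _) (bv_ne_zero _), polar_comm, polar_bv]
  rfl

theorem Opp3.conj {a b c : Subgroup (P8 F)} (h : Opp3 a b c) {g : P8 F} (hg : g ∈ QW) :
    Opp3 (mp (MulAut.conj g) a) (mp (MulAut.conj g) b) (mp (MulAut.conj g) c) := by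
  obtain ⟨e0', e1', e2'⟩ := QW_fix hg
  exact ⟨conj_Cl g h.ha, conj_Cl g h.hb, conj_Cl g h.hc, inc_mp.2 h.ab, inc_mp.2 h.bc, inc_mp.2 h.ca,
    by rw [← e0', inc_mp]; exact h.na, by rw [← e1', inc_mp]; exact h.nb,
    by rw [← e2', inc_mp]; exact h.nc⟩

theorem opp3_base : Opp3 (F := F) O₀ O₁ O₂ := by
  have hf := q_bv (F := F) (.inr 0)
  have h01 : Inc O₀ O₁ := (inc_base hf (bv_ne_zero _)).2.2.1.2 (bv_mem_spc (by decide))
  have h02 : Inc O₀ O₂ := (inc_base hf (bv_ne_zero _)).2.2.2.2 (bv_mem_spc (by decide))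
  have h12 : Inc O₁ O₂ := by
    rw [← tau_O.1, ← tau_O.2.1, inc_mp]; exact h01
  have n0 : ¬ Inc O₀ W₀ := by rw [inc_e0 hf (bv_ne_zero _)]; simp
  have n1 : ¬ Inc O₁ W₁ := by rw [← tau_O.1, ← tau_T.1, inc_mp]; exact n0
  have n2 : ¬ Inc O₂ W₂ := by rw [← tau_O.2.1, ← tau_T.2.1, inc_mp]; exact n1
  exact ⟨O_mem.1, O_mem.2.1, O_mem.2.2, h01, h12, h02.symm, n0, n1, n2⟩

/-- **The radical is transitive on opposite flags.** -/
theorem exists_QW {a b c : Subgroup (P8 F)} (h : Opp3 a b c) :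
    ∃ g ∈ QW (F := F), mp (MulAut.conj g) O₀ = a ∧ mp (MulAut.conj g) O₁ = b ∧
      mp (MulAut.conj g) O₂ = c := by
  obtain ⟨p, hp, hp0, rfl⟩ := mem_Cl0.1 h.ha
  obtain ⟨z, d, hd, hz, hze, -, -⟩ := exists_shift hp (fun e => h.na ((inc_e0 hp hp0).2 e))
  set g₁ := eb 𝐐 e0 z
  have hg₁ : g₁ ∈ QW := Wm_le 0 (eb_mem_Upt hz)
  have e₁ : mp (MulAut.conj g₁) O₀ = Upt p := mp_smul_pt _ (q_bv _) hp hd hze
  have h' := h.conj (inv_mem hg₁)
  rw [← e₁, map_inv, mp_inv] at h'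
  set b' := mp (MulAut.conj g₁)⁻¹ b with hb'
  set c' := mp (MulAut.conj g₁)⁻¹ c with hc'
  obtain ⟨p₂, hp₂, hp₂0, hb₂⟩ := h'.hb
  rw [tau_one] at hb₂
  have hpO : p₂ ∈ spc O2 := by
    refine (inc_base hp₂ hp₂0).2.2.2.1 ?_
    rw [← inc_mp (α := tau), tau_O.2.2, ← hb₂]
    exact h'.ab.symm
  have hpf : p₂ (.inr 0) ≠ 0 := fun e => h'.nb (by
    rw [hb₂, ← tau_T.1, inc_mp, inc_e0 hp₂ hp₂0]; exact e)
  obtain ⟨z₂, d₂, hd₂, hz₂, hze₂, hzero₂, hfix₂⟩ := exists_shift hp₂ hpf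
  have hz₂O : z₂ ∈ spc (F := F) O2 := fun i hi => hzero₂ i (hpO i hi)
  have hf₂ := hfix₂ O2 noPairs.2.2.2 hz₂O (Or.inl (by decide))
  set g₂ := tau (eb 𝐐 e0 z₂)
  have hg₂ : g₂ ∈ QW := Wm_le 1 (show g₂ ∈ W₁ from (tau_T (F := F)).1 ▸ mem_mp (eb_mem_Upt hz₂))
  have e₂ : mp (MulAut.conj g₂) O₀ = O₀ ∧ mp (MulAut.conj g₂) O₁ = b' := by
    constructor
    · nth_rewrite 1 [← tau_O.2.2]
      rw [← mp_mul, conj_tau, mp_mul, eb, mp_conj_fix hf₂, tau_O.2.2]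
    · rw [← tau_O.1, ← mp_mul, conj_tau, mp_mul, eb, mp_smul_pt _ (q_bv _) hp₂ hd₂ hze₂, hb₂]
  have h'' := h'.conj (inv_mem hg₂)
  rw [← e₂.2, map_inv, mp_inv] at h''
  nth_rewrite 1 [← e₂.1] at h''
  rw [mp_inv] at h''
  obtain ⟨p₃, hp₃, hp₃0, hc₃⟩ := h''.hc
  have hpO1 : p₃ ∈ spc O1 := by
    refine (inc_base hp₃ hp₃0).2.2.1.1 ?_
    rw [← inc_mp (α := tau ^ ((2 : Fin 3) : ℕ)), tau_sq.2.2.2.2.2, ← hc₃]
    exact h''.ca
  have hpO2 : p₃ ∈ spc O2 := by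
    refine (inc_base hp₃ hp₃0).2.2.2.1 ?_
    rw [← inc_mp (α := tau ^ ((2 : Fin 3) : ℕ)), tau_sq.2.2.2.2.1, ← hc₃]
    exact h''.bc.symm
  have hpf₃ : p₃ (.inr 0) ≠ 0 := fun e => h''.nc (by
    rw [hc₃, ← tau_sq.2.2.1, inc_mp, inc_e0 hp₃ hp₃0]; exact e)
  obtain ⟨z₃, d₃, hd₃, hz₃, hze₃, hzero₃, hfix₃⟩ := exists_shift hp₃ hpf₃
  have hf₃1 := hfix₃ O1 noPairs.2.2.1 (fun i hi => hzero₃ i (hpO1 i hi)) (Or.inl (by decide))
  have hf₃2 := hfix₃ O2 noPairs.2.2.2 (fun i hi => hzero₃ i (hpO2 i hi)) (Or.inl (by decide))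
  set g₃ := (tau ^ ((2 : Fin 3) : ℕ)) (eb 𝐐 e0 z₃)
  have hg₃ : g₃ ∈ QW := Wm_le 2 (show g₃ ∈ W₂ from (tau_sq (F := F)).2.2.1 ▸ mem_mp (eb_mem_Upt hz₃))
  have e₃ : mp (MulAut.conj g₃) O₀ = O₀ ∧ mp (MulAut.conj g₃) O₁ = O₁ ∧
      mp (MulAut.conj g₃) O₂ = mp (MulAut.conj g₂)⁻¹ c' := by
    refine ⟨?_, ?_, ?_⟩
    · nth_rewrite 1 [← tau_sq.2.2.2.2.2]
      rw [← mp_mul, conj_tau, mp_mul, eb, mp_conj_fix hf₃1, tau_sq.2.2.2.2.2]
    · nth_rewrite 1 [← tau_sq.2.2.2.2.1]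
      rw [← mp_mul, conj_tau, mp_mul, eb, mp_conj_fix hf₃2, tau_sq.2.2.2.2.1]
    · rw [← tau_sq.2.2.2.1, ← mp_mul, conj_tau, mp_mul, eb, mp_smul_pt _ (q_bv _) hp₃ hd₃ hze₃, hc₃]
  refine ⟨g₁ * g₂ * g₃, mul_mem (mul_mem hg₁ hg₂) hg₃, ?_, ?_, ?_⟩ <;>
    rw [map_mul, map_mul, mp_mul, mp_mul]
  · rw [e₃.1, e₂.1, e₁]
  · rw [e₃.2.1, e₂.2, hb', mp_inv']
  · rw [e₃.2.2, mp_inv', hc', mp_inv']

/-! ### Normalised automorphisms -/

/-- A cyclic automorphism of order three permuting the classes. -/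
structure Cyc (x : MulAut (P8 F)) : Prop where
  cube : x ^ 3 = 1
  shift : ∀ m, ∀ a ∈ Cl (F := F) m, mp x a ∈ Cl (m + 1)

/-- Fixing the base flag. -/
structure NF (x : MulAut (P8 F)) : Prop extends Cyc x where
  w0 : mp x W₀ = W₁
  w1 : mp x W₁ = W₂
  w2 : mp x W₂ = W₀

/-- Fixing the base flag and its opposite. -/
structure NF2 (x : MulAut (P8 F)) : Prop extends NF x where
  o0 : mp x O₀ = O₁
  o1 : mp x O₁ = O₂
  o2 : mp x O₂ = O₀

/-- The absolute points. -/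
def Abs (x : MulAut (P8 F)) : Set (Subgroup (P8 F)) := {a | a ∈ Cl 0 ∧ Inc a (mp x a)}

theorem Cyc.cyc {x : MulAut (P8 F)} (h : Cyc x) (a : Subgroup (P8 F)) : mp x (mp x (mp x a)) = a := by
  rw [← mp_mul, ← mp_mul, ← pow_three', h.cube, mp_one]

theorem Cyc.cyc' {x : MulAut (P8 F)} (h : Cyc x) (g : P8 F) : x (x (x g)) = g := by
  rw [← MulAut.mul_apply, ← MulAut.mul_apply, ← pow_three', h.cube, MulAut.one_apply]

theorem Cyc.abs {x : MulAut (P8 F)} (h : Cyc x) {a : Subgroup (P8 F)} (ha : a ∈ Abs x) :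
    mp x a ∈ Cl 1 ∧ mp x (mp x a) ∈ Cl 2 ∧ Inc (mp x a) (mp x (mp x a)) ∧ Inc (mp x (mp x a)) a := by
  refine ⟨h.shift 0 _ ha.1, h.shift 1 _ (h.shift 0 _ ha.1), inc_mp.2 ha.2, ?_⟩
  have := (inc_mp (α := x * x)).2 ha.2
  rw [mp_mul, mp_mul, h.cyc] at this
  exact this

theorem NF.mk' {x : MulAut (P8 F)} (h3 : x ^ 3 = 1) (h0 : mp x W₀ = W₁) (h1 : mp x W₁ = W₂)
    (h2 : mp x W₂ = W₀) : NF x := by
  refine ⟨⟨h3, ?_⟩, h0, h1, h2⟩
  intro m a ha
  obtain ⟨f, -, hf⟩ := perm_mp x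
  have e0 : f 0 = 1 := Cl_unique (hf 0 _ W_mem.1) (h0 ▸ W_mem.2.1)
  have e1 : f 1 = 2 := Cl_unique (hf 1 _ W_mem.2.1) (h1 ▸ W_mem.2.2)
  have e2 : f 2 = 0 := Cl_unique (hf 2 _ W_mem.2.2) (h2 ▸ W_mem.1)
  have hfm : f m = m + 1 := by fin_cases m <;> assumption
  exact hfm ▸ hf m a ha

theorem NF.map_QW {x : MulAut (P8 F)} (h : NF x) {g : P8 F} (hg : g ∈ QW) : x g ∈ QW := by
  have e : mp x QW = QW (F := F) := by
    rw [QW, mp, Subgroup.map_sup, Subgroup.map_sup]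
    show mp x W₀ ⊔ mp x W₁ ⊔ mp x W₂ = _
    rw [h.w0, h.w1, h.w2, sup_comm, ← sup_assoc]
  rw [← e]
  exact mem_mp hg

theorem NF.map_Wm {x : MulAut (P8 F)} (h : NF x) {m : Fin 3} {g : P8 F} (hg : g ∈ Wm m) :
    x g ∈ Wm (F := F) (m + 1) := by
  fin_cases m
  · exact (h.w0 ▸ mem_mp hg : x g ∈ W₁)
  · exact (h.w1 ▸ mem_mp hg : x g ∈ W₂)
  · exact (h.w2 ▸ mem_mp hg : x g ∈ W₀)

theorem not_three_dvd {r : ℕ} [Fact r.Prime] [CharP F r] (hr : r ≠ 3) {H : Subgroup (P8 F)}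
    (hH : IsPGroup r H) : ¬ 3 ∣ Nat.card H := by
  haveI := (setup4 (F := F)).finiteV
  obtain ⟨n, hn⟩ := IsPGroup.iff_card.1 hH
  rw [hn]
  intro h
  exact hr ((Nat.prime_dvd_prime_iff_eq Nat.prime_three Fact.out).1 (Nat.prime_three.dvd_of_dvd_pow h)).symm

/-- **Every leading coefficient occurs at a fixed element.** -/
theorem NF.exists_fixed {x : MulAut (P8 F)} (h : NF x) (r : ℕ) [Fact r.Prime] [CharP F r] (hr : r ≠ 3)
    (l : Fin 3) (z : Fin 2 → F) : ∃ g ∈ QW (F := F), x g = g ∧ Φ l g = z := by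
  classical
  haveI := (setup4 (F := F)).finiteV
  haveI : Fact (Nat.Prime 3) := ⟨Nat.prime_three⟩
  obtain ⟨a, ha, haz⟩ := Φ_surj l z
  have haQ := Wm_le l ha
  have hxa := h.map_Wm ha
  have hxxa := h.map_Wm hxa
  have hne : ∀ m : Fin 3, l ≠ m + 1 → ∀ g ∈ Wm (F := F) (m + 1), Φ l g = 0 := fun m hm g hg => Φ_kill hm hg
  have hn1 : ∀ l : Fin 3, l ≠ l + 1 ∧ l ≠ l + 1 + 1 := by decide
  have z1 : Φ l (x a) = 0 := Φ_kill (hn1 l).1 hxa
  have z2 : Φ l (x (x a)) = 0 := Φ_kill (hn1 l).2 hxxa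
  have q1 := h.map_QW haQ
  have q2 := h.map_QW q1
  set q := a * x a * x (x a) with hq
  have hqQ : q ∈ QW := mul_mem (mul_mem haQ q1) q2
  have hΦ0 : Φ l q = z := by
    rw [hq, Φ_mul (mul_mem haQ q1) q2, Φ_mul haQ q1, haz, z1, z2, add_zero, add_zero]
  have hΦ1 : Φ l (x q) = z := by
    rw [hq, map_mul, map_mul, h.cyc', Φ_mul (mul_mem q1 q2) haQ, Φ_mul q1 q2, haz, z1, z2, add_zero,
      zero_add]
  have hΦ2 : Φ l (x (x q)) = z := by
    rw [hq, map_mul, map_mul, h.cyc', map_mul, map_mul, h.cyc', Φ_mul (mul_mem q2 haQ) q1,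
      Φ_mul q2 haQ, haz, z1, z2, add_zero, zero_add]
  let S := {g : P8 F // g ∈ QW ∧ Φ l g = z ∧ Φ l (x g) = z ∧ Φ l (x (x g)) = z}
  let σ : Equiv.Perm S :=
    { toFun := fun g => ⟨x g.1, h.map_QW g.2.1, g.2.2.2.1, g.2.2.2.2, by rw [h.cyc']; exact g.2.2.1⟩
      invFun := fun g => ⟨x (x g.1), h.map_QW (h.map_QW g.2.1), g.2.2.2.2,
        by rw [h.cyc']; exact g.2.2.1, by rw [h.cyc']; exact g.2.2.2.1⟩
      left_inv := fun g => Subtype.ext (h.cyc' _)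
      right_inv := fun g => Subtype.ext (h.cyc' _) }
  let K : Subgroup (P8 F) :=
    { carrier := {g | g ∈ QW ∧ Φ l g = 0 ∧ Φ l (x g) = 0 ∧ Φ l (x (x g)) = 0}
      one_mem' := ⟨one_mem _, Φ_one l, by rw [map_one, Φ_one], by rw [map_one, map_one, Φ_one]⟩
      mul_mem' := by
        rintro g g' ⟨a1, a2, a3, a4⟩ ⟨b1, b2, b3, b4⟩
        refine ⟨mul_mem a1 b1, ?_, ?_, ?_⟩
        · rw [Φ_mul a1 b1, a2, b2, add_zero]
        · rw [map_mul, Φ_mul (h.map_QW a1) (h.map_QW b1), a3, b3, add_zero]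
        · rw [map_mul, map_mul, Φ_mul (h.map_QW (h.map_QW a1)) (h.map_QW (h.map_QW b1)), a4, b4, add_zero]
      inv_mem' := by
        rintro g ⟨a1, a2, a3, a4⟩
        have key : ∀ {g : P8 F}, g ∈ QW → Φ l g = 0 → Φ l g⁻¹ = 0 := fun {g} h1 h2 => by
          have := Φ_mul h1 (inv_mem h1) l
          rw [mul_inv_cancel, Φ_one, h2, zero_add] at this
          exact this.symm
        exact ⟨inv_mem a1, key a1 a2, by rw [map_inv]; exact key (h.map_QW a1) a3,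
          by rw [map_inv, map_inv]; exact key (h.map_QW (h.map_QW a1)) a4⟩ }
  have hK : IsPGroup r K := (QW_isPGroup r).to_le fun g hg => hg.1
  have hcard : Nat.card S = Nat.card K := by
    refine Nat.card_congr
      { toFun := fun g => ⟨q⁻¹ * g.1, mul_mem (inv_mem hqQ) g.2.1, ?_, ?_, ?_⟩
        invFun := fun k => ⟨q * k.1, mul_mem hqQ k.2.1, ?_, ?_, ?_⟩
        left_inv := fun g => Subtype.ext (mul_inv_cancel_left _ _)
        right_inv := fun k => Subtype.ext (inv_mul_cancel_left _ _) }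
    · have := Φ_mul hqQ (mul_mem (inv_mem hqQ) g.2.1) l
      rw [mul_inv_cancel_left, g.2.2.1, hΦ0, left_eq_add] at this
      exact this
    · have := Φ_mul (h.map_QW hqQ) (h.map_QW (mul_mem (inv_mem hqQ) g.2.1)) l
      rw [← map_mul, mul_inv_cancel_left, g.2.2.2.1, hΦ1, left_eq_add] at this
      exact this
    · have := Φ_mul (h.map_QW (h.map_QW hqQ)) (h.map_QW (h.map_QW (mul_mem (inv_mem hqQ) g.2.1))) l
      rw [← map_mul, ← map_mul, mul_inv_cancel_left, g.2.2.2.2, hΦ2, left_eq_add] at this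
      exact this
    · rw [Φ_mul hqQ k.2.1, hΦ0, k.2.2.1, add_zero]
    · rw [map_mul, Φ_mul (h.map_QW hqQ) (h.map_QW k.2.1), hΦ1, k.2.2.2.1, add_zero]
    · rw [map_mul, map_mul, Φ_mul (h.map_QW (h.map_QW hqQ)) (h.map_QW (h.map_QW k.2.1)), hΦ2,
        k.2.2.2.2, add_zero]
  letI : Fintype S := Fintype.ofFinite S
  obtain ⟨g, hg⟩ := Equiv.Perm.exists_fixed_point_of_prime (p := 3) (n := 1)
    (by rw [← Nat.card_eq_fintype_card, hcard]; exact not_three_dvd hr hK) (σ := σ)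
    (Equiv.ext fun g => Subtype.ext (by
      rw [pow_one, show σ ^ 3 = σ * σ * σ from pow_three' σ]
      show x (x (x g.1)) = g.1
      exact h.cyc' _))
  exact ⟨g.1, g.2.1, congrArg Subtype.val hg, g.2.2.1⟩

theorem NF2.fix_unique {x : MulAut (P8 F)} (h : NF2 x) {g : P8 F} (hg : g ∈ QW)
    (hfix : mp (MulAut.conj (x g)) O₀ = mp (MulAut.conj g) O₀ ∧
      mp (MulAut.conj (x g)) O₁ = mp (MulAut.conj g) O₁ ∧
      mp (MulAut.conj (x g)) O₂ = mp (MulAut.conj g) O₂) : x g = g := by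
  have key : ∀ O : Subgroup (P8 F), mp (MulAut.conj (x g)) O = mp (MulAut.conj g) O →
      mp (MulAut.conj (g⁻¹ * x g)) O = O := fun O e => by rw [map_mul, mp_mul, e, map_inv, mp_inv]
  exact (inv_mul_eq_one.1 (QW_free (mul_mem (inv_mem hg) (h.map_QW hg)) (key _ hfix.1) (key _ hfix.2.1)
    (key _ hfix.2.2))).symm

/-- The flag fixed by a normalised automorphism has an absolute opposite. -/
theorem NF.exists_opp {x : MulAut (P8 F)} (h : NF x) (r : ℕ) [Fact r.Prime] [CharP F r] (hr : r ≠ 3) :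
    ∃ a b c, Opp3 (F := F) a b c ∧ mp x a = b ∧ mp x b = c := by
  classical
  haveI := (setup4 (F := F)).finiteV
  haveI : Fact (Nat.Prime 3) := ⟨Nat.prime_three⟩
  let Y := {t : Subgroup (P8 F) × Subgroup (P8 F) × Subgroup (P8 F) // Opp3 t.1 t.2.1 t.2.2}
  have step : ∀ {a b c : Subgroup (P8 F)}, Opp3 a b c → Opp3 (mp x c) (mp x a) (mp x b) := by
    intro a b c ho
    exact ⟨h.shift 2 _ ho.hc, h.shift 0 _ ho.ha, h.shift 1 _ ho.hb, inc_mp.2 ho.ca, inc_mp.2 ho.ab,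
      inc_mp.2 ho.bc, by rw [← h.w2, inc_mp]; exact ho.nc, by rw [← h.w0, inc_mp]; exact ho.na,
      by rw [← h.w1, inc_mp]; exact ho.nb⟩
  let σ : Equiv.Perm Y :=
    { toFun := fun t => ⟨(mp x t.1.2.2, mp x t.1.1, mp x t.1.2.1), step t.2⟩
      invFun := fun t => ⟨(mp x (mp x t.1.2.1), mp x (mp x t.1.2.2), mp x (mp x t.1.1)), step (step t.2)⟩
      left_inv := fun t => Subtype.ext (Prod.ext (h.cyc _) (Prod.ext (h.cyc _) (h.cyc _)))
      right_inv := fun t => Subtype.ext (Prod.ext (h.cyc _) (Prod.ext (h.cyc _) (h.cyc _))) }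
  let e : QW (F := F) → Y := fun g => ⟨(mp (MulAut.conj (g : P8 F)) O₀, mp (MulAut.conj (g : P8 F)) O₁,
    mp (MulAut.conj (g : P8 F)) O₂), opp3_base.conj g.2⟩
  have he : Function.Bijective e := by
    constructor
    · intro g g' hgg
      obtain ⟨a1, a2⟩ := Prod.ext_iff.1 (congrArg Subtype.val hgg)
      obtain ⟨a2, a3⟩ := Prod.ext_iff.1 a2
      have key : ∀ O : Subgroup (P8 F), mp (MulAut.conj (g : P8 F)) O = mp (MulAut.conj (g' : P8 F)) O →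
          mp (MulAut.conj ((g' : P8 F)⁻¹ * (g : P8 F))) O = O := fun O e => by
        rw [map_mul, mp_mul, e, map_inv, mp_inv]
      exact Subtype.ext (inv_mul_eq_one.1 (QW_free (mul_mem (inv_mem g'.2) g.2) (key _ a1) (key _ a2)
        (key _ a3))).symm
    · rintro ⟨⟨a, b, c⟩, ho⟩
      obtain ⟨g, hg, e1, e2, e3⟩ := exists_QW ho
      exact ⟨⟨g, hg⟩, Subtype.ext (Prod.ext e1 (Prod.ext e2 e3))⟩
  letI : Fintype Y := Fintype.ofFinite Y
  obtain ⟨⟨⟨a, b, c⟩, ho⟩, hfix⟩ := Equiv.Perm.exists_fixed_point_of_prime (p := 3) (n := 1)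
    (by rw [← Nat.card_eq_fintype_card, ← Nat.card_congr (Equiv.ofBijective e he)]
        exact not_three_dvd hr (QW_isPGroup r)) (σ := σ)
    (Equiv.ext fun t => Subtype.ext (by
      rw [pow_one, show σ ^ 3 = σ * σ * σ from pow_three' σ]
      exact Prod.ext (h.cyc _) (Prod.ext (h.cyc _) (h.cyc _))))
  obtain ⟨-, h2⟩ := Prod.ext_iff.1 (congrArg Subtype.val hfix)
  exact ⟨a, b, c, ho, (Prod.ext_iff.1 h2).1, (Prod.ext_iff.1 h2).2⟩

theorem Cyc.conj {x : MulAut (P8 F)} (h : Cyc x) (α : MulAut (P8 F))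
    (h0 : ∀ m, ∀ a ∈ Cl (F := F) m, mp α a ∈ Cl m) : Cyc (α * x * α⁻¹) := by
  refine ⟨by rw [conj_pow, h.cube, mul_one, mul_inv_cancel], fun m a ha => ?_⟩
  have hinv : mp α⁻¹ a ∈ Cl m := by
    obtain ⟨j, hj⟩ := exists_mp_Cl α⁻¹ m
    have e : j = m := Cl_unique (h0 _ _ (hj a ha)) (by rw [mp_inv']; exact ha)
    exact e ▸ hj a ha
  rw [mp_mul, mp_mul]
  exact h0 _ _ (h.shift _ _ hinv)

/-- Conjugating an absolute point to the base point. -/
theorem Cyc.normal_form {x : MulAut (P8 F)} (h : Cyc x) {a : Subgroup (P8 F)} (ha : a ∈ Abs x) :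
    ∃ α : MulAut (P8 F), mp α a = W₀ ∧ NF (α * x * α⁻¹) := by
  obtain ⟨h1, h2, h12, h20⟩ := h.abs ha
  obtain ⟨α, e0', e1', e2'⟩ := exists_flag ha.1 h1 h2 ha.2 h12 h20
  refine ⟨α, e0', NF.mk' (by rw [conj_pow, h.cube, mul_one, mul_inv_cancel]) ?_ ?_ ?_⟩
  · rw [← e0', mp_mul, mp_mul, mp_inv, e1']
  · rw [← e1', mp_mul, mp_mul, mp_inv, e2']
  · rw [← e2', mp_mul, mp_mul, mp_inv, h.cyc, e0']

theorem Abs_conj {x : MulAut (P8 F)} (α : MulAut (P8 F)) (h0 : ∀ b ∈ Cl (F := F) 0, mp α b ∈ Cl 0)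
    {b : Subgroup (P8 F)} (hb : b ∈ Abs x) : mp α b ∈ Abs (α * x * α⁻¹) :=
  ⟨h0 b hb.1, by rw [mp_mul, mp_mul, mp_inv, inc_mp]; exact hb.2⟩

/-- Conjugating a pair of opposite absolute points to the base pair. -/
theorem Cyc.normal_form2 {x : MulAut (P8 F)} (h : Cyc x) {a g : Subgroup (P8 F)} (ha : a ∈ Abs x)
    (hg : g ∈ Abs x) (hag : ¬ Inc g a) :
    ∃ α : MulAut (P8 F), α ∈ simRange 𝐐 ∧ mp α a = W₀ ∧ mp α g = O₀ ∧ NF2 (α * x * α⁻¹) := by
  obtain ⟨β, hβa, hβ⟩ := h.normal_form ha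
  have hsim : β ∈ simRange 𝐐 := mem_simRange_of_fix ha.1 (hβa ▸ W_mem.1)
  have hcl : ∀ b ∈ Cl (F := F) 0, mp β b ∈ Cl 0 := by
    intro b hb
    obtain ⟨s, hs⟩ := hsim
    obtain ⟨q, hq, hq0, rfl⟩ := mem_Cl0.1 hb
    exact mem_Cl0.2 ⟨s.g q, by rw [s.form', hq, map_zero, mul_zero],
      fun e => hq0 (s.g.map_eq_zero_iff.1 e), by rw [← hs, mp_sim_Upt s hq]⟩
  have hg' := Abs_conj β hcl hg
  set y := β * x * β⁻¹
  obtain ⟨g1, g2, g12, g20⟩ := hβ.toCyc.abs hg'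
  have na : ¬ Inc (mp β g) W₀ := by rw [← hβa, inc_mp]; exact hag
  have ho : Opp3 (mp β g) (mp y (mp β g)) (mp y (mp y (mp β g))) :=
    ⟨hg'.1, g1, g2, hg'.2, g12, g20, na, by rw [← hβ.w0, inc_mp]; exact na,
      by rw [← hβ.w1, inc_mp, ← hβ.w0, inc_mp]; exact na⟩
  obtain ⟨q, hq, e0', e1', e2'⟩ := exists_QW ho
  obtain ⟨k0, k1, k2⟩ := QW_fix (inv_mem hq)
  have hsq : MulAut.conj q⁻¹ ∈ simRange 𝐐 := by
    obtain ⟨k, hk⟩ := piO_surjective q⁻¹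
    exact ⟨_, (CG26.AutPO.Sim.ofOrth_aut k).trans (by rw [hk])⟩
  refine ⟨MulAut.conj q⁻¹ * β, mul_mem hsq hsim, by rw [mp_mul, hβa, k0],
    by rw [mp_mul, ← e0', map_inv, mp_inv], ?_⟩
  have e : MulAut.conj q⁻¹ * β * x * (MulAut.conj q⁻¹ * β)⁻¹ = MulAut.conj q⁻¹ * y * (MulAut.conj q⁻¹)⁻¹ := by
    show _ = MulAut.conj q⁻¹ * (β * x * β⁻¹) * (MulAut.conj q⁻¹)⁻¹
    group
  rw [e]
  set γ := MulAut.conj q⁻¹ with hγ
  have hγi : γ⁻¹ = MulAut.conj q := by rw [hγ, map_inv, inv_inv]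
  have hγo : ∀ O, mp γ (mp (MulAut.conj q) O) = O := fun O => by rw [← hγi, mp_inv']
  have fix' : ∀ W, mp γ W = W → mp γ⁻¹ W = W := fun W e => by
    conv_lhs => rw [← e]
    rw [mp_inv]
  refine ⟨NF.mk' (by rw [conj_pow, hβ.cube, mul_one, mul_inv_cancel]) ?_ ?_ ?_, ?_, ?_, ?_⟩
  · rw [mp_mul, mp_mul, fix' _ k0, hβ.w0, k1]
  · rw [mp_mul, mp_mul, fix' _ k1, hβ.w1, k2]
  · rw [mp_mul, mp_mul, fix' _ k2, hβ.w2, k0]
  · rw [mp_mul, mp_mul, hγi, e0', ← e1', hγo]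
  · rw [mp_mul, mp_mul, hγi, e1', ← e2', hγo]
  · rw [mp_mul, mp_mul, hγi, e2', hβ.cyc, ← e0', hγo]

/-- Every absolute point has an absolute opposite. -/
theorem Cyc.exists_opp {x : MulAut (P8 F)} (h : Cyc x) (r : ℕ) [Fact r.Prime] [CharP F r] (hr : r ≠ 3)
    {a : Subgroup (P8 F)} (ha : a ∈ Abs x) : ∃ g ∈ Abs x, ¬ Inc g a := by
  obtain ⟨α, hα, hnf⟩ := h.normal_form ha
  obtain ⟨g, b, c, ho, hgb, -⟩ := hnf.exists_opp r hr
  obtain ⟨j, hj⟩ := exists_mp_Cl α⁻¹ 0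
  obtain rfl : j = 0 := Cl_unique (hj _ W_mem.1) (by rw [← hα, mp_inv]; exact ha.1)
  refine ⟨mp α⁻¹ g, ⟨hj g ho.ha, ?_⟩, ?_⟩
  · rw [← inc_mp (α := α), mp_inv', ← mp_mul, ← mp_mul, hgb]
    exact ho.ab
  · rw [← inc_mp (α := α), mp_inv', hα]
    exact ho.na

end Cfsg.Agent.PlusBal.Tri
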