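import Cfsg.Agent.PlusBal.Split
import Cfsg.Agent.LocalEven61.Balance
import Cfsg.Agent.LocalEven61.FormGeomEqual

/-!
Involutory similarities outside the class-preserving group of a nondegenerate form
`∑ xᵢ yᵢ + z₁² + a z₁ z₂ + b z₂²`: the centraliser has trivial core (helper11).
-/

set_option autoImplicit false
set_option maxHeartbeats 1600000

namespace Cfsg.Agent.PlusBal

open Matrix QuadraticMap
open Cfsg.Agent.AutPSL (fieldMap scalarGL Induced act normGL)
open Cfsg.Agent.FieldAutGen Cfsg.Agent.FieldAutGen.Orth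
open Cfsg.Agent.FieldAutGen.Minus (Idx qf qf_apply)
open Cfsg.Agent.CG26.PSpLB (Fix mem_fix)
open Cfsg.Agent.Reflections (mat refl)
open Cfsg.Agent.LocalEven61.FormGeom
open Cfsg.Agent.LocalEven61.POMinusBalance (Om PG pi ro rm rm_gram gram gram_transpose mem_iso_of_gram
  sq_mem_omega sq_comm block_sym span_mat block_comm block_scalar_one mapped_refl refl_pair_sq map_gl
  sign_pos blk_ne_zero blk_sq Blk Split cross_zero eig_decomp selfadjoint sim_gram polar_eq)

universe u v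

variable {k : ℕ} {F : Type u} [Field F] [Fintype F] {a b : F}

variable (hk : 3 ≤ k) (hn : (qf k F a b).polarBilin.Nondegenerate)

include hk hn

theorem exists_sq (h2 : (2 : F) ≠ 0) {Y : GL (Idx k) F}
    (hY : (Y : Matrix (Idx k) (Idx k) F)ᵀ * gram k F a b * (Y : Matrix (Idx k) (Idx k) F) = gram k F a b) :
    ∃ s : Om k F a b, rm s = (Y : Matrix (Idx k) (Idx k) F) * (Y : Matrix (Idx k) (Idx k) F) :=
  ⟨⟨⟨Y, mem_iso_of_gram h2 hY⟩ * ⟨Y, mem_iso_of_gram h2 hY⟩,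
    sq_mem_omega (qf k F a b) hn (by simp; omega) ⟨Y, mem_iso_of_gram h2 hY⟩⟩, rfl⟩

/-- A fixed element twists by a sign. -/
theorem act_eq {g' : GL (Idx k) F} {τ : F ≃+* F}
    (hg' : Cfsg.IsSemisimilarityPair (Cfsg.quadFormMinus k F a b) g' τ) {β : MulAut (PG k F a b)}
    (hb : Induced (ro k F a b) g' τ β) {s : Om k F a b} (hs : β (pi k F a b s) = pi k F a b s) :
    ∃ e : F, e * e = 1 ∧
      (g' : Matrix (Idx k) (Idx k) F) * (rm s).map τ = e • (rm s * (g' : Matrix (Idx k) (Idx k) F)) := by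
  obtain ⟨s', hs'⟩ := Orth.normalises hg' s
  have e := hs.symm.trans (hb _ _ hs')
  obtain ⟨l, hl⟩ := (mk_eq_one_iff hk hn (s⁻¹ * s')).1 (by rw [map_mul, map_inv, e]; exact inv_mul_cancel _)
  refine ⟨l, by rw [← Units.val_mul, scalar_sq hk hn hl, Units.val_one], ?_⟩
  have hss : ro k F a b s' = ro k F a b s * scalarGL _ l := by rw [← hl, ← map_mul, mul_inv_cancel_left]
  rw [hss, AutPSL.act_apply, eq_mul_inv_iff_mul_eq] at hs'
  have := congrArg (fun x : GL (Idx k) F => (x : Matrix (Idx k) (Idx k) F)) hs'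
  simp only [Units.val_mul, AutPSL.scalarGL_coe, Matrix.mul_smul, Matrix.mul_one, Matrix.smul_mul] at this
  exact this.symm

theorem fix_of_comm {g : GL (Idx k) F} {x : MulAut (PG k F a b)} (hx : Induced (ro k F a b) g 1 x)
    {s : Om k F a b}
    (h : rm s * (g : Matrix (Idx k) (Idx k) F) = (g : Matrix (Idx k) (Idx k) F) * rm s) :
    pi k F a b s ∈ Fix x := by
  refine mem_fix.2 (hx s s ?_)
  rw [AutPSL.act_apply, AutPSL.fieldMap_one, eq_mul_inv_iff_mul_eq]
  exact Units.ext h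

section block

variable {L : Type u} [Field L] [Fintype L] {i : F →+* L} {g : GL (Idx k) F} {s₀ : L}

/-- On an eigenspace of dimension at least five, the map is scalar. -/
theorem blk_scalar (h2 : (2 : F) ≠ 0) (B : Blk i (g : Matrix (Idx k) (Idx k) F) (gram k F a b) s₀)
    {g' : GL (Idx k) F} {τ : F ≃+* F} {c : F} (hc0 : c ≠ 0)
    (hgg : (g' : Matrix (Idx k) (Idx k) F) * (g : Matrix (Idx k) (Idx k) F).map τ =
      c • ((g : Matrix (Idx k) (Idx k) F) * (g' : Matrix (Idx k) (Idx k) F)))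
    (hβ : ∀ s : Om k F a b,
      rm s * (g : Matrix (Idx k) (Idx k) F) = (g : Matrix (Idx k) (Idx k) F) * rm s →
      ∃ e : F, e * e = 1 ∧ (g' : Matrix (Idx k) (Idx k) F) * (rm s).map τ = e • (rm s * (g' : Matrix (Idx k) (Idx k) F)))
    {τ' : L ≃+* L} (hτ : ∀ y, τ' (i y) = i (τ y)) (hs0 : τ' s₀ = i c * s₀) (h5 : 5 ≤ B.d) :
    τ' = 1 ∧ ∃ α : L, (g' : Matrix (Idx k) (Idx k) F).map i * B.P = α • B.P := by
  classical
  obtain ⟨Gh, hGh⟩ : ∃ Gh, Gh = (g' : Matrix (Idx k) (Idx k) F).map i := ⟨_, rfl⟩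
  obtain ⟨M, hM⟩ : ∃ M, M = (g : Matrix (Idx k) (Idx k) F).map i := ⟨_, rfl⟩
  obtain ⟨H₁, hH₁⟩ : ∃ H₁, H₁ = B.Pᵀ * (gram k F a b).map i * B.P := ⟨_, rfl⟩
  have h2L : (2 : L) ≠ 0 := by rw [← map_ofNat i 2, map_ne_zero]; exact h2
  have hic : i c ≠ 0 := (map_ne_zero i).2 hc0
  have hmap : ∀ X : Matrix (Idx k) (Idx k) F, (X.map τ).map i = (X.map i).map τ' := fun X =>
    Matrix.ext fun p q => (hτ _).symm
  have hgg' : Gh * M.map τ' = i c • (M * Gh) := by
    have h := congrArg (fun X => Matrix.map X i) hgg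
    simp only [Matrix.map_mul, Matrix.map_smul' i _ _ (map_mul i), hmap, ← hGh, ← hM] at h
    exact h
  obtain ⟨X, hX⟩ : ∃ X, X = Gh * B.P.map τ' := ⟨_, rfl⟩
  have hXe : M * X = s₀ • X := by
    refine smul_right_injective _ hic ?_
    show i c • (M * X) = i c • s₀ • X
    rw [hX, ← Matrix.mul_assoc M, ← Matrix.smul_mul, ← hgg', Matrix.mul_assoc, ← Matrix.map_mul, hM,
      B.eig, show (s₀ • B.P).map τ' = τ' s₀ • B.P.map τ' from
        Matrix.ext fun p q => map_mul τ' s₀ (B.P p q), Matrix.mul_smul, hs0, smul_smul]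
  obtain ⟨G₁, hG₁⟩ : ∃ G₁, G₁ = B.P' * X := ⟨_, rfl⟩
  have hPG : Gh * B.P.map τ' = B.P * G₁ := by
    rw [← hX, hG₁, span_mat B (by rw [← hM]; exact hXe)]
  have hG₁u : IsUnit G₁.det := by
    rw [← Matrix.isUnit_iff_isUnit_det, ← Matrix.mulVec_injective_iff_isUnit]
    intro y z hyz
    have h1 := congrArg (B.P *ᵥ ·) hyz
    simp only [mulVec_mulVec, ← hPG] at h1
    rw [← mulVec_mulVec, ← mulVec_mulVec] at h1
    have hGu : IsUnit Gh := by
      rw [hGh, Matrix.isUnit_iff_isUnit_det, show ((g' : Matrix (Idx k) (Idx k) F).map i).det = i (g' : Matrix (Idx k) (Idx k) F).det from (RingHom.map_det i _).symm]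
      exact isUnit_iff_ne_zero.2 ((map_ne_zero i).2 (Matrix.GeneralLinearGroup.det_ne_zero g'))
    have h3 := congrArg (B.P'.map τ' *ᵥ ·) (Matrix.mulVec_injective_iff_isUnit.mpr hGu h1)
    simpa only [mulVec_mulVec, ← Matrix.map_mul, B.inv, Matrix.map_one _ (map_zero τ') (map_one τ'),
      one_mulVec] using h3
  let G₁' : GL (Fin B.d) L := Matrix.GeneralLinearGroup.mk'' G₁ hG₁u
  have hH : (H₁.map (1 : L ≃+* L))ᵀ = H₁ := hH₁ ▸ block_sym B
  have hdet : IsUnit H₁.det := hH₁ ▸ B.nd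
  obtain ⟨hτ1, α, -, hα⟩ := scalar_of_equal_turns hH hdet h2L (by omega) G₁' τ'
    fun u w hw huw huw0 z => by
    have hu : bf H₁ (1 : L ≃+* L) u u ≠ 0 := by rw [huw]; exact hw
    have hwu0 : bf H₁ (1 : L ≃+* L) w u = 0 := (bf_symm hH u w).trans huw0
    have hd : bf H₁ (1 : L ≃+* L) (u - w) (u - w) = 2 * bf H₁ (1 : L ≃+* L) w w := by
      rw [bf_sub_left, bf_sub_right, bf_sub_right, huw0, hwu0, huw]; ring
    have hd0 : bf H₁ (1 : L ≃+* L) (u - w) (u - w) ≠ 0 := by rw [hd]; exact mul_ne_zero h2L hw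
    obtain ⟨J, hJ⟩ : ∃ J, J = rfl' H₁ (1 : L ≃+* L) u hu * rfl' H₁ 1 (u - w) hd0 := ⟨_, rfl⟩
    have hJs : IsSimil H₁ (1 : L ≃+* L) J 1 := by
      rw [hJ]
      have := (rfl'_isSimil hH (fun _ => rfl) hu).mul (rfl'_isSimil hH (fun _ => rfl) hd0)
      rwa [one_mul] at this
    have hJm := mat_of_isSimil hJs
    rw [show ⇑(1 : L ≃+* L) = id from rfl, Matrix.map_id, one_smul] at hJm
    obtain ⟨Y, hY, hYg, hYP⟩ := B.lift J (hH₁ ▸ hJm)
    obtain ⟨s, hs⟩ := exists_sq hk hn h2 hY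
    obtain ⟨e, he, hee⟩ := hβ s (by rw [hs]; exact sq_comm hYg)
    obtain ⟨S, hS⟩ : ∃ S, S = rflM H₁ (1 : L ≃+* L) u * rflM H₁ 1 w := ⟨_, rfl⟩
    have hJJ : J * J = rfl' H₁ (1 : L ≃+* L) u hu * rfl' H₁ 1 w hw := by
      have hval : ((rfl' H₁ (1 : L ≃+* L) (u - w) hd0 : GL (Fin B.d) L) : Matrix (Fin B.d) (Fin B.d) L) *ᵥ u = w := by
        show rflM H₁ (1 : L ≃+* L) (u - w) *ᵥ u = w
        rw [rflM_mulVec, bf_sub_right u u w, huw0, sub_zero, huw, hd, div_self (mul_ne_zero h2L hw),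
          one_smul, sub_sub_cancel]
      have h1 := conj_rfl' (rfl'_isSimil hH (fun _ => rfl) hd0) one_ne_zero hu (by rw [hval]; exact hw)
      simp only [hval] at h1
      have hinv : (rfl' H₁ (1 : L ≃+* L) (u - w) hd0)⁻¹ = rfl' H₁ 1 (u - w) hd0 :=
        inv_eq_of_mul_eq_one_right (Units.ext (rflM_sq hd0))
      rw [hinv] at h1
      rw [hJ, mul_assoc, ← h1]
      simp only [mul_assoc]
    have hJJm : (J : Matrix (Fin B.d) (Fin B.d) L) * (J : Matrix (Fin B.d) (Fin B.d) L) = S := by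
      rw [← Units.val_mul, hJJ, hS]; rfl
    obtain ⟨Sh, hSh⟩ : ∃ Sh, Sh = (rm s).map i := ⟨_, rfl⟩
    have hSP : Sh * B.P = B.P * S := by
      rw [hSh, hs, Matrix.map_mul, Matrix.mul_assoc, hYP, ← Matrix.mul_assoc, hYP, Matrix.mul_assoc, hJJm]
    have hee' : Gh * Sh.map τ' = i e • (Sh * Gh) := by
      have h := congrArg (fun X => Matrix.map X i) hee
      simp only [Matrix.map_mul, Matrix.map_smul' i _ _ (map_mul i), hmap, ← hGh, ← hSh] at h
      exact h
    have hcomm : G₁ * S.map τ' = i e • (S * G₁) := by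
      have h : B.P * (G₁ * S.map τ') = B.P * (i e • (S * G₁)) := by
        rw [← Matrix.mul_assoc, ← hPG, Matrix.mul_assoc, ← Matrix.map_mul, ← hSP, Matrix.map_mul,
          ← Matrix.mul_assoc, hee', Matrix.smul_mul, Matrix.mul_assoc, hPG, ← Matrix.mul_assoc, hSP,
          Matrix.mul_assoc, Matrix.mul_smul]
      have h' := congrArg (B.P' * ·) h
      simp only [← Matrix.mul_assoc B.P', B.inv, Matrix.one_mul] at h'
      exact h'
    have hSd : S.det = 1 := by rw [hS, Matrix.det_mul, rflM_det hu, rflM_det hw]; ring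
    have hie : i e = 1 := by
      have h := congrArg Matrix.det hcomm
      rw [Matrix.det_mul, Matrix.det_smul, Matrix.det_mul,
        show (S.map τ').det = τ' S.det from (RingHom.map_det τ'.toRingHom S).symm, hSd, map_one,
        mul_one, one_mul, Fintype.card_fin] at h
      have he' : (i e) ^ B.d = 1 := mul_right_cancel₀ hG₁u.ne_zero (h.symm.trans (one_mul _).symm)
      rcases mul_self_eq_one_iff.1 he with rfl | rfl
      · exact map_one i
      · rw [map_neg, map_one, B.odd.neg_one_pow] at he'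
        rw [map_neg, map_one]; exact he'
    rw [hie, one_smul] at hcomm
    rw [← hS]
    show G₁ *ᵥ (⇑τ' ∘ (S *ᵥ z)) = S *ᵥ (G₁ *ᵥ (⇑τ' ∘ z))
    rw [← Orth.map_mulVec, mulVec_mulVec, hcomm, mulVec_mulVec]
  refine ⟨hτ1, α, ?_⟩
  subst hτ1
  rw [show ⇑(1 : L ≃+* L) = id from rfl, Matrix.map_id] at hPG
  rw [← hGh, hPG, show G₁ = α • 1 from hα, Matrix.mul_smul, Matrix.mul_one]

variable {lam : F} {s₁ : L}

/-- A small eigenspace: scalar by the mixed half-turns. -/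
theorem small_scalar (h2 : (2 : F) ≠ 0)
    (S : Split i (g : Matrix (Idx k) (Idx k) F) (gram k F a b) lam s₁)
    (hsym : (g : Matrix (Idx k) (Idx k) F)ᵀ * gram k F a b = gram k F a b * (g : Matrix (Idx k) (Idx k) F))
    (hs1 : s₁ ≠ 0) (hsur : Function.Surjective i) (h3 : 3 ≤ S.B₂.d)
    {g' : GL (Idx k) F} {α : L} (hα : (g' : Matrix (Idx k) (Idx k) F).map i * S.B₁.P = α • S.B₁.P)
    (hα0 : α ≠ 0)
    (hgg : (g' : Matrix (Idx k) (Idx k) F) * (g : Matrix (Idx k) (Idx k) F) =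
      (g : Matrix (Idx k) (Idx k) F) * (g' : Matrix (Idx k) (Idx k) F))
    (hβ : ∀ s : Om k F a b,
      rm s * (g : Matrix (Idx k) (Idx k) F) = (g : Matrix (Idx k) (Idx k) F) * rm s →
      ∃ e : F, e * e = 1 ∧ (g' : Matrix (Idx k) (Idx k) F) * rm s = e • (rm s * (g' : Matrix (Idx k) (Idx k) F))) :
    ∃ α₂ : L, (g' : Matrix (Idx k) (Idx k) F).map i * S.B₂.P = α₂ • S.B₂.P := by
  classical
  obtain ⟨Gh, hGh⟩ : ∃ Gh, Gh = (g' : Matrix (Idx k) (Idx k) F).map i := ⟨_, rfl⟩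
  obtain ⟨K, hK⟩ : ∃ K, K = (gram k F a b).map i := ⟨_, rfl⟩
  obtain ⟨H₁, hH₁⟩ : ∃ H₁, H₁ = S.B₁.Pᵀ * K * S.B₁.P := ⟨_, rfl⟩
  obtain ⟨H₂, hH₂⟩ : ∃ H₂, H₂ = S.B₂.Pᵀ * K * S.B₂.P := ⟨_, rfl⟩
  have h2L : (2 : L) ≠ 0 := by rw [← map_ofNat i 2, map_ne_zero]; exact h2
  have hH₁s : (H₁.map (1 : L ≃+* L))ᵀ = H₁ := by rw [hH₁, hK]; exact block_sym S.B₁
  have hH₂s : (H₂.map (1 : L ≃+* L))ᵀ = H₂ := by rw [hH₂, hK]; exact block_sym S.B₂
  have hd₁ : IsUnit H₁.det := by rw [hH₁, hK]; exact S.B₁.nd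
  have hd₂ : IsUnit H₂.det := by rw [hH₂, hK]; exact S.B₂.nd
  have hsymK : ((g : Matrix (Idx k) (Idx k) F).map i)ᵀ * K = K * (g : Matrix (Idx k) (Idx k) F).map i := by
    rw [hK, ← Matrix.transpose_map, ← Matrix.map_mul, hsym, Matrix.map_mul]
  have x12 : S.B₁.Pᵀ * K * S.B₂.P = 0 := cross_zero h2L hs1 hsymK S.B₁.eig S.B₂.eig
  have x21 : S.B₂.Pᵀ * K * S.B₁.P = 0 :=
    cross_zero h2L (neg_ne_zero.2 hs1) hsymK S.B₂.eig (by rw [neg_neg]; exact S.B₁.eig)
  obtain ⟨X, hX⟩ : ∃ X, X = Gh * S.B₂.P := ⟨_, rfl⟩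
  have hXe : (g : Matrix (Idx k) (Idx k) F).map i * X = (-s₁) • X := by
    rw [hX, ← Matrix.mul_assoc, hGh, ← Matrix.map_mul, ← hgg, Matrix.map_mul, Matrix.mul_assoc,
      S.B₂.eig, Matrix.mul_smul]
  obtain ⟨G₂, hG₂⟩ : ∃ G₂, G₂ = S.B₂.P' * X := ⟨_, rfl⟩
  have hPG : Gh * S.B₂.P = S.B₂.P * G₂ := by rw [← hX, hG₂, span_mat S.B₂ hXe]
  have hG₂u : IsUnit G₂.det := by
    rw [← Matrix.isUnit_iff_isUnit_det, ← Matrix.mulVec_injective_iff_isUnit]
    intro y z hyz
    have h1 := congrArg (S.B₂.P *ᵥ ·) hyz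
    simp only [mulVec_mulVec, ← hPG] at h1
    rw [← mulVec_mulVec, ← mulVec_mulVec] at h1
    have hGu : IsUnit Gh := by
      rw [hGh, Matrix.isUnit_iff_isUnit_det, show ((g' : Matrix (Idx k) (Idx k) F).map i).det = i (g' : Matrix (Idx k) (Idx k) F).det from (RingHom.map_det i _).symm]
      exact isUnit_iff_ne_zero.2 ((map_ne_zero i).2 (Matrix.GeneralLinearGroup.det_ne_zero g'))
    have h4 := congrArg (S.B₂.P' *ᵥ ·) (Matrix.mulVec_injective_iff_isUnit.mpr hGu h1)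
    simpa only [mulVec_mulVec, S.B₂.inv, one_mulVec] using h4
  let G₂' : GL (Fin S.B₂.d) L := Matrix.GeneralLinearGroup.mk'' G₂ hG₂u
  have lift : ∀ W : Idx k → L, ∃ w : Idx k → F, i ∘ w = W := fun W => by
    choose w hw using fun l => hsur (W l)
    exact ⟨w, funext hw⟩
  have val : ∀ {m n : ℕ} (P : Matrix (Idx k) (Fin m) L) (P₀ : Matrix (Idx k) (Fin n) L) (p : Fin m → L) (q : Fin n → L),
      (P *ᵥ p) ⬝ᵥ (K *ᵥ (P₀ *ᵥ q)) = p ⬝ᵥ ((Pᵀ * K * P₀) *ᵥ q) := by
    intro m n P P₀ p q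
    rw [← mulVec_mulVec, ← mulVec_mulVec, dotProduct_mulVec p, vecMul_transpose]
  have hlines := lines_of_half_turns hH₂s (fun _ => rfl) hd₂ h2L h3 (RingHom.id L) G₂' (1 : L ≃+* L) ?_
  · obtain ⟨⟨α₂, -, hα₂⟩, -⟩ := scalar_of_lines (RingHom.id L) (by omega) G₂' (1 : L ≃+* L) hlines
    exact ⟨α₂, by rw [← hGh, hPG, show G₂ = α₂ • 1 from hα₂, Matrix.mul_smul, Matrix.mul_one]⟩
  intro u v hu hv huv z
  obtain ⟨w₀, hw₀⟩ := exists_aniso hH₁s (fun _ => rfl) hd₁ h2L (le_trans (by norm_num) S.five)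
  obtain ⟨w₁, hw₁, hw₁0⟩ := exists_aniso_orth hH₁s (fun _ => rfl) hd₁ h2L (le_trans (by norm_num) S.five) (x := w₀)
  obtain ⟨α₀, β₀, hwv'⟩ := exists_value hH₁s hd₁ h2L hw₀ hw₁ hw₁0 (bf H₂ (1 : L ≃+* L) u u)
  obtain ⟨w, hwd⟩ : ∃ w, w = α₀ • w₀ + β₀ • w₁ := ⟨_, rfl⟩
  rw [← hwd] at hwv'
  obtain ⟨t, htw, ht⟩ := exists_orth_value hH₁s hd₁ h2L (le_trans (by norm_num) S.five)
    (v := w) (by rw [hwv']; exact hu) (bf H₂ (1 : L ≃+* L) v v)
  have hw : bf H₁ (1 : L ≃+* L) w w ≠ 0 := by rw [hwv']; exact hu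
  have ht0 : bf H₁ (1 : L ≃+* L) t t ≠ 0 := by rw [ht]; exact hv
  obtain ⟨u', hu'⟩ := lift (S.B₂.P *ᵥ u)
  obtain ⟨v', hv'⟩ := lift (S.B₂.P *ᵥ v)
  obtain ⟨w', hw'⟩ := lift (S.B₁.P *ᵥ w)
  obtain ⟨t', ht'⟩ := lift (S.B₁.P *ᵥ t)
  have hpol : ∀ p q : Idx k → F, (i ∘ p) ⬝ᵥ (K *ᵥ (i ∘ q)) = i (polar ⇑(qf k F a b) p q) := fun p q => by
    rw [hK, polar_eq, RingHom.map_dotProduct]
    congr 1
    exact funext fun l => (RingHom.map_mulVec i _ q l).symm
  have e22 : ∀ p q, (S.B₂.P *ᵥ p) ⬝ᵥ (K *ᵥ (S.B₂.P *ᵥ q)) = bf H₂ (1 : L ≃+* L) p q := fun p q => by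
    rw [val, ← hH₂]; rfl
  have e11 : ∀ p q, (S.B₁.P *ᵥ p) ⬝ᵥ (K *ᵥ (S.B₁.P *ᵥ q)) = bf H₁ (1 : L ≃+* L) p q := fun p q => by
    rw [val, ← hH₁]; rfl
  have e12 : ∀ p q, (S.B₁.P *ᵥ p) ⬝ᵥ (K *ᵥ (S.B₂.P *ᵥ q)) = 0 := fun p q => by
    rw [val, x12, zero_mulVec, dotProduct_zero]
  have e21 : ∀ p q, (S.B₂.P *ᵥ p) ⬝ᵥ (K *ᵥ (S.B₁.P *ᵥ q)) = 0 := fun p q => by
    rw [val, x21, zero_mulVec, dotProduct_zero]
  have Qu : i (2 * qf k F a b u') = bf H₂ (1 : L ≃+* L) u u := by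
    rw [← Reflections.polar_self', ← hpol, hu', e22]
  have Qv : i (2 * qf k F a b v') = bf H₂ (1 : L ≃+* L) v v := by
    rw [← Reflections.polar_self', ← hpol, hv', e22]
  have Qw : i (2 * qf k F a b w') = bf H₂ (1 : L ≃+* L) u u := by
    rw [← Reflections.polar_self', ← hpol, hw', e11, hwv']
  have Qt : i (2 * qf k F a b t') = bf H₂ (1 : L ≃+* L) v v := by
    rw [← Reflections.polar_self', ← hpol, ht', e11, ht]
  have puw : polar ⇑(qf k F a b) u' w' = 0 := i.injective (by rw [← hpol, hu', hw', e21, map_zero])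
  have pvt : polar ⇑(qf k F a b) v' t' = 0 := i.injective (by rw [← hpol, hv', ht', e21, map_zero])
  obtain ⟨J₁, hJ₁⟩ := refl_pair_sq (Q := qf k F a b) h2 (u := u') (w := w')
    (fun e => hu (by rw [← Qu, e, mul_zero, map_zero])) puw
    (mul_left_cancel₀ h2 (i.injective (Qw.trans Qu.symm)))
  obtain ⟨J₂, hJ₂⟩ := refl_pair_sq (Q := qf k F a b) h2 (u := v') (w := t')
    (fun e => hv (by rw [← Qv, e, mul_zero, map_zero])) pvt
    (mul_left_cancel₀ h2 (i.injective (Qt.trans Qv.symm)))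
  let s : Om k F a b := ⟨J₁ * J₁ * (J₂ * J₂),
    mul_mem (sq_mem_omega (qf k F a b) hn (by simp; omega) J₁)
      (sq_mem_omega (qf k F a b) hn (by simp; omega) J₂)⟩
  obtain ⟨Sh, hSh⟩ : ∃ Sh, Sh = (rm s).map i := ⟨_, rfl⟩
  have hS : Sh = (mat (refl (qf k F a b) u')).map i * (mat (refl (qf k F a b) w')).map i *
      ((mat (refl (qf k F a b) v')).map i * (mat (refl (qf k F a b) t')).map i) := by
    rw [hSh, ← Matrix.map_mul, ← Matrix.map_mul, ← Matrix.map_mul]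
    congr 1
    show mat (J₁ * J₁ * (J₂ * J₂)) = _
    rw [hJ₁, hJ₂]
    rfl
  have rfl₂ : ∀ (p : Fin S.B₂.d → L) (p' : Idx k → F), i ∘ p' = S.B₂.P *ᵥ p → bf H₂ (1 : L ≃+* L) p p ≠ 0 →
      (∀ q, (mat (refl (qf k F a b) p')).map i *ᵥ (S.B₂.P *ᵥ q) = S.B₂.P *ᵥ (rflM H₂ 1 p *ᵥ q)) ∧
      (∀ q, (mat (refl (qf k F a b) p')).map i *ᵥ (S.B₁.P *ᵥ q) = S.B₁.P *ᵥ q) := by
    intro p p' hp hp0
    refine ⟨fun q => ?_, fun q => ?_⟩ <;>
      obtain ⟨y, hy⟩ := lift (_ *ᵥ q) <;>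
      rw [mapped_refl h2 hp hy (by rw [← hK, e22]; exact hp0), ← hK]
    · rw [e22, e22, rflM_mulVec, bf_symm hH₂s p q, mulVec_sub, mulVec_smul]
    · rw [e21, mul_zero, zero_div, zero_smul, sub_zero]
  have rfl₁ : ∀ (p : Fin S.B₁.d → L) (p' : Idx k → F), i ∘ p' = S.B₁.P *ᵥ p → bf H₁ (1 : L ≃+* L) p p ≠ 0 →
      (∀ q, (mat (refl (qf k F a b) p')).map i *ᵥ (S.B₁.P *ᵥ q) = S.B₁.P *ᵥ (rflM H₁ 1 p *ᵥ q)) ∧
      (∀ q, (mat (refl (qf k F a b) p')).map i *ᵥ (S.B₂.P *ᵥ q) = S.B₂.P *ᵥ q) := by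
    intro p p' hp hp0
    refine ⟨fun q => ?_, fun q => ?_⟩ <;>
      obtain ⟨y, hy⟩ := lift (_ *ᵥ q) <;>
      rw [mapped_refl h2 hp hy (by rw [← hK, e11]; exact hp0), ← hK]
    · rw [e11, e11, rflM_mulVec, bf_symm hH₁s p q, mulVec_sub, mulVec_smul]
    · rw [e12, mul_zero, zero_div, zero_smul, sub_zero]
  have S1 : Sh * S.B₁.P = S.B₁.P * (rflM H₁ (1 : L ≃+* L) w * rflM H₁ 1 t) := by
    refine Matrix.ext_of_mulVec_single fun j => ?_
    simp only [hS, ← mulVec_mulVec, (rfl₁ t t' ht' ht0).1, (rfl₂ v v' hv' hv).2, (rfl₁ w w' hw' hw).1,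
      (rfl₂ u u' hu' hu).2]
  have S2 : Sh * S.B₂.P = S.B₂.P * (rflM H₂ (1 : L ≃+* L) u * rflM H₂ 1 v) := by
    refine Matrix.ext_of_mulVec_single fun j => ?_
    simp only [hS, ← mulVec_mulVec, (rfl₁ t t' ht' ht0).2, (rfl₂ v v' hv' hv).1, (rfl₁ w w' hw' hw).2,
      (rfl₂ u u' hu' hu).1]
  have hcom : rm s * (g : Matrix (Idx k) (Idx k) F) = (g : Matrix (Idx k) (Idx k) F) * rm s := by
    have hinj : Function.Injective (fun X : Matrix (Idx k) (Idx k) F => X.map i) := fun A B h =>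
      Matrix.ext fun p q => i.injective (congrFun (congrFun h p) q)
    apply hinj
    show (rm s * _).map i = ((g : Matrix (Idx k) (Idx k) F) * rm s).map i
    rw [Matrix.map_mul, Matrix.map_mul, ← hSh]
    obtain ⟨M, hM⟩ : ∃ M, M = (g : Matrix (Idx k) (Idx k) F).map i := ⟨_, rfl⟩
    have q1 : Sh * M * S.B₁.P = M * Sh * S.B₁.P := by
      calc Sh * M * S.B₁.P = Sh * (M * S.B₁.P) := Matrix.mul_assoc _ _ _
        _ = s₁ • (Sh * S.B₁.P) := by rw [hM, S.B₁.eig, Matrix.mul_smul]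
        _ = M * S.B₁.P * (rflM H₁ (1 : L ≃+* L) w * rflM H₁ 1 t) := by
          rw [S1, hM, S.B₁.eig, Matrix.smul_mul]
        _ = M * Sh * S.B₁.P := by rw [Matrix.mul_assoc M, ← S1, ← Matrix.mul_assoc]
    have q2 : Sh * M * S.B₂.P = M * Sh * S.B₂.P := by
      calc Sh * M * S.B₂.P = Sh * (M * S.B₂.P) := Matrix.mul_assoc _ _ _
        _ = (-s₁) • (Sh * S.B₂.P) := by rw [hM, S.B₂.eig, Matrix.mul_smul]
        _ = M * S.B₂.P * (rflM H₂ (1 : L ≃+* L) u * rflM H₂ 1 v) := by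
          rw [S2, hM, S.B₂.eig, Matrix.smul_mul]
        _ = M * Sh * S.B₂.P := by rw [Matrix.mul_assoc M, ← S2, ← Matrix.mul_assoc]
    rw [← hM]
    calc Sh * M = Sh * M * (S.B₁.P * S.B₁.P' + S.B₂.P * S.B₂.P') := by rw [S.hone, Matrix.mul_one]
      _ = M * Sh * (S.B₁.P * S.B₁.P' + S.B₂.P * S.B₂.P') := by
        rw [Matrix.mul_add, Matrix.mul_add, ← Matrix.mul_assoc, q1, ← Matrix.mul_assoc (Sh * M), q2]
        simp only [Matrix.mul_assoc]
      _ = M * Sh := by rw [S.hone, Matrix.mul_one]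
  obtain ⟨e, he, hee⟩ := hβ s hcom
  have hee' : Gh * Sh = i e • (Sh * Gh) := by
    have h := congrArg (fun X => Matrix.map X i) hee
    simp only [Matrix.map_mul, Matrix.map_smul' i _ _ (map_mul i), ← hGh, ← hSh] at h
    exact h
  have he1 : i e = 1 := by
    rcases mul_self_eq_one_iff.1 he with h | h
    · rw [h, map_one]
    exfalso
    have h1 := congrArg (fun X => X * S.B₁.P) hee'
    simp only [Matrix.mul_assoc, S1, Matrix.smul_mul, hGh, hα, Matrix.mul_smul] at h1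
    rw [← Matrix.mul_assoc _ S.B₁.P, hα, Matrix.smul_mul, h, map_neg, map_one, neg_smul, one_smul] at h1
    have h4 : (2 * α) • (S.B₁.P * (rflM H₁ (1 : L ≃+* L) w * rflM H₁ 1 t)) = 0 := by
      linear_combination (norm := module) h1
    have h5 := congrArg (S.B₁.P' * ·) ((smul_eq_zero.1 h4).resolve_left (mul_ne_zero h2L hα0))
    simp only [← Matrix.mul_assoc S.B₁.P', S.B₁.inv, Matrix.one_mul, Matrix.mul_zero] at h5
    have h6 := congrArg Matrix.det h5
    haveI : Nonempty (Fin S.B₁.d) := ⟨⟨0, lt_of_lt_of_le (by norm_num) S.five⟩⟩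
    rw [Matrix.det_mul, rflM_det hw, rflM_det ht0,
      Matrix.det_zero, neg_one_mul, neg_neg] at h6
    exact one_ne_zero h6
  have hc : G₂ * (rflM H₂ (1 : L ≃+* L) u * rflM H₂ 1 v) = (rflM H₂ (1 : L ≃+* L) u * rflM H₂ 1 v) * G₂ := by
    have h : S.B₂.P * (G₂ * (rflM H₂ (1 : L ≃+* L) u * rflM H₂ 1 v)) =
        S.B₂.P * ((rflM H₂ (1 : L ≃+* L) u * rflM H₂ 1 v) * G₂) := by
      rw [← Matrix.mul_assoc, ← hPG, Matrix.mul_assoc, ← S2, ← Matrix.mul_assoc, hee', he1, one_smul,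
        Matrix.mul_assoc, hPG, ← Matrix.mul_assoc, S2, Matrix.mul_assoc]
    have h' := congrArg (S.B₂.P' * ·) h
    simp only [← Matrix.mul_assoc S.B₂.P', S.B₂.inv, Matrix.one_mul] at h'
    exact h'
  rw [show ⇑(RingHom.id L) = id from rfl, Matrix.map_id]
  show G₂ *ᵥ ((rflM H₂ 1 u * rflM H₂ 1 v) *ᵥ z) = (rflM H₂ 1 u * rflM H₂ 1 v) *ᵥ (G₂ *ᵥ z)
  rw [mulVec_mulVec, hc, mulVec_mulVec]

end block

section main

variable {L : Type u} [Field L] [Fintype L] {i : F →+* L} {g : GL (Idx k) F} {l : Fˣ} {s₁ : L}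
  {x : MulAut (PG k F a b)}

/-- The part of a normal subgroup on one eigenspace is scalar. -/
theorem blk_normal (h2 : (2 : F) ≠ 0) {s₀ : L}
    (B : Blk i (g : Matrix (Idx k) (Idx k) F) (gram k F a b) s₀)
    (hg : Cfsg.IsSemisimilarityPair (Cfsg.quadFormMinus k F a b) g 1)
    (hx : Induced (ro k F a b) g 1 x) {M : Subgroup (PG k F a b)}
    (hinv : ∀ c : MulAut (PG k F a b), c * x = x * c → ∀ m ∈ M, c m ∈ M)
    (hodd : Odd (Nat.card M))
    (hcom : ∀ s : Om k F a b, pi k F a b s ∈ M →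
      rm s * (g : Matrix (Idx k) (Idx k) F) = (g : Matrix (Idx k) (Idx k) F) * rm s)
    (s : Om k F a b) (hs : pi k F a b s ∈ M) : ∃ c : L, (rm s).map i * B.P = c • B.P := by
  classical
  have h2L : (2 : L) ≠ 0 := by rw [← map_ofNat i 2, map_ne_zero]; exact h2
  obtain ⟨H₁, hH₁⟩ : ∃ H₁, H₁ = B.Pᵀ * (gram k F a b).map i * B.P := ⟨_, rfl⟩
  have hone : ∀ t t' : Om k F a b, rm (t * t') = rm t * rm t' := fun t t' => by
    show ((ro k F a b (t * t') : GL (Idx k) F) : Matrix (Idx k) (Idx k) F) = _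
    rw [map_mul, Units.val_mul]
  let X : Subgroup (GL (Fin B.d) L) :=
    { carrier := {h | ∃ t : Om k F a b, pi k F a b t ∈ M ∧
        (rm t).map i * B.P = B.P * (h : Matrix (Fin B.d) (Fin B.d) L)}
      one_mem' := ⟨1, by rw [map_one]; exact one_mem M, by
        simp [rm, Matrix.map_one]⟩
      mul_mem' := by
        rintro h h' ⟨t, ht, e⟩ ⟨t', ht', e'⟩
        refine ⟨t * t', by rw [map_mul]; exact mul_mem ht ht', ?_⟩
        rw [hone, Matrix.map_mul, Matrix.mul_assoc, e', ← Matrix.mul_assoc, e, Units.val_mul, Matrix.mul_assoc]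
      inv_mem' := by
        rintro h ⟨t, ht, e⟩
        refine ⟨t⁻¹, by rw [map_inv]; exact inv_mem ht, ?_⟩
        have h1 : (rm t⁻¹).map i * (rm t).map i = 1 := by
          rw [← Matrix.map_mul, ← hone, inv_mul_cancel]
          simp [rm, Matrix.map_one]
        have h3 := congrArg (fun Y => (rm t⁻¹).map i * Y * ((h⁻¹ : GL (Fin B.d) L) : Matrix (Fin B.d) (Fin B.d) L)) e
        simp only [← Matrix.mul_assoc, h1, Matrix.one_mul] at h3
        rw [h3]
        simp only [Matrix.mul_assoc]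
        rw [← Units.val_mul, mul_inv_cancel, Units.val_one, Matrix.mul_one] }
  -- the element attached to `s`
  obtain ⟨X₁, hX₁⟩ : ∃ X₁, X₁ = B.P' * ((rm s).map i * B.P) := ⟨_, rfl⟩
  obtain ⟨X₂, hX₂⟩ : ∃ X₂, X₂ = B.P' * ((rm s⁻¹).map i * B.P) := ⟨_, rfl⟩
  have e1 : (rm s).map i * B.P = B.P * X₁ := by rw [hX₁]; exact block_comm B (hcom s hs)
  have e2 : (rm s⁻¹).map i * B.P = B.P * X₂ := by
    rw [hX₂]; exact block_comm B (hcom s⁻¹ (by rw [map_inv]; exact inv_mem hs))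
  have h21 : X₂ * X₁ = 1 := by
    calc X₂ * X₁ = B.P' * B.P * (X₂ * X₁) := by rw [B.inv, Matrix.one_mul]
      _ = B.P' * ((rm s⁻¹).map i * ((rm s).map i * B.P)) := by
        rw [e1, ← Matrix.mul_assoc _ B.P, e2]; simp only [Matrix.mul_assoc]
      _ = 1 := by
        rw [← Matrix.mul_assoc _ _ B.P, ← Matrix.map_mul, ← hone, inv_mul_cancel]
        simp [rm, Matrix.map_one, B.inv]
  have hXu : IsUnit X₁.det := Matrix.isUnit_det_of_left_inverse h21
  let h₁ : GL (Fin B.d) L := Matrix.GeneralLinearGroup.mk'' X₁ hXu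
  have hmem : h₁ ∈ X := ⟨s, hs, e1⟩
  obtain ⟨c, hc⟩ : ∃ c : L, X₁ = c • 1 := by
    by_cases hd : B.d = 1
    · exact block_scalar_one B hd X₁
    refine scalar_of_odd_orth (H := H₁) (τ := (1 : L ≃+* L)) (hH₁ ▸ block_sym B) (fun _ => rfl)
      (hH₁ ▸ B.nd) h2L (by have := B.odd; rw [Nat.odd_iff] at this; omega) X ?_ ?_ ?_ h₁ hmem
    · rintro h ⟨t, -, e⟩
      refine ⟨1, isSimil_of_mat ?_⟩
      rw [show ⇑(1 : L ≃+* L) = id from rfl, Matrix.map_id, one_smul, hH₁]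
      calc (h : Matrix (Fin B.d) (Fin B.d) L)ᵀ * (B.Pᵀ * (gram k F a b).map i * B.P) * (h : Matrix (Fin B.d) (Fin B.d) L)
          = (B.P * (h : Matrix (Fin B.d) (Fin B.d) L))ᵀ * (gram k F a b).map i * (B.P * (h : Matrix (Fin B.d) (Fin B.d) L)) := by
            rw [Matrix.transpose_mul]; simp only [Matrix.mul_assoc]
        _ = B.Pᵀ * ((rm t)ᵀ * gram k F a b * rm t).map i * B.P := by
            rw [← e, Matrix.transpose_mul, Matrix.map_mul, Matrix.map_mul, Matrix.transpose_map]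
            simp only [Matrix.mul_assoc]
        _ = _ := by rw [rm_gram]
    · rintro h hh m ⟨t, ht, e⟩
      have hm := mat_of_isSimil hh
      rw [show ⇑(1 : L ≃+* L) = id from rfl, Matrix.map_id, one_smul, hH₁] at hm
      obtain ⟨Y, hY, hYg, hYP⟩ := B.lift h hm
      have hYs : Cfsg.IsSemisimilarityPair (Cfsg.quadFormMinus k F a b) Y 1 :=
        isSemi_one_iff.2 (iso_le_sim _ (mem_iso_of_gram h2 hY))
      obtain ⟨γ, hγ⟩ := AutPSL.exists_induced (rho_injective _) (Orth.normalises hYs)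
      have hYg' : Y * g = g * Y := Units.ext hYg
      have hcomm : γ * x = x * γ := by
        have p1 := Induced.comp (Orth.normalises hg) hγ hx
        have p2 := Induced.comp (Orth.normalises hYs) hx hγ
        rw [AutPSL.fieldMap_one, one_mul] at p1 p2
        rw [← hYg'] at p2
        exact Induced.ext (Orth.normalises (by simpa [AutPSL.fieldMap_one] using IsSemi_comp hYs hg)) p1 p2
      obtain ⟨t', ht'⟩ := Orth.normalises hYs t
      refine ⟨t', ?_, ?_⟩
      · have := hinv γ hcomm _ ht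
        rwa [show γ (pi k F a b t) = pi k F a b t' from hγ t t' ht'] at this
      · have hYi : ((Y⁻¹ : GL (Idx k) F) : Matrix (Idx k) (Idx k) F).map i * B.P =
            B.P * ((h⁻¹ : GL (Fin B.d) L) : Matrix (Fin B.d) (Fin B.d) L) := by
          have h1 : ((Y⁻¹ : GL (Idx k) F) : Matrix (Idx k) (Idx k) F).map i * (Y : Matrix (Idx k) (Idx k) F).map i = 1 := by
            rw [← Matrix.map_mul, ← Units.val_mul, inv_mul_cancel, Units.val_one,
              Matrix.map_one _ (map_zero i) (map_one i)]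
          have h3 := congrArg (fun Z => ((Y⁻¹ : GL (Idx k) F) : Matrix (Idx k) (Idx k) F).map i * Z *
            ((h⁻¹ : GL (Fin B.d) L) : Matrix (Fin B.d) (Fin B.d) L)) hYP
          simp only [← Matrix.mul_assoc, h1, Matrix.one_mul] at h3
          rw [h3]
          simp only [Matrix.mul_assoc]
          rw [← Units.val_mul, mul_inv_cancel, Units.val_one, Matrix.mul_one]
        show (((ro k F a b t' : GL (Idx k) F) : Matrix (Idx k) (Idx k) F)).map i * B.P = _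
        rw [ht', AutPSL.act_apply, AutPSL.fieldMap_one, Units.val_mul, Units.val_mul, Matrix.map_mul,
          Matrix.map_mul, Matrix.mul_assoc, hYi, Matrix.mul_assoc, ← Matrix.mul_assoc ((rm t).map i), e,
          ← Matrix.mul_assoc, ← Matrix.mul_assoc, hYP, Units.val_mul, Units.val_mul]
        simp only [Matrix.mul_assoc]
    · rintro h ⟨t, ht, e⟩
      refine ⟨Nat.card M, hodd, ?_⟩
      have hpow : ∀ j : ℕ, (rm (t ^ j)).map i * B.P = B.P * ((h ^ j : GL (Fin B.d) L) : Matrix (Fin B.d) (Fin B.d) L) := by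
        intro j
        induction j with
        | zero => simp [rm, Matrix.map_one]
        | succ j ih =>
          rw [pow_succ, pow_succ, hone, Matrix.map_mul, Units.val_mul, Matrix.mul_assoc, e,
            ← Matrix.mul_assoc, ih, Matrix.mul_assoc]
      have h1 := congrArg Subtype.val (pow_card_eq_one' (x := (⟨pi k F a b t, ht⟩ : M)))
      rw [SubmonoidClass.coe_pow, ← map_pow, OneMemClass.coe_one] at h1
      obtain ⟨u, hu⟩ := (mk_eq_one_iff hk hn _).1 h1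
      refine ⟨i (u : F), ?_⟩
      have h3 := congrArg (B.P' * ·) (hpow (Nat.card M))
      simp only [rm, hu, AutPSL.scalarGL_coe, Matrix.map_smul' i _ _ (map_mul i),
        Matrix.map_one _ (map_zero i) (map_one i), Matrix.smul_mul, Matrix.one_mul, Matrix.mul_smul,
        ← Matrix.mul_assoc, B.inv] at h3
      exact h3.symm
  exact ⟨c, by rw [e1, hc, Matrix.mul_smul, Matrix.mul_one]⟩

/-- The centraliser of the involution has trivial core. -/
theorem core_of_split (h2 : (2 : F) ≠ 0)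
    (hsq : (g : Matrix (Idx k) (Idx k) F) * (g : Matrix (Idx k) (Idx k) F) = (l : F) • 1)
    (hgv : ∀ v : Idx k → F, qf k F a b ((g : Matrix (Idx k) (Idx k) F) *ᵥ v) = (l : F) * qf k F a b v)
    (hdetG : (g : Matrix (Idx k) (Idx k) F).det = -((l : F) ^ (k + 1)))
    (S : Split i (g : Matrix (Idx k) (Idx k) F) (gram k F a b) (l : F) s₁)
    (hx : Induced (ro k F a b) g 1 x) (ho : orderOf x = 2)
    (hsem : ∀ β : MulAut (PG k F a b), β * x = x * β → ∃ (g : GL (Idx k) F) (τ : F ≃+* F),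
      Cfsg.IsSemisimilarityPair (Cfsg.quadFormMinus k F a b) g τ ∧ Induced (ro k F a b) g τ β)
    (A : Subgroup (MulAut (PG k F a b))) (hinn : ∀ z : PG k F a b, MulAut.conj z ∈ A) :
    Cfsg.pPrimeCore 2 ↥(A ⊓ Subgroup.centralizer {x}) = ⊥ := by
  classical
  haveI : Finite (PG k F a b) := Quotient.finite _
  have h2L : (2 : L) ≠ 0 := by rw [← map_ofNat i 2, map_ne_zero]; exact h2
  have hs1 : s₁ ≠ 0 := fun e => (map_ne_zero i).2 l.ne_zero (by rw [← S.sq, e, mul_zero])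
  have hg : Cfsg.IsSemisimilarityPair (Cfsg.quadFormMinus k F a b) g 1 := ⟨l, hgv⟩
  have hgram := sim_gram hgv
  have hsym := selfadjoint (G := (g : Matrix (Idx k) (Idx k) F)) l.ne_zero hsq hgram
  obtain ⟨G, hGd⟩ : ∃ G, G = (g : Matrix (Idx k) (Idx k) F) := ⟨_, rfl⟩
  have hGM : G.map i = s₁ • (S.B₁.P * S.B₁.P') - s₁ • (S.B₂.P * S.B₂.P') :=
    eig_decomp S.hone (hGd ▸ S.B₁.eig) (hGd ▸ S.B₂.eig)
  have hinj : Function.Injective (fun X : Matrix (Idx k) (Idx k) F => X.map i) := fun A B h =>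
    Matrix.ext fun p q => i.injective (congrFun (congrFun h p) q)
  have decomp : ∀ (X : Matrix (Idx k) (Idx k) L) (α β : L), X * S.B₁.P = α • S.B₁.P → X * S.B₂.P = β • S.B₂.P →
      X = α • (S.B₁.P * S.B₁.P') + β • (S.B₂.P * S.B₂.P') := fun X α β h1 h2 => by
    calc X = X * (S.B₁.P * S.B₁.P' + S.B₂.P * S.B₂.P') := by rw [S.hone, Matrix.mul_one]
      _ = _ := by rw [Matrix.mul_add, ← Matrix.mul_assoc, ← Matrix.mul_assoc, h1, h2, Matrix.smul_mul, Matrix.smul_mul]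
  refine LocalEven61.Balance.core_two_bot (center_pg hk hn) ?_ ?_ A hinn
  · -- automorphisms of odd order fixing the fixed points
    intro β hcomm hodd hfixβ
    obtain ⟨g', τ, hg', hb⟩ := hsem β hcomm
    obtain ⟨hτn, u, hu⟩ := norm_scalar hk hn hg' hb rfl
    have p1 := Induced.comp (Orth.normalises hg) hb hx
    have p2 := Induced.comp (Orth.normalises hg') hx hb
    rw [hcomm] at p1
    have q1 := IsSemi_comp hg' hg
    have q2 := IsSemi_comp hg hg'
    rw [AutPSL.fieldMap_one] at p2 q2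
    obtain ⟨-, c', hc'⟩ := unique_inducer hk hn q1 q2 p1 p2
    obtain ⟨c, hcd⟩ : ∃ c, c = (c' : F) := ⟨_, rfl⟩
    have hc0 : c ≠ 0 := hcd ▸ c'.ne_zero
    have hgg : (g' : Matrix (Idx k) (Idx k) F) * (g : Matrix (Idx k) (Idx k) F).map τ =
        c • ((g : Matrix (Idx k) (Idx k) F) * (g' : Matrix (Idx k) (Idx k) F)) := by
      have h := congrArg (fun y : GL (Idx k) F => (y : Matrix (Idx k) (Idx k) F)) hc'
      simp only [Units.val_mul, AutPSL.fieldMap_coe, AutPSL.scalarGL_coe, Matrix.mul_smul, Matrix.mul_one] at h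
      rw [hcd]; exact h
    have hτl : τ (l : F) = c * c * l := by
      have h1 : (g' : Matrix (Idx k) (Idx k) F) * (g : Matrix (Idx k) (Idx k) F).map τ * (g : Matrix (Idx k) (Idx k) F).map τ =
          (c * c * l) • (g' : Matrix (Idx k) (Idx k) F) := by
        rw [hgg, Matrix.smul_mul, Matrix.mul_assoc, hgg, Matrix.mul_smul, ← Matrix.mul_assoc, hsq,
          Matrix.smul_mul, Matrix.one_mul, smul_smul, smul_smul, mul_assoc]
      rw [Matrix.mul_assoc, ← Matrix.map_mul, hsq, Matrix.map_smul' τ _ _ (map_mul τ),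
        Matrix.map_one _ (map_zero τ) (map_one τ), Matrix.mul_smul, Matrix.mul_one] at h1
      exact smul_left_injective F g'.ne_zero h1
    have hc1 : (l : F) = 1 → c = 1 := fun hl => by
      rw [hl, map_one, mul_one] at hτl
      exact sign_pos h2 hτl.symm hgg hodd hτn hu
    obtain ⟨τ', hτ', hs'⟩ := S.hext τ c hτl hc1
    have hβ : ∀ s : Om k F a b,
        rm s * (g : Matrix (Idx k) (Idx k) F) = (g : Matrix (Idx k) (Idx k) F) * rm s →
        ∃ e : F, e * e = 1 ∧ (g' : Matrix (Idx k) (Idx k) F) * (rm s).map τ = e • (rm s * (g' : Matrix (Idx k) (Idx k) F)) :=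
      fun s hs => act_eq hk hn hg' hb (hfixβ _ (fix_of_comm hk hn hx hs))
    obtain ⟨hτ1, α, hα⟩ := blk_scalar hk hn h2 S.B₁ hc0 hgg hβ hτ' hs' S.five
    have hτe : τ = 1 := RingEquiv.ext fun y => i.injective (by
      rw [← hτ', hτ1]; rfl)
    subst hτ1
    subst hτe
    have hic : i c = 1 := by
      have h : s₁ = i c * s₁ := hs'
      exact mul_right_cancel₀ hs1 (h.symm.trans (one_mul _).symm)
    have hid : ∀ X : Matrix (Idx k) (Idx k) F, X.map ⇑(1 : F ≃+* F) = X := fun X => Matrix.map_id X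
    have hc1' : c = 1 := i.injective (hic.trans (map_one i).symm)
    obtain ⟨μ, hμ⟩ := id hg'
    have hgram' := sim_gram (g := g') (μ := (μ : F)) (a := a) (b := b) fun v => hμ v
    have hαμ := blk_sq S.B₁ hgram' hα
    have hα0 : α ≠ 0 := fun e => (map_ne_zero i).2 μ.ne_zero (by rw [← hαμ, e, mul_zero])
    obtain ⟨α₂, hα₂⟩ : ∃ α₂ : L, (g' : Matrix (Idx k) (Idx k) F).map i * S.B₂.P = α₂ • S.B₂.P := by
      by_cases h5 : 5 ≤ S.B₂.d
      · exact (blk_scalar hk hn h2 S.B₂ hc0 hgg hβ hτ'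
          (by show (-s₁ : L) = i c * -s₁; rw [hic, one_mul]) h5).2
      · have hgg1 : (g' : Matrix (Idx k) (Idx k) F) * (g : Matrix (Idx k) (Idx k) F) =
            (g : Matrix (Idx k) (Idx k) F) * (g' : Matrix (Idx k) (Idx k) F) := by
          rw [hc1', one_smul, hid] at hgg; exact hgg
        by_cases hd1 : S.B₂.d = 1
        · obtain ⟨c₂, hc₂⟩ := block_scalar_one S.B₂ hd1
            (S.B₂.P' * ((g' : Matrix (Idx k) (Idx k) F).map i * S.B₂.P))
          exact ⟨c₂, by rw [block_comm S.B₂ hgg1, hc₂, Matrix.mul_smul, Matrix.mul_one]⟩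
        · refine small_scalar hk hn h2 S hsym hs1 (S.small.resolve_left h5)
            (by have := S.B₂.odd; rw [Nat.odd_iff] at this; omega) hα hα0 hgg1 fun s hs => ?_
          have := hβ s hs
          simpa only [hid] using this
    have hα₂μ := blk_sq S.B₂ hgram' hα₂
    have hG' := decomp _ α α₂ hα hα₂
    haveI : Nonempty (Idx k) := ⟨.inr 0⟩
    rcases mul_self_eq_mul_self_iff.1 (hα₂μ.trans hαμ.symm) with h | h
    · -- a scalar
      rw [h, ← smul_add, S.hone] at hG'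
      have e00 := congrFun (congrFun hG' (.inr 0)) (.inr 0)
      rw [Matrix.smul_apply, Matrix.one_apply_eq, smul_eq_mul, mul_one, Matrix.map_apply] at e00
      have hsc : (g' : Matrix (Idx k) (Idx k) F) = ((g' : Matrix (Idx k) (Idx k) F) (.inr 0) (.inr 0)) • 1 := hinj (by
        show (g' : Matrix (Idx k) (Idx k) F).map i = Matrix.map _ i
        rw [Matrix.map_smul' i _ _ (map_mul i), Matrix.map_one _ (map_zero i) (map_one i), hG', e00])
      obtain ⟨v, -, hv⟩ := AutPSL.exists_scalarGL (g := g') (fun e => g'.ne_zero (by rw [hsc, e, zero_smul])) hsc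
      refine MulEquiv.ext fun z => ?_
      obtain ⟨t, rfl⟩ := QuotientGroup.mk_surjective z
      refine hb t t ?_
      rw [AutPSL.act_apply, AutPSL.fieldMap_one, hv, AutPSL.scalarGL_mul_comm, mul_inv_cancel_right]
    · -- proportional to `g`
      exfalso
      have hG'' : (g' : Matrix (Idx k) (Idx k) F).map i = (α * s₁⁻¹) • (g : Matrix (Idx k) (Idx k) F).map i := by
        rw [← hGd, hGM, hG', h, neg_smul, smul_sub, smul_smul, smul_smul, mul_assoc, inv_mul_cancel₀ hs1,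
          mul_one, sub_eq_add_neg]
      obtain ⟨p, q, hpq⟩ : ∃ p q, (g : Matrix (Idx k) (Idx k) F) p q ≠ 0 := by
        by_contra hno
        push Not at hno
        exact g.ne_zero (Matrix.ext hno)
      have hγ : α * s₁⁻¹ = i ((g' : Matrix (Idx k) (Idx k) F) p q / (g : Matrix (Idx k) (Idx k) F) p q) := by
        have hpq' := congrFun (congrFun hG'' p) q
        rw [Matrix.smul_apply, Matrix.map_apply, Matrix.map_apply, smul_eq_mul] at hpq'
        rw [map_div₀, hpq', mul_div_cancel_right₀ _ ((map_ne_zero i).2 hpq)]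
      obtain ⟨γ, hγd⟩ : ∃ γ, γ = (g' : Matrix (Idx k) (Idx k) F) p q / (g : Matrix (Idx k) (Idx k) F) p q := ⟨_, rfl⟩
      rw [← hγd] at hγ
      have hgp : (g' : Matrix (Idx k) (Idx k) F) = γ • (g : Matrix (Idx k) (Idx k) F) := hinj (by
        show (g' : Matrix (Idx k) (Idx k) F).map i = Matrix.map _ i
        rw [Matrix.map_smul' i _ _ (map_mul i), ← hγ, hG''])
      have hγ0 : γ ≠ 0 := fun e => g'.ne_zero (by rw [hgp, e, zero_smul])
      have hgs : g' = g * scalarGL (Idx k) (Units.mk0 γ hγ0) := Units.ext (by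
        rw [Units.val_mul, AutPSL.scalarGL_coe, Matrix.mul_smul, Matrix.mul_one]; exact hgp)
      have hbx : β = x := by
        refine Induced.ext (Orth.normalises hg) (fun t t' ht => hb t t' ?_) hx
        rw [ht, AutPSL.act_apply, AutPSL.act_apply, hgs, AutPSL.fieldMap_one, _root_.mul_inv_rev,
          mul_assoc g (scalarGL _ _), AutPSL.scalarGL_mul_comm]
        group
      rw [hbx, ho] at hodd
      exact absurd hodd (by decide)
  · -- no normal subgroup of odd order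
    intro M hM hinv hodd
    have hcom : ∀ s : Om k F a b, pi k F a b s ∈ M →
        rm s * (g : Matrix (Idx k) (Idx k) F) = (g : Matrix (Idx k) (Idx k) F) * rm s := by
      intro s hs
      obtain ⟨e, he, hee⟩ := act_eq hk hn hg hx (s := s) (mem_fix.1 (hM hs))
      rw [show (rm s).map ⇑(1 : F ≃+* F) = rm s from Matrix.map_id _] at hee
      have hpow : ∀ j : ℕ, (g : Matrix (Idx k) (Idx k) F) * rm s ^ j = e ^ j • (rm s ^ j * (g : Matrix (Idx k) (Idx k) F)) := by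
        intro j
        induction j with
        | zero => simp
        | succ j ih =>
          rw [pow_succ (rm s), ← Matrix.mul_assoc, ih, Matrix.smul_mul, Matrix.mul_assoc, hee, Matrix.mul_smul,
            smul_smul, ← pow_succ, Matrix.mul_assoc]
      have h1 := congrArg Subtype.val (pow_card_eq_one' (x := (⟨pi k F a b s, hs⟩ : M)))
      rw [SubmonoidClass.coe_pow, ← map_pow, OneMemClass.coe_one] at h1
      obtain ⟨u, hu⟩ := (mk_eq_one_iff hk hn _).1 h1
      have hpN : rm s ^ Nat.card M = (u : F) • 1 := by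
        rw [← Units.val_pow_eq_pow_val, ← map_pow, hu, AutPSL.scalarGL_coe]
      have h3 := hpow (Nat.card M)
      rw [hpN, Matrix.mul_smul, Matrix.smul_mul, Matrix.mul_one, Matrix.one_mul, smul_smul] at h3
      have h4 : (u : F) = e ^ Nat.card M * (u : F) := smul_left_injective F g.ne_zero h3
      rcases mul_self_eq_one_iff.1 he with rfl | rfl
      · rw [one_smul] at hee; exact hee.symm
      · rw [hodd.neg_one_pow] at h4
        exact absurd ((mul_eq_zero.1 (show (2 : F) * (u : F) = 0 by linear_combination h4)).resolve_left h2)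
          u.ne_zero
    refine (Subgroup.eq_bot_iff_forall _).2 fun m hm => ?_
    obtain ⟨s, rfl⟩ := QuotientGroup.mk_surjective m
    obtain ⟨c₁, hc₁⟩ := blk_normal hk hn h2 S.B₁ hg hx hinv hodd hcom s hm
    obtain ⟨c₂, hc₂⟩ := blk_normal hk hn h2 S.B₂ hg hx hinv hodd hcom s hm
    have hgs : (rm s)ᵀ * gram k F a b * rm s = (1 : F) • gram k F a b := by rw [one_smul, rm_gram]
    have e1 := blk_sq S.B₁ hgs hc₁
    have e2 := blk_sq S.B₂ hgs hc₂
    have hS' := decomp _ c₁ c₂ hc₁ hc₂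
    have hdet : (rm s).det = 1 := by
      have h := omega_le_special (Q := qf k F a b) (g := s.1) s.2
      exact congrArg Units.val h
    rcases mul_self_eq_mul_self_iff.1 (e2.trans e1.symm) with h | h
    · rw [h, ← smul_add, S.hone] at hS'
      rw [map_one] at e1
      obtain ⟨e, he, hee⟩ : ∃ e : F, e * e = 1 ∧ c₁ = i e := by
        rcases mul_self_eq_one_iff.1 e1 with h' | h'
        · exact ⟨1, one_mul 1, by rw [map_one, h']⟩
        · exact ⟨-1, by ring, by rw [map_neg, map_one, h']⟩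
      refine (mk_eq_one_iff hk hn s).2 ⟨Units.mk0 e (left_ne_zero_of_mul_eq_one he), Units.ext (hinj ?_)⟩
      show (rm s).map i = Matrix.map _ i
      rw [AutPSL.scalarGL_coe, Matrix.map_smul' i _ _ (map_mul i), Matrix.map_one _ (map_zero i) (map_one i),
        Units.val_mk0, ← hee, hS']
    · exfalso
      rw [map_one] at e1
      have hMs : (rm s).map i = (c₁ * s₁⁻¹) • (g : Matrix (Idx k) (Idx k) F).map i := by
        rw [← hGd, hGM, hS', h, neg_smul, smul_sub, smul_smul, smul_smul, mul_assoc, inv_mul_cancel₀ hs1,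
          mul_one, sub_eq_add_neg]
      have hd := congrArg Matrix.det hMs
      rw [show ((rm s).map i).det = i (rm s).det from (RingHom.map_det i _).symm, hdet, map_one,
        Matrix.det_smul, show ((g : Matrix (Idx k) (Idx k) F).map i).det = i (g : Matrix (Idx k) (Idx k) F).det from (RingHom.map_det i _).symm,
        hdetG, map_neg, map_pow, show Fintype.card (Idx k) = 2 * (k + 1) by simp; omega,
        pow_mul, mul_neg, ← mul_pow, ← S.sq,
        show (c₁ * s₁⁻¹) ^ 2 * (s₁ * s₁) = 1 by field_simp; linear_combination e1, one_pow] at hd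
      exact h2L (by linear_combination hd)

end main

end Cfsg.Agent.PlusBal
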