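import Cfsg.Agent.FieldAutGen.PlusAut
import Cfsg.Agent.FieldAutGen.MinusBasic

/-!
Isometric forms: the isomorphism of the groups `PΩ`, and semisimilarities through it; the split
form `∑ xᵢ yᵢ + z₁² + a z₁ z₂ + b z₂²` (helper11).
-/

set_option autoImplicit false
set_option maxHeartbeats 800000

namespace Cfsg.Agent.PlusBal

open Matrix QuadraticMap
open Cfsg.Agent.AutPSL (fieldMap scalarGL Induced act)
open Cfsg.Agent.FieldAutGen Cfsg.Agent.FieldAutGen.Orth
open Cfsg.Agent.FieldAutGen.Minus (Idx)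

universe u

variable {ι ι' : Type} [Fintype ι] [DecidableEq ι] [Fintype ι'] [DecidableEq ι'] {F : Type u} [Field F]

/-- Matrices through a linear equivalence of the spaces. -/
noncomputable def glT (T : (ι → F) ≃ₗ[F] (ι' → F)) : GL ι F ≃* GL ι' F :=
  (Matrix.GeneralLinearGroup.toLin).trans
    ((LinearMap.GeneralLinearGroup.congrLinearEquiv T).trans Matrix.GeneralLinearGroup.toLin.symm)

theorem glT_mulVec (T : (ι → F) ≃ₗ[F] (ι' → F)) (g : GL ι F) (v : ι → F) :
    (glT T g : Matrix ι' ι' F) *ᵥ T v = T ((g : Matrix ι ι F) *ᵥ v) := by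
  show LinearMap.toMatrix' (T.toLinearMap ∘ₗ Matrix.toLin' (g : Matrix ι ι F) ∘ₗ T.symm.toLinearMap) *ᵥ T v = _
  rw [LinearMap.toMatrix'_mulVec]
  simp [Matrix.toLin'_apply]

theorem glT_symm_mulVec (T : (ι → F) ≃ₗ[F] (ι' → F)) (g : GL ι' F) (w : ι' → F) :
    (((glT T).symm g : GL ι F) : Matrix ι ι F) *ᵥ T.symm w = T.symm ((g : Matrix ι' ι' F) *ᵥ w) := by
  apply T.injective
  rw [← glT_mulVec, MulEquiv.apply_symm_apply, T.apply_symm_apply, T.apply_symm_apply]

theorem gl_ext {g h : GL ι F} (e : ∀ v, (g : Matrix ι ι F) *ᵥ v = (h : Matrix ι ι F) *ᵥ v) : g = h :=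
  Units.ext (Matrix.ext_iff_mulVec.mpr e)

variable {f : (ι → F) → F} {f' : (ι' → F) → F}

/-- An isomorphism of the groups compatible with an isometry of the spaces. -/
def Compat (T : (ι → F) ≃ₗ[F] (ι' → F)) (θ : Cfsg.POmega F f ≃* Cfsg.POmega F f') : Prop :=
  ∀ s : ↥(Cfsg.Omega F f), ∃ s' : ↥(Cfsg.Omega F f'),
    θ (QuotientGroup.mk s) = QuotientGroup.mk s' ∧ rho f' s' = glT T (rho f s)

theorem exists_compat (T : (ι → F) ≃ₗ[F] (ι' → F)) (hT : ∀ v, f' (T v) = f v) :
    ∃ θ : Cfsg.POmega F f ≃* Cfsg.POmega F f', Compat T θ := by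
  have hmem : ∀ g : GL ι F, glT T g ∈ Cfsg.isometryGroup F f' ↔ g ∈ Cfsg.isometryGroup F f := by
    intro g
    rw [mem_iso, mem_iso]
    refine ⟨fun h v => ?_, fun h w => ?_⟩
    · rw [← hT, ← glT_mulVec, h, hT]
    · obtain ⟨v, rfl⟩ := T.surjective w
      rw [glT_mulVec, hT, h, hT]
  let e : ↥(Cfsg.isometryGroup F f) ≃* ↥(Cfsg.isometryGroup F f') :=
    { toFun := fun x => ⟨glT T (x : GL ι F), (hmem _).2 x.2⟩
      invFun := fun y => ⟨(glT T).symm (y : GL ι' F), (hmem _).1 (by rw [MulEquiv.apply_symm_apply]; exact y.2)⟩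
      left_inv := fun x => Subtype.ext ((glT T).symm_apply_apply _)
      right_inv := fun y => Subtype.ext ((glT T).apply_symm_apply _)
      map_mul' := fun x y => Subtype.ext (map_mul (glT T) _ _) }
  have hmap : (Cfsg.Omega F f).map e.toMonoidHom = Cfsg.Omega F f' := by
    rw [Cfsg.Omega, Cfsg.Omega, commutator_def, Subgroup.map_commutator,
      Subgroup.map_top_of_surjective _ e.surjective, commutator_def]
  let eS : ↥(Cfsg.Omega F f) ≃* ↥(Cfsg.Omega F f') :=
    (e.subgroupMap _).trans (MulEquiv.subgroupCongr hmap)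
  have hZ : (Subgroup.center ↥(Cfsg.Omega F f)).map eS.toMonoidHom =
      Subgroup.center ↥(Cfsg.Omega F f') := by
    refine le_antisymm ?_ fun y hy => ?_
    · rintro _ ⟨x, hx, rfl⟩
      refine Subgroup.mem_center_iff.2 fun y => ?_
      have := congrArg eS (Subgroup.mem_center_iff.1 hx (eS.symm y))
      rw [map_mul, map_mul, eS.apply_symm_apply] at this
      exact this
    · refine ⟨eS.symm y, Subgroup.mem_center_iff.2 fun x => eS.injective ?_, eS.apply_symm_apply y⟩
      rw [map_mul, map_mul, eS.apply_symm_apply]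
      exact Subgroup.mem_center_iff.1 hy (eS x)
  exact ⟨QuotientGroup.congr _ _ eS hZ, fun s => ⟨eS s, rfl, rfl⟩⟩

theorem Compat.symm [Finite F] {T : (ι → F) ≃ₗ[F] (ι' → F)} {θ : Cfsg.POmega F f ≃* Cfsg.POmega F f'}
    (h : Compat T θ) (hT : ∀ v, f' (T v) = f v) : Compat T.symm θ.symm := by
  haveI : Finite ↥(Cfsg.Omega F f) := inferInstance
  intro t
  have hinj : Function.Injective fun s => (h s).choose := fun s s' e => rho_injective _ ((glT T).injective (by
    rw [← (h s).choose_spec.2, ← (h s').choose_spec.2]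
    exact congrArg _ e))
  have hcard : Nat.card ↥(Cfsg.Omega F f') ≤ Nat.card ↥(Cfsg.Omega F f) := by
    have hmem : ∀ g : GL ι' F, g ∈ Cfsg.isometryGroup F f' →
        (glT T).symm g ∈ Cfsg.isometryGroup F f := fun g hg => mem_iso.2 fun v => by
      rw [← hT, ← glT_mulVec, MulEquiv.apply_symm_apply, mem_iso.1 hg, hT]
    let b : ↥(Cfsg.isometryGroup F f') →* ↥(Cfsg.isometryGroup F f) :=
      ((glT T).symm.toMonoidHom.comp (Cfsg.isometryGroup F f').subtype).codRestrict _ fun g => hmem _ g.2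
    have hle : (Cfsg.Omega F f').map b ≤ Cfsg.Omega F f := by
      rw [Cfsg.Omega, commutator_def, Subgroup.map_commutator]
      exact Subgroup.commutator_mono le_top le_top
    exact Nat.card_le_card_of_injective
      (fun x : ↥(Cfsg.Omega F f') => (⟨b x.1, hle ⟨x.1, x.2, rfl⟩⟩ : ↥(Cfsg.Omega F f)))
      fun x y e => rho_injective _ ((glT T).symm.injective
        (congrArg (fun z : ↥(Cfsg.Omega F f) => (z.1 : GL ι F)) e))
  obtain ⟨s, hs⟩ := (hinj.bijective_of_nat_card_le hcard).2 t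
  refine ⟨s, ?_, gl_ext fun v => ?_⟩
  · rw [MulEquiv.symm_apply_eq, (h s).choose_spec.1]
    exact congrArg QuotientGroup.mk hs.symm
  · obtain ⟨w, rfl⟩ := T.symm.surjective v
    rw [glT_mulVec, ← glT_symm_mulVec T]
    rw [show rho f' t = glT T (rho f s) by rw [← (h s).choose_spec.2]; exact congrArg _ hs.symm,
      MulEquiv.symm_apply_apply]

/-- Semisimilarities through the isomorphism. -/
theorem Compat.transfer [Finite F] {T : (ι → F) ≃ₗ[F] (ι' → F)}
    {θ : Cfsg.POmega F f ≃* Cfsg.POmega F f'} (h : Compat T θ) (hT : ∀ v, f' (T v) = f v)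
    {g : GL ι F} {σ : F ≃+* F} (hg : Cfsg.IsSemisimilarityPair f g σ) {β : MulAut (Cfsg.POmega F f)}
    (hβ : Induced (rho f) g σ β) :
    ∃ g' : GL ι' F, (∀ v, (g' : Matrix ι' ι' F) *ᵥ (σ ∘ T v) = T ((g : Matrix ι ι F) *ᵥ (σ ∘ v))) ∧
      Cfsg.IsSemisimilarityPair f' g' σ ∧ Induced (rho f') g' σ (MulAut.congr θ β) := by
  let Φ : (ι' → F) →ₗ[F] (ι' → F) :=
    { toFun := fun w => T ((g : Matrix ι ι F) *ᵥ (σ ∘ T.symm (σ.symm ∘ w)))
      map_add' := fun x y => by
        rw [← map_add, ← mulVec_add]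
        congr 2
        funext i
        rw [show σ.symm ∘ (x + y) = σ.symm ∘ x + σ.symm ∘ y from funext fun l => map_add σ.symm _ _, map_add]
        exact map_add σ _ _
      map_smul' := fun c x => by
        rw [RingHom.id_apply, show σ.symm ∘ (c • x) = σ.symm c • (σ.symm ∘ x) from
          funext fun l => map_mul σ.symm _ _, map_smul,
          show σ ∘ (σ.symm c • T.symm (σ.symm ∘ x)) = c • (σ ∘ T.symm (σ.symm ∘ x)) from funext fun l => by
            simp, mulVec_smul, map_smul] }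
  have hΦ : ∀ v, Φ (σ ∘ T v) = T ((g : Matrix ι ι F) *ᵥ (σ ∘ v)) := fun v => by
    show T ((g : Matrix ι ι F) *ᵥ (σ ∘ T.symm (σ.symm ∘ σ ∘ T v))) = _
    rw [show σ.symm ∘ σ ∘ T v = T v from funext fun l => σ.symm_apply_apply _, T.symm_apply_apply]
  have hpre : ∀ w : ι' → F, ∃ v, w = σ ∘ T v := fun w =>
    ⟨T.symm (σ.symm ∘ w), by rw [T.apply_symm_apply]; exact funext fun l => (σ.apply_symm_apply _).symm⟩
  have hinj : Function.Injective Φ := fun x y e => by
    obtain ⟨v, rfl⟩ := hpre x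
    obtain ⟨v', rfl⟩ := hpre y
    rw [hΦ, hΦ] at e
    have e1 : σ ∘ v = σ ∘ v' := by
      have e2 := congrArg (fun z => ((g⁻¹ : GL ι F) : Matrix ι ι F) *ᵥ z) (T.injective e)
      simpa only [mulVec_mulVec, ← Units.val_mul, inv_mul_cancel, Units.val_one, one_mulVec] using e2
    rw [show v = v' from funext fun l => σ.injective (congrFun e1 l)]
  have hu : IsUnit (LinearMap.toMatrix' Φ).det := by
    rw [LinearMap.det_toMatrix']
    exact LinearEquiv.isUnit_det' (LinearEquiv.ofInjectiveEndo Φ hinj)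
  let g' : GL ι' F := Matrix.GeneralLinearGroup.mk'' _ hu
  have hg' : ∀ v, (g' : Matrix ι' ι' F) *ᵥ (σ ∘ T v) = T ((g : Matrix ι ι F) *ᵥ (σ ∘ v)) := fun v => by
    show LinearMap.toMatrix' Φ *ᵥ (σ ∘ T v) = _
    rw [LinearMap.toMatrix'_mulVec, hΦ]
  refine ⟨g', hg', ?_, ?_⟩
  · obtain ⟨c, hc⟩ := hg
    refine ⟨c, fun w => ?_⟩
    obtain ⟨v, rfl⟩ := T.surjective w
    show f' ((g' : Matrix ι' ι' F) *ᵥ (σ ∘ T v)) = _
    rw [hg', hT, hT]
    exact hc v
  · intro t t' ht
    obtain ⟨s, hs, hsr⟩ := h.symm hT t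
    obtain ⟨s₁, hs₁⟩ := Orth.normalises hg s
    obtain ⟨t₁, ht₁, htr⟩ := h s₁
    show θ (β (θ.symm (QuotientGroup.mk t))) = QuotientGroup.mk t'
    rw [hs, hβ s s₁ hs₁, ht₁]
    refine congrArg QuotientGroup.mk (rho_injective _ (gl_ext fun w => ?_))
    obtain ⟨y, rfl⟩ := exists_preimage g' σ w
    obtain ⟨v, rfl⟩ := T.surjective y
    have e2 : (rho f s : Matrix ι ι F) *ᵥ v = T.symm ((rho f' t : Matrix ι' ι' F) *ᵥ T v) := by
      have e := glT_mulVec T.symm (rho f' t) (T v)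
      rwa [T.symm_apply_apply, ← hsr] at e
    rw [htr, ht, act_mulVec, hg', glT_mulVec, hs₁, act_mulVec]
    rw [e2, ← hg', T.apply_symm_apply]

/-! ### The split form -/

variable {k : ℕ} (a b t : F)

/-- Hyperbolic coordinates of the split form; `t` is a root of `X² + a X + b`. -/
noncomputable def splitT (hd : a + 2 * t ≠ 0) :
    (Fin (k + 1) ⊕ Fin (k + 1) → F) ≃ₗ[F] (Idx k → F) where
  toFun v := Sum.elim (Sum.elim (fun j => v (.inl j.castSucc)) fun j => v (.inr j.castSucc))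
    ![v (.inl (Fin.last k)) + t * ((v (.inr (Fin.last k)) - v (.inl (Fin.last k))) / (a + 2 * t)),
      (v (.inr (Fin.last k)) - v (.inl (Fin.last k))) / (a + 2 * t)]
  map_add' v w := by
    funext l
    rcases l with (l | l) | l <;> [simp; simp; fin_cases l] <;> simp <;> ring
  map_smul' c v := by
    funext l
    rcases l with (l | l) | l <;> [simp; simp; fin_cases l] <;> simp <;> ring
  invFun w := Sum.elim (Fin.snoc (fun j => w (.inl (.inl j))) (w (.inr 0) - t * w (.inr 1)))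
    (Fin.snoc (fun j => w (.inl (.inr j))) (w (.inr 0) + (a + t) * w (.inr 1)))
  left_inv v := by
    funext l
    rcases l with l | l <;> refine Fin.lastCases ?_ (fun j => ?_) l
    · simp
    · simp
    · have e := mul_div_cancel₀ (v (.inr (Fin.last k)) - v (.inl (Fin.last k))) hd
      simp
      linear_combination e
    · simp
  right_inv w := by
    have e : (w (.inr 0) + (a + t) * w (.inr 1) - (w (.inr 0) - t * w (.inr 1))) / (a + 2 * t) = w (.inr 1) := by
      rw [div_eq_iff hd]; ring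
    funext l
    rcases l with (l | l) | l
    · simp
    · simp
    · fin_cases l
      · simp only [Sum.elim_inl, Sum.elim_inr, Fin.snoc_last, Fin.zero_eta, Fin.mk_one, Matrix.cons_val_zero,
          Matrix.cons_val_one, e]
        ring
      · simp only [Sum.elim_inl, Sum.elim_inr, Fin.snoc_last, Fin.zero_eta, Fin.mk_one, Matrix.cons_val_zero,
          Matrix.cons_val_one, e]

theorem splitT_inl (hd : a + 2 * t ≠ 0) (v : Fin (k + 1) ⊕ Fin (k + 1) → F) (j : Fin k) :
    splitT a t hd v (.inl (.inl j)) = v (.inl j.castSucc) ∧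
      splitT a t hd v (.inl (.inr j)) = v (.inr j.castSucc) := ⟨rfl, rfl⟩

theorem splitT_inr (hd : a + 2 * t ≠ 0) (v : Fin (k + 1) ⊕ Fin (k + 1) → F) :
    splitT a t hd v (.inr 0) =
      v (.inl (Fin.last k)) + t * ((v (.inr (Fin.last k)) - v (.inl (Fin.last k))) / (a + 2 * t)) ∧
    splitT a t hd v (.inr 1) = (v (.inr (Fin.last k)) - v (.inl (Fin.last k))) / (a + 2 * t) := ⟨rfl, rfl⟩

theorem splitT_form (hd : a + 2 * t ≠ 0) (ht : t * t + a * t + b = 0)
    (v : Fin (k + 1) ⊕ Fin (k + 1) → F) :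
    Cfsg.quadFormMinus k F a b (splitT a t hd v) = Cfsg.quadFormPlus (k + 1) F v := by
  simp only [Cfsg.quadFormMinus, Cfsg.quadFormPlus, (splitT_inl a t hd v _).1, (splitT_inl a t hd v _).2,
    (splitT_inr a t hd v).1, (splitT_inr a t hd v).2, Fin.sum_univ_castSucc]
  set x := v (.inl (Fin.last k))
  set y := v (.inr (Fin.last k))
  obtain ⟨z, hz⟩ : ∃ z, z = (y - x) / (a + 2 * t) := ⟨_, rfl⟩
  rw [← hz]
  have hy : y = x + (a + 2 * t) * z := by rw [hz, mul_div_cancel₀ _ hd]; ring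
  rw [hy]
  linear_combination z * z * ht

theorem split_nondeg (hd : a + 2 * t ≠ 0) (ht : t * t + a * t + b = 0) :
    (Minus.qf k F a b).polarBilin.Nondegenerate := by
  have hp : ∀ x y, polar ⇑(Minus.qf k F a b) (splitT a t hd x) (splitT a t hd y) =
      polar ⇑(Plus.qf (k + 1) F) x y := fun x y => by
    simp only [polar, ← map_add, Minus.qf_apply, Plus.qf_apply, splitT_form a b t hd ht]
  have hl : ∀ w, (∀ w', polar ⇑(Minus.qf k F a b) w w' = 0) → w = 0 := fun w hw => by
    obtain ⟨x, rfl⟩ := (splitT (k := k) a t hd).surjective w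
    rw [show x = 0 from Plus.qf_nondeg.1 x fun y => by
      show polar ⇑(Plus.qf (k + 1) F) x y = 0
      rw [← hp, hw], map_zero]
  exact ⟨fun x hx => hl x hx, fun y hy => hl y fun x => by rw [polar_comm]; exact hy x⟩

end Cfsg.Agent.PlusBal
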