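import Cfsg.Agent.PlusBal.D4Link
import Cfsg.Agent.PlusBal.Transfer
import Cfsg.Agent.LocalEven61.POMinusBalanceField

/-!
Automorphisms of `PΩ⁺_{2m}`, `m ≥ 4`, that are semisimilarities: those fixing two root elements of the
base pair, and those commuting with an involution outside the class-preserving group (helper11).
-/

set_option autoImplicit false
set_option maxHeartbeats 800000

namespace Cfsg.Agent.PlusBal

open Matrix QuadraticMap
open Cfsg.Agent.AutPSL (fieldMap scalarGL Induced act)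
open Cfsg.Agent.FieldAutGen Cfsg.Agent.FieldAutGen.Orth
open Cfsg.Agent.UnitaryOrthogonal (qPlus qPlus_apply)
open Cfsg.Agent.UnitaryOrthogonal.Adjoint (I4)
open Cfsg.Agent.CG26.AutPO (Om piO simRange IsLn MapsLn eb eo)
open Cfsg.Agent.CG26.AutPO.D4 (setup4 tau lnR bv r0 r1 pres_mem gsw tau_gsw tau_cube tau_notMem
  tau_sq_notMem exists_decomp)
open Cfsg.Agent.LocalEven61.POMinusBalance (PG pi ro)

universe u

variable {F : Type u} [Field F] [Fintype F]

/-- `β` is induced by a semisimilarity. -/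
def IsSemiAut {ι : Type} [Fintype ι] [DecidableEq ι] (f : (ι → F) → F) (β : MulAut (Cfsg.POmega F f)) : Prop :=
  ∃ (g : GL ι F) (σ : F ≃+* F), Cfsg.IsSemisimilarityPair f g σ ∧ Induced (rho f) g σ β

theorem range_iff {m : ℕ} (hm : 3 ≤ m)
    (hS : Setting (rho (Cfsg.quadFormPlus m F)) (Plus.H hm F) ⊤)
    (β : MulAut (Cfsg.POmega F (Cfsg.quadFormPlus m F))) :
    β ∈ (conjH hS).range ↔ Cfsg.IsInnerDiagonalAutPOmegaPlus m β := by
  constructor
  · rintro ⟨⟨g, hg⟩, rfl⟩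
    obtain ⟨hgs, hc⟩ := (Plus.mem_H hm).1 hg
    exact ⟨g, hgs, (Plus.preserves_iff hm ⟨g, hgs⟩).2 hc, induced_iff.2 (induced_conjH hS ⟨g, hg⟩)⟩
  · rintro ⟨g, hgs, hp, hb⟩
    exact ⟨⟨g, (Plus.mem_H hm).2 ⟨hgs, (Plus.preserves_iff hm ⟨g, hgs⟩).1 hp⟩⟩,
      (eq_conjH hS _ (induced_iff.1 hb)).symm⟩

theorem range_le_simRange {E : Cfsg.POmega F (Cfsg.quadFormPlus 4 F) ≃* P8 F} (hE : Model E)
    {hS : Setting (rho (Cfsg.quadFormPlus 4 F)) (Plus.H (show 3 ≤ 4 by norm_num) F) ⊤}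
    {β : MulAut (Cfsg.POmega F (Cfsg.quadFormPlus 4 F))} (h : β ∈ (conjH hS).range) :
    MulAut.congr E β ∈ simRange (qPlus 4 F) := by
  obtain ⟨⟨g, hg⟩, rfl⟩ := h
  exact mem_simRange_of_semi hE (isSemi_one_iff.2 ((Plus.mem_H _).1 hg).1) (induced_conjH hS ⟨g, hg⟩)

theorem tau_gsw_conj :
    (tau (F := F))⁻¹ * gsw * tau = tau * gsw ∧ tau (F := F) * gsw * tau⁻¹ = tau * tau * gsw := by
  have h1 := tau_gsw (F := F)
  have h3 : tau (F := F) * tau * tau = 1 := by rw [← pow_three']; exact tau_cube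
  have e : (tau (F := F))⁻¹ = tau * tau := inv_eq_of_mul_eq_one_right (by rw [← mul_assoc]; exact h3)
  rw [e]
  constructor
  · calc tau (F := F) * tau * gsw * tau = tau * (tau * gsw * tau) := by group
      _ = tau * gsw := by rw [h1]
  · have h2 : gsw (F := F) * tau = tau * tau * gsw := by
      calc gsw (F := F) * tau = tau * tau * (tau * gsw * tau) := by
            rw [← mul_assoc, ← mul_assoc, h3, one_mul]
        _ = _ := by rw [h1]
    calc tau (F := F) * gsw * (tau * tau) = tau * gsw * tau * tau := by group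
      _ = gsw * tau := by rw [h1]
      _ = _ := h2

theorem gsw_mem : gsw (F := F) ∈ simRange (qPlus 4 F) := ⟨_, rfl⟩

theorem conj_gsw_notMem :
    (tau (F := F))⁻¹ * gsw * tau ∉ simRange (qPlus 4 F) ∧
      tau (F := F) * gsw * tau⁻¹ ∉ simRange (qPlus 4 F) := by
  rw [tau_gsw_conj.1, tau_gsw_conj.2]
  exact ⟨fun h => tau_notMem (((simRange (qPlus 4 F)).mul_mem_cancel_right gsw_mem).1 h),
    fun h => tau_sq_notMem (((simRange (qPlus 4 F)).mul_mem_cancel_right gsw_mem).1 h)⟩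

/-- An involutory similarity outside the class-preserving group moves the other two point classes. -/
theorem graph_conj_notMem {E : Cfsg.POmega F (Cfsg.quadFormPlus 4 F) ≃* P8 F} (hE : Model E)
    {g : GL I4 F} (hg : g ∈ Plus.Sim 4 F) (hc : Plus.cls (show 3 ≤ 4 by norm_num) ⟨g, hg⟩ ≠ 1)
    {x : MulAut (Cfsg.POmega F (Cfsg.quadFormPlus 4 F))}
    (hx : Induced (rho (Cfsg.quadFormPlus 4 F)) g 1 x) :
    tau⁻¹ * MulAut.congr E x * tau ∉ simRange (qPlus 4 F) ∧
      tau * MulAut.congr E x * tau⁻¹ ∉ simRange (qPlus 4 F) := by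
  classical
  have hS := Plus.setting (F := F) (show 3 ≤ 4 by norm_num)
  obtain ⟨Y, hYs, hYi⟩ := semi_of_sim hE (CG26.AutPO.Sim.ofOrth (CG26.AutPO.D4.sw (F := F)))
    (β := (MulAut.congr E).symm gsw) (by rw [MulEquiv.apply_symm_apply]; rfl)
  set y := (MulAut.congr E).symm (gsw (F := F)) with hy
  have hYg : Y ∈ Plus.Sim 4 F := isSemi_one_iff.1 hYs
  have hYi' : Induced (Plus.R 4 F) Y 1 y := hYi
  have key : ∀ δ ∈ (conjH hS).range, ∀ z : MulAut (P8 F),
      z * MulAut.congr E δ * z⁻¹ ∈ simRange (qPlus 4 F) := by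
    intro δ hδ z
    have h := range_le_simRange hE (Plus.conj_inndiag_all le_rfl hS ((MulAut.congr E).symm z) hδ)
    rwa [map_mul, map_mul, map_inv, MulEquiv.apply_symm_apply] at h
  have hYc : Plus.cls (show 3 ≤ 4 by norm_num) ⟨Y, hYg⟩ ≠ 1 := by
    intro h1
    have hd : y ∈ (conjH hS).range := ⟨⟨Y, (Plus.mem_H _).2 ⟨hYg, h1⟩⟩, (eq_conjH hS _ hYi').symm⟩
    have := key y hd tau⁻¹
    rw [hy, MulEquiv.apply_symm_apply, inv_inv] at this
    exact conj_gsw_notMem.1 this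
  have hδ : x * y⁻¹ ∈ (conjH hS).range :=
    Plus.mem_coset (show 3 ≤ 4 by norm_num) hS ⟨g, hg⟩ ⟨Y, hYg⟩ hx hYi'
      ((Plus.eq_ofAdd_one hc).trans (Plus.eq_ofAdd_one hYc).symm)
  have hxe : MulAut.congr E x = MulAut.congr E (x * y⁻¹) * gsw := by
    rw [map_mul, map_inv, hy, MulEquiv.apply_symm_apply, inv_mul_cancel_right]
  refine ⟨fun h => ?_, fun h => ?_⟩
  · have e := key _ hδ tau⁻¹
    rw [inv_inv] at e
    rw [hxe, show tau⁻¹ * (MulAut.congr E (x * y⁻¹) * gsw) * tau =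
      (tau⁻¹ * MulAut.congr E (x * y⁻¹) * tau) * (tau⁻¹ * gsw * tau) by group] at h
    exact conj_gsw_notMem.1 (((simRange (qPlus 4 F)).mul_mem_cancel_left e).1 h)
  · have e := key _ hδ tau
    rw [hxe, show tau * (MulAut.congr E (x * y⁻¹) * gsw) * tau⁻¹ =
      (tau * MulAut.congr E (x * y⁻¹) * tau⁻¹) * (tau * gsw * tau⁻¹) by group] at h
    exact conj_gsw_notMem.2 (((simRange (qPlus 4 F)).mul_mem_cancel_left e).1 h)

/-- Automorphisms commuting with an involution outside the class-preserving group. -/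
theorem semi_of_comm {m : ℕ} (hm : 4 ≤ m) {g : GL (Fin m ⊕ Fin m) F} (hg : g ∈ Plus.Sim m F)
    (hc : Plus.cls (show 3 ≤ m by omega) ⟨g, hg⟩ ≠ 1)
    {x β : MulAut (Cfsg.POmega F (Cfsg.quadFormPlus m F))}
    (hx : Induced (rho (Cfsg.quadFormPlus m F)) g 1 x) (hβ : β * x = x * β) :
    IsSemiAut (Cfsg.quadFormPlus m F) β := by
  rcases Nat.lt_or_ge m 5 with h | h
  · obtain rfl : m = 4 := by omega
    obtain ⟨E, hE⟩ := exists_model (F := F)
    refine semi_of_mem_simRange hE ?_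
    obtain ⟨h1, h2⟩ := graph_conj_notMem hE hg hc hx
    have hxs := mem_simRange_of_semi hE (isSemi_one_iff.2 hg) hx
    obtain ⟨i, hi⟩ := exists_decomp (MulAut.congr E β)
    set B := MulAut.congr E β with hB
    set X := MulAut.congr E x with hX
    have hcomm : B * X = X * B := by rw [hB, hX, ← map_mul, ← map_mul, hβ]
    obtain ⟨s, hs⟩ : ∃ s, s = (tau ^ (i : ℕ))⁻¹ * B := ⟨_, rfl⟩
    rw [← hs] at hi
    have hmem : (tau ^ (i : ℕ))⁻¹ * X * tau ^ (i : ℕ) ∈ simRange (qPlus 4 F) := by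
      have e : (tau ^ (i : ℕ))⁻¹ * X * tau ^ (i : ℕ) = s * X * s⁻¹ := by
        rw [hs, show (tau ^ (i : ℕ))⁻¹ * B * X * ((tau ^ (i : ℕ))⁻¹ * B)⁻¹ =
          (tau ^ (i : ℕ))⁻¹ * (B * X) * B⁻¹ * tau ^ (i : ℕ) by group, hcomm]
        group
      rw [e]
      exact mul_mem (mul_mem hi hxs) (inv_mem hi)
    have hi0 : (i : ℕ) = 0 := by
      have h3 := i.isLt
      interval_cases hk : (i : ℕ)
      · rfl
      · exact absurd (by simpa using hmem) h1
      · refine absurd ?_ h2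
        have e : (tau (F := F) ^ 2)⁻¹ = tau :=
          inv_eq_of_mul_eq_one_right (by rw [← pow_succ]; exact tau_cube)
        have e' : tau (F := F) ^ 2 = tau⁻¹ := by rw [← inv_inv (tau (F := F) ^ 2), e]
        rwa [e, e'] at hmem
    rwa [hs, hi0, pow_zero, inv_one, one_mul] at hi
  · obtain ⟨g', σ, h1, h2⟩ := Plus.exists_sim_induced h β
    exact ⟨g', σ, Plus.isSemi_sim h1 σ, h2⟩

/-- An automorphism fixing the two base root elements. -/
theorem semi_of_fix4 {β : MulAut (Cfsg.POmega F (Cfsg.quadFormPlus 4 F))}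
    (h : ∀ j : I4, j = .inl 2 ∨ j = .inr 2 → ∀ s : ↥(Cfsg.Omega F (Cfsg.quadFormPlus 4 F)),
      (rho (Cfsg.quadFormPlus 4 F) s : Matrix I4 I4 F) =
        Cfsg.siegelMatrix ⇑(Plus.qf 4 F) (bv (.inl 0)) (bv j) 1 →
      β (QuotientGroup.mk s) = QuotientGroup.mk s) :
    IsSemiAut (Cfsg.quadFormPlus 4 F) β := by
  obtain ⟨E, hE⟩ := exists_model (F := F)
  refine semi_of_mem_simRange hE ?_
  have hpl : ∀ v, qPlus 4 F v = Plus.qf 4 F v := fun v => qPlus_apply 4 v
  have key : ∀ j : I4, j = .inl 2 ∨ j = .inr 2 →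
      MapsLn (MulAut.congr E β) (Submodule.span F {bv (.inl 0), bv j})
        (Submodule.span F {bv (.inl 0), bv j}) := by
    intro j hj
    have hne : j ≠ (Sum.inl 0 : I4).swap ∧ j ≠ .inl 0 := by
      rcases hj with rfl | rfl <;> decide
    have hi : IsLn (qPlus 4 F) (bv (.inl 0)) (bv j) := CG26.AutPO.D4.isLn_bv hne.1 hne.2
    refine mapsLn_self hi ?_
    have hp : polar ⇑(Plus.qf 4 F) (bv (.inl 0)) (bv j) = 0 := by
      have := hi.uz
      simp only [polar, hpl] at this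
      exact this
    obtain ⟨s, hs⟩ := Plus.hasSiegel (F := F) (show 3 ≤ 4 by norm_num) (bv (.inl 0)) (bv j)
      (by rw [← hpl]; exact hi.qu) (by rw [← hpl]; exact hi.qz) hp
    obtain ⟨h', hh, hhx⟩ := hE s
    have e : h' = eo (qPlus 4 F) (bv (.inl 0)) (bv j) := by
      refine Subtype.ext (Subtype.ext (LinearEquiv.ext fun y => ?_))
      rw [hhx, CG26.AutPO.eo_coe, UnitaryOrthogonal.eich_apply hi.qu hi.uz, hi.qz, zero_mul, zero_smul,
        sub_zero]
      refine (congrArg (fun M : Matrix I4 I4 F => M *ᵥ y) hs).trans ?_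
      rw [Reflections.siegel_mulVec, one_mul, one_mul]
      simp only [polar, hpl]
    show E (β (E.symm (eb (qPlus 4 F) _ _))) = _
    rw [eb, ← e, ← hh, E.symm_apply_apply, h j hj s hs]
  have hv := CG26.AutPO.D4.d4Pair_vals
  refine pres_mem ?_ ?_
  · rw [lnR, hv.1]; exact key _ (Or.inl rfl)
  · rw [lnR, hv.2.1]; exact key _ (Or.inr rfl)

end Cfsg.Agent.PlusBal
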