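import Cfsg.Agent.PlusBal.SemiCase
import Cfsg.Agent.PlusBal.Semi
import Cfsg.Agent.PlusBal.Block

/-!
Local balance for `PΩ⁺_{2m}`, `m ≥ 4`, at automorphisms of prime order outside the inner-diagonal group
(helper11).
-/

set_option autoImplicit false
set_option maxHeartbeats 800000
set_option linter.unusedSectionVars false

namespace Cfsg.Agent.PlusBal

open Matrix QuadraticMap
open Cfsg.Agent.AutPSL (Induced)
open Cfsg.Agent.FieldAutGen Cfsg.Agent.FieldAutGen.Orth
open Cfsg.Agent.CG26.PSpLB (Fix)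
open Cfsg.Agent.UnitaryOrthogonal (qPlus qPlus_apply)
open Cfsg.Agent.CG26.AutPO (simRange)
open Cfsg.Agent.CG26.AutPO.D4 (tau)
open Tri (Cl mp Cyc)
open Fin.NatCast

universe u

variable {F : Type u} [Field F] [Fintype F]

theorem map_congr_centralizer {K K' : Type*} [Group K] [Group K'] (ψ : K ≃* K') (A : Subgroup (MulAut K))
    (x : MulAut K) :
    (A ⊓ Subgroup.centralizer {x}).map (MulAut.congr ψ).toMonoidHom =
      A.map (MulAut.congr ψ).toMonoidHom ⊓ Subgroup.centralizer {MulAut.congr ψ x} := by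
  ext z
  constructor
  · rintro ⟨y, ⟨hy, hc⟩, rfl⟩
    refine ⟨⟨y, hy, rfl⟩, Subgroup.mem_centralizer_singleton_iff.2 ?_⟩
    show MulAut.congr ψ y * MulAut.congr ψ x = MulAut.congr ψ x * MulAut.congr ψ y
    rw [← map_mul, ← map_mul, Subgroup.mem_centralizer_singleton_iff.1 hc]
  · rintro ⟨⟨y, hy, rfl⟩, hc⟩
    refine ⟨y, ⟨hy, Subgroup.mem_centralizer_singleton_iff.2 ((MulAut.congr ψ).injective ?_)⟩, rfl⟩
    rw [map_mul, map_mul]
    exact Subgroup.mem_centralizer_singleton_iff.1 hc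

theorem core_bot_congr {K K' : Type*} [Group K] [Group K'] (ψ : K ≃* K') {p : ℕ} [Fact p.Prime]
    (A : Subgroup (MulAut K)) (x : MulAut K)
    (h : Cfsg.pPrimeCore p ↥(A.map (MulAut.congr ψ).toMonoidHom ⊓
      Subgroup.centralizer {MulAut.congr ψ x}) = ⊥) :
    Cfsg.pPrimeCore p ↥(A ⊓ Subgroup.centralizer {x}) = ⊥ := by
  let e : ↥(A ⊓ Subgroup.centralizer ({x} : Set (MulAut K))) ≃*
      ↥(A.map (MulAut.congr ψ).toMonoidHom ⊓ Subgroup.centralizer {MulAut.congr ψ x}) :=
    ((MulAut.congr ψ).subgroupMap _).trans (MulEquiv.subgroupCongr (map_congr_centralizer ψ A x))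
  rw [← Subgroup.map_eq_bot_iff_of_injective _ (f := e.toMonoidHom) e.injective]
  exact (Thompson.map_pPrimeCore_equiv (p := p) e).trans h

/-- The criterion, for `PΩ⁺_8`. -/
theorem criterion4 {r : ℕ} [Fact r.Prime] [CharP F r] {p : ℕ} [Fact p.Prime]
    (hpr : p ≠ r) (x : MulAut (Cfsg.POmega F (Cfsg.quadFormPlus 4 F))) (hord : orderOf x = p)
    (hnot : ¬ Cfsg.IsInnerDiagonalAutPOmegaPlus 4 x)
    (A : Subgroup (MulAut (Cfsg.POmega F (Cfsg.quadFormPlus 4 F))))
    (hinn : ∀ z, MulAut.conj z ∈ A) :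
    Cfsg.pPrimeCore p ↥(A ⊓ Subgroup.centralizer {x}) ≠ ⊥ ↔
      (Cfsg.IsFieldAutClassPOmega (Cfsg.quadFormPlus 4 F) x ∧ Nat.Coprime p (Nat.card (Fix x))) := by
  classical
  obtain ⟨E, hE⟩ := exists_model (F := F)
  set xh := MulAut.congr E x with hxh
  by_cases hfix : ∃ j : Fin 3, ∀ a ∈ Cl (F := F) j, mp xh a ∈ Cl j
  · obtain ⟨j, hj⟩ := hfix
    set β := (MulAut.congr E).symm ((tau (F := F) ^ (j : ℕ))⁻¹) with hβ
    set y := β * x * β⁻¹ with hy
    have hyh : MulAut.congr E y = (tau ^ (j : ℕ))⁻¹ * xh * tau ^ (j : ℕ) := by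
      rw [hy, map_mul, map_mul, map_inv, hβ, MulEquiv.apply_symm_apply, inv_inv]
    have hW := Tri.W_mem (F := F)
    have hsim : MulAut.congr E y ∈ simRange (qPlus 4 F) := by
      refine Tri.mem_simRange_of_fix hW.1 ?_
      obtain ⟨i, hi⟩ := Tri.exists_mp_Cl (tau (F := F) ^ (j : ℕ))⁻¹ j
      have h0 : (Tri.Upt (Tri.e0 (F := F))) ∈ Cl 0 := hW.1
      have h1 := Tri.mp_tau_Cl j h0
      rw [add_zero] at h1
      obtain rfl : i = 0 := Tri.Cl_unique (hi _ h1) (by rw [Tri.mp_inv]; exact h0)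
      rw [hyh, Tri.mp_mul, Tri.mp_mul]
      exact hi _ (hj _ h1)
    have hS := Plus.setting (F := F) (show 3 ≤ 4 by norm_num)
    have hnot' : ¬ Cfsg.IsInnerDiagonalAutPOmegaPlus 4 y := fun h => hnot ((range_iff (by norm_num) hS x).1 (by
      have := Plus.conj_inndiag_all le_rfl hS β⁻¹ ((range_iff (by norm_num) hS y).2 h)
      rwa [hy, show β⁻¹ * (β * x * β⁻¹) * β⁻¹⁻¹ = x by group] at this))
    have hcls : Cfsg.IsFieldAutClassPOmega (Cfsg.quadFormPlus 4 F) y ↔
        Cfsg.IsFieldAutClassPOmega (Cfsg.quadFormPlus 4 F) x := by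
      constructor
      · rintro ⟨α, φ, σ, h1, h2, h3⟩
        exact ⟨α * β, φ, σ, h1, h2, by rw [← h3, hy]; group⟩
      · rintro ⟨α, φ, σ, h1, h2, h3⟩
        exact ⟨α * β⁻¹, φ, σ, h1, h2, by rw [← h3, hy]; group⟩
    have hyo : orderOf y = p := by rw [hy, ← MulAut.conj_apply, MulEquiv.orderOf_eq, hord]
    have := semi_case (k := 3) le_rfl hpr y hyo hnot' (semi_of_mem_simRange hE hsim)
      (A.map (MulAut.conj β).toMonoidHom) (LocalEven61.Balance.inn_le_map_conj A hinn β)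
    rw [hy, ne_eq, LocalEven61.Balance.core_map_conj, LocalEven61.Balance.card_fix_conj] at this
    rw [hy] at hcls
    exact this.trans (and_congr_left fun _ => hcls)
  · push Not at hfix
    obtain ⟨f, hfb, hf⟩ := Tri.perm_mp xh
    have hne : ∀ m, f m ≠ m := fun m e => by
      obtain ⟨a, ha, hna⟩ := hfix m
      exact hna (by have := hf m a ha; rwa [e] at this)
    have key : ∀ f : Fin 3 → Fin 3, (∀ a b, f a = f b → a = b) → (∀ m, f m ≠ m) →
        f 0 ≠ 0 ∧ ∀ m, f m = m + f 0 := by decide +kernel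
    obtain ⟨hj0, hform⟩ := key f hfb.1 hne
    set j := f 0 with hj
    have hpow : ∀ k : ℕ, ∀ m, ∀ a ∈ Cl (F := F) m, mp (xh ^ k) a ∈ Cl (m + (k : Fin 3) * j) := by
      intro k
      induction k with
      | zero => intro m a ha; simpa [Tri.mp_one] using ha
      | succ k ih =>
        intro m a ha
        rw [pow_succ', Tri.mp_mul]
        have := hf _ _ (ih m a ha)
        rw [hform] at this
        rwa [Nat.cast_succ, add_mul, one_mul, ← add_assoc]
    have hxp : xh ^ p = 1 := by rw [hxh, ← map_pow, ← hord, pow_orderOf_eq_one, map_one]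
    have hp3 : p = 3 := by
      have h0 := hpow p 0 _ (Tri.W_mem (F := F)).1
      rw [hxp, Tri.mp_one, zero_add] at h0
      have e := Tri.Cl_unique h0 (Tri.W_mem (F := F)).1
      have hz : (p : Fin 3) = 0 := by
        have key2 : ∀ a b : Fin 3, b ≠ 0 → a * b = 0 → a = 0 := by decide
        exact key2 _ _ hj0 e
      have hd : 3 ∣ p := by
        have := congrArg Fin.val hz
        rw [Fin.val_natCast] at this
        exact Nat.dvd_of_mod_eq_zero this
      exact ((Nat.prime_dvd_prime_iff_eq Nat.prime_three Fact.out).1 hd).symm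
    subst hp3
    have hr3 : r ≠ 3 := fun e => hpr e.symm
    have hnf : ¬ Cfsg.IsFieldAutClassPOmega (Cfsg.quadFormPlus 4 F) x := by
      rintro ⟨α, φ, σ, -, h2, h3⟩
      have hs := mem_simRange_of_semi hE (Plus.isSemi_sim (one_mem (Plus.Sim 4 F)) σ) (isFieldAut_iff.1 h2)
      rw [← h3, map_mul, map_mul, map_inv, ← hxh] at hs
      set a := MulAut.congr E α
      obtain ⟨i, hi⟩ := Tri.exists_mp_Cl a⁻¹ 0
      obtain ⟨b, hb, hnb⟩ := hfix i
      have hb0 : mp a b ∈ Cl (F := F) 0 := by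
        obtain ⟨l, hl⟩ := Tri.exists_mp_Cl a i
        have hW := (Tri.W_mem (F := F)).1
        obtain rfl : l = 0 := Tri.Cl_unique (hl _ (hi _ hW)) (by rw [Tri.mp_inv']; exact hW)
        exact hl b hb
      have h1 := hi _ (Tri.simRange_Cl0 hs hb0)
      rw [Tri.mp_mul, Tri.mp_mul, Tri.mp_inv, Tri.mp_inv] at h1
      exact hnb h1
    refine ⟨fun h => absurd ?_ h, fun h => absurd h.1 hnf⟩
    refine core_bot_congr E A x ?_
    have hinn' : ∀ k : P8 F, MulAut.conj k ∈ A.map (MulAut.congr E).toMonoidHom := fun k =>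
      ⟨MulAut.conj (E.symm k), hinn _, MulEquiv.ext fun z => by
        show E (E.symm k * E.symm z * (E.symm k)⁻¹) = _
        simp [MulAut.conj_apply]⟩
    have h3 : xh ^ 3 = 1 := hxp
    rcases (show j = 1 ∨ j = 2 by revert hj0; generalize j = i; revert i; decide) with e | e
    · refine Tri.core_cyclic_bot hr3 ⟨h3, fun m a ha => ?_⟩ _ hinn'
      have := hf m a ha
      rwa [hform, e] at this
    · have hc : Cyc xh⁻¹ := by
        refine ⟨by rw [inv_pow, h3, inv_one], fun m a ha => ?_⟩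
        have e2 : xh⁻¹ = xh ^ 2 := inv_eq_of_mul_eq_one_right (by rw [← pow_succ']; exact h3)
        have := hpow 2 m a ha
        rw [← e2, e] at this
        exact this
      have := Tri.core_cyclic_bot hr3 hc _ hinn'
      have hcent : Subgroup.centralizer ({xh⁻¹} : Set (MulAut (P8 F))) = Subgroup.centralizer {xh} := by
        ext z
        rw [Subgroup.mem_centralizer_singleton_iff, Subgroup.mem_centralizer_singleton_iff]
        exact ⟨fun h => (Commute.inv_right_iff.1 h : Commute z xh), fun h => Commute.inv_right h⟩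
      rwa [hcent] at this

/-- **Local balance for `PΩ⁺_{2m}` at automorphisms of prime order outside the inner-diagonal group.** -/
theorem criterion {r : ℕ} [Fact r.Prime] [CharP F r] {m : ℕ} (hm : 4 ≤ m) {p : ℕ} [Fact p.Prime]
    (hpr : p ≠ r) (x : MulAut (Cfsg.POmega F (Cfsg.quadFormPlus m F))) (hord : orderOf x = p)
    (hnot : ¬ Cfsg.IsInnerDiagonalAutPOmegaPlus m x)
    (A : Subgroup (MulAut (Cfsg.POmega F (Cfsg.quadFormPlus m F))))
    (hinn : ∀ z, MulAut.conj z ∈ A) :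
    Cfsg.pPrimeCore p ↥(A ⊓ Subgroup.centralizer {x}) ≠ ⊥ ↔
      (Cfsg.IsFieldAutClassPOmega (Cfsg.quadFormPlus m F) x ∧ Nat.Coprime p (Nat.card (Fix x))) := by
  rcases Nat.lt_or_ge m 5 with h | h
  · obtain rfl : m = 4 := by omega
    exact criterion4 hpr x hord hnot A hinn
  · obtain ⟨k, rfl⟩ : ∃ k, m = k + 1 := ⟨m - 1, by omega⟩
    obtain ⟨g, σ, hg, hx⟩ := Plus.exists_sim_induced h x
    exact semi_case (by omega) hpr x hord hnot ⟨g, σ, Plus.isSemi_sim hg σ, hx⟩ A hinn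

end Cfsg.Agent.PlusBal
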