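import Cfsg.Agent.PlusBal.Flag

/-!
Relative positions of absolute points under fixed elements (helper11).
-/

set_option autoImplicit false
set_option maxHeartbeats 800000
set_option linter.unusedSectionVars false
set_option synthInstance.maxSize 1024
set_option synthInstance.maxHeartbeats 200000

namespace Cfsg.Agent.PlusBal.Tri

open QuadraticMap Cfsg.Lie
open Cfsg.Agent.UnitaryOrthogonal
open Cfsg.Agent.UnitaryOrthogonal.Adjoint (I4)
open Cfsg.Agent.CG26.AutPO (Om piO piO_surjective simRange IsLn IsU eb eo)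
open Cfsg.Agent.CG26.AutPO.D4 (setup4 tau bv tau_cube exists_decomp polar_bv q_bv bv_ne_zero)

universe u

variable {F : Type u} [Field F]

local notation "𝐐" => qPlus 4 F
local notation "W₀" => Upt (e0 (F := F))
local notation "W₁" => Usp (spc (F := F) T1)
local notation "W₂" => Usp (spc (F := F) T2)
local notation "O₀" => Upt (f0 (F := F))
local notation "O₁" => Usp (spc (F := F) O1)
local notation "O₂" => Usp (spc (F := F) O2)

theorem bv_ne {i j : I4} (h : j ≠ i) : bv (F := F) i j = 0 := Pi.single_eq_of_ne h _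

variable [Fintype F]

theorem Cl_eq_solid {j : Fin 3} (hj : j ≠ 0) {c : Subgroup (P8 F)} (hc : c ∈ Cl j) :
    ∃ (k : Om 𝐐) (T : Finset I4), NoPair T ∧ (.inl 0 : I4) ∈ T ∧ (.inl 1 : I4) ∈ T ∧
      c = mp (MulAut.conj (piO 𝐐 k)) (Usp (spc T)) := by
  obtain ⟨p, hp, hp0, rfl⟩ := hc
  obtain ⟨h, hh⟩ := exists_om_map (F := F) (q_bv (.inl 0)) (bv_ne_zero _) hp hp0
  obtain ⟨k, hk⟩ := piO_surjective ((tau ^ (j : ℕ)) (piO 𝐐 h))
  have e : mp (tau ^ (j : ℕ)) (Upt p) = mp (MulAut.conj (piO 𝐐 k)) (mp (tau ^ (j : ℕ)) W₀) := by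
    rw [hk, ← mp_mul, conj_tau, mp_mul, mp_conj_Upt h (q_bv _), hh]
  fin_cases j
  · exact absurd rfl hj
  · refine ⟨k, T1, noPairs.1, by decide, by decide, e.trans ?_⟩
    congr 1
    exact (tau_one _).trans tau_T.1
  · refine ⟨k, T2, noPairs.2.1, by decide, by decide, e.trans ?_⟩
    congr 1
    exact tau_sq.2.2.1

/-- The line through two points of a solid. -/
theorem line_mem {j : Fin 3} (hj : j ≠ 0) {c : Subgroup (P8 F)} (hc : c ∈ Cl j) {p q : I4 → F}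
    (hp : 𝐐 p = 0) (hp0 : p ≠ 0) (hq : 𝐐 q = 0) (hq0 : q ≠ 0) (h1 : Inc (Upt p) c) (h2 : Inc (Upt q) c) :
    polar 𝐐 p q = 0 ∧ eb 𝐐 p q ∈ c := by
  obtain ⟨k, T, hT, ha, hb, rfl⟩ := Cl_eq_solid hj hc
  set β := MulAut.conj (piO 𝐐 k) with hβ
  have key : ∀ {p : I4 → F}, 𝐐 p = 0 → p ≠ 0 → Inc (Upt p) (mp β (Usp (spc T))) →
      k⁻¹.1.1 p ∈ spc (F := F) T := by
    intro p hp hp0 h
    refine (inc_T hT ha hb (by decide) (by rw [map_form, hp])
      (fun e => hp0 (LinearEquiv.map_eq_zero_iff _ |>.1 e))).1 ?_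
    rw [← mp_conj_Upt k⁻¹ hp, map_inv, map_inv, ← hβ, ← inc_mp (α := β), mp_inv']
    exact h
  have k1 := key hp hp0 h1
  have k2 := key hq hq0 h2
  refine ⟨?_, ?_⟩
  · rw [← map_polar k⁻¹.1]; exact (ts_spc hT).polar_eq k1 k2
  · have := mem_mp (α := β) (eb_mem_Usp k1 k2)
    rw [show β (eb 𝐐 (k⁻¹.1.1 p) (k⁻¹.1.1 q)) = eb 𝐐 p q by
      rw [hβ, MulAut.conj_apply, CG26.AutPO.conj_eb, Subgroup.coe_inv, coe_apply_inv_apply,
        coe_apply_inv_apply]] at this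
    exact this

theorem Sim.Cl0 (s : CG26.AutPO.Sim 𝐐) {b : Subgroup (P8 F)} (hb : b ∈ Cl 0) : mp s.aut b ∈ Cl 0 := by
  obtain ⟨q, hq, hq0, rfl⟩ := mem_Cl0.1 hb
  exact mem_Cl0.2 ⟨s.g q, by rw [s.form', hq, map_zero, mul_zero],
    fun e => hq0 (s.g.map_eq_zero_iff.1 e), mp_sim_Upt s hq⟩

theorem simRange_Cl0 {α : MulAut (P8 F)} (hα : α ∈ simRange 𝐐) {b : Subgroup (P8 F)} (hb : b ∈ Cl 0) :
    mp α b ∈ Cl 0 := by
  obtain ⟨s, rfl⟩ := hα
  exact Sim.Cl0 s hb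

theorem Abs_pull {x α : MulAut (P8 F)} (hα : α ∈ simRange 𝐐) {b : Subgroup (P8 F)}
    (hb : b ∈ Abs (α * x * α⁻¹)) : mp α⁻¹ b ∈ Abs x := by
  have := Abs_conj α⁻¹ (fun c hc => simRange_Cl0 (inv_mem hα) hc) hb
  rwa [show α⁻¹ * (α * x * α⁻¹) * α⁻¹⁻¹ = x by group] at this

theorem fixed_pull {x α : MulAut (P8 F)} {q : P8 F} (hq : (α * x * α⁻¹) q = q) :
    x (α⁻¹ q) = α⁻¹ q ∧ ∀ a, mp (MulAut.conj (α⁻¹ q)) a = mp α⁻¹ (mp (MulAut.conj q) (mp α a)) := by
  refine ⟨α.injective ?_, fun a => ?_⟩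
  · rw [MulAut.apply_inv_self]; exact hq
  · rw [← mp_mul, ← mp_mul, mul_assoc]
    congr 1
    exact MulEquiv.ext fun y => by simp [MulAut.mul_apply, MulAut.conj_apply, map_mul, map_inv]

theorem conj_fixed_Abs {x : MulAut (P8 F)} {w : P8 F} (hw : x w = w) {b : Subgroup (P8 F)}
    (hb : b ∈ Abs x) : mp (MulAut.conj w) b ∈ Abs x := by
  refine ⟨conj_Cl w hb.1, ?_⟩
  rw [← mp_mul x, ← conj_tau, hw, mp_mul, inc_mp]
  exact hb.2

theorem NF2.opp_base {x : MulAut (P8 F)} (h : NF2 x) : O₀ ∈ Abs x ∧ ¬ Inc O₀ W₀ :=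
  ⟨⟨O_mem.1, h.o0.symm ▸ opp3_base.ab⟩, opp3_base.na⟩

/-- **Fixed elements are transitive on the opposites of an absolute point.** -/
theorem opp_trans {x : MulAut (P8 F)} (h : Cyc x) {a g g' : Subgroup (P8 F)} (ha : a ∈ Abs x)
    (hg : g ∈ Abs x) (hg' : g' ∈ Abs x) (hag : ¬ Inc g a) (hag' : ¬ Inc g' a) :
    ∃ w, x w = w ∧ mp (MulAut.conj w) a = a ∧ mp (MulAut.conj w) g = g' := by
  obtain ⟨α, hα, hαa, hαg, hy⟩ := h.normal_form2 ha hg hag
  set y := α * x * α⁻¹ with hyd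
  have hg1 : mp α g' ∈ Abs y := Abs_conj α (fun c hc => simRange_Cl0 hα hc) hg'
  obtain ⟨g1, g2, g12, g20⟩ := hy.toCyc.abs hg1
  have na : ¬ Inc (mp α g') W₀ := by rw [← hαa, inc_mp]; exact hag'
  obtain ⟨q, hq, e0', e1', e2'⟩ := exists_QW (F := F) (a := mp α g') (b := mp y (mp α g'))
    (c := mp y (mp y (mp α g'))) ⟨hg1.1, g1, g2, hg1.2, g12, g20, na, by rw [← hy.w0, inc_mp]; exact na,
      by rw [← hy.w1, inc_mp, ← hy.w0, inc_mp]; exact na⟩
  have e : ∀ O, mp (MulAut.conj (y q)) (mp y O) = mp y (mp (MulAut.conj q) O) := fun O => by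
    rw [← mp_mul, conj_tau, mp_mul]
  have hqfix : y q = q := hy.fix_unique hq ⟨by
      conv_lhs => rw [← hy.o2, e, e2', hy.cyc]
      rw [e0'], by
      conv_lhs => rw [← hy.o0, e, e0']
      rw [e1'], by
      conv_lhs => rw [← hy.o1, e, e1']
      rw [e2']⟩
  obtain ⟨hw, hmp⟩ := fixed_pull hqfix
  refine ⟨α⁻¹ q, hw, ?_, ?_⟩
  · rw [hmp, hαa, (QW_fix hq).1, ← hαa, mp_inv]
  · rw [hmp, hαg, e0', mp_inv]

/-- Incidence with the two images of an absolute point. -/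
theorem inc_of_inc_sq {x : MulAut (P8 F)} (h : Cyc x) {a b : Subgroup (P8 F)} (ha : a ∈ Abs x)
    (hb : b ∈ Abs x) (hi : Inc b (mp x (mp x a))) : Inc b (mp x a) := by
  obtain ⟨p, hp, hp0, rfl⟩ := mem_Cl0.1 ha.1
  obtain ⟨q, hq, hq0, rfl⟩ := mem_Cl0.1 hb.1
  by_cases hpq : ∃ c : F, q = c • p
  · obtain ⟨c, rfl⟩ := hpq
    rw [Upt_smul hp (fun e => hq0 (by rw [e, zero_smul]))]
    exact ha.2
  push Not at hpq
  obtain ⟨b1, -, -, -⟩ := h.abs hb
  obtain ⟨-, a2, -, a20⟩ := h.abs ha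
  have h3 : Inc (Upt p) (mp x (Upt q)) := by
    have e := (inc_mp (α := x)).2 hi
    rw [h.cyc] at e
    exact e.symm
  obtain ⟨hpol, m1⟩ := line_mem (by decide) b1 hp hp0 hq hq0 h3 hb.2
  obtain ⟨-, m2⟩ := line_mem (by decide) a2 hp hp0 hq hq0 a20.symm hi
  rw [← inc_mp (α := x)]
  exact inc_iff.2 ⟨_, m1, m2, eb_ne_one ⟨hp, hq, hpol, hp0, hpq⟩⟩

theorem coord_lead {h : Om 𝐐} (hh : h ∈ Uni) {p : I4 → F} (hp : p (.inr 0) = 0) {l : Fin 3} (hl : l ≠ 0)
    (k₀ : Fin 2) :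
    (h.1.1 p - p) (row l k₀) = p (.inr 1) * coef l h 0 + p (.inr 2) * coef l h 1 := by
  set j := row l k₀ with hj
  have key : ∀ i, i ≠ (.inr 0 : I4) → i ≠ .inr 1 → i ≠ .inr 2 → 2 ≤ lev i := by decide
  have hlev : ∀ l k, l ≠ 0 → lev (row l k) = 2 ∧ row l k ≠ col l k ∧ col l k = fk k ∧ row l k = row l 0 := by
    decide
  have e : h.1.1 p - p = ∑ i, p i • (h.1.1 (bv i) - bv i) := by
    conv_lhs => rw [vec_eq_sum p, map_sum, ← Finset.sum_sub_distrib]
    exact Finset.sum_congr rfl fun i _ => by rw [map_smul, smul_sub]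
  rw [e, Finset.sum_apply, Finset.sum_eq_add (.inr 1 : I4) (.inr 2) (by decide)
    (fun i _ hi => ?_) (fun hc => absurd (Finset.mem_univ _) hc) (fun hc => absurd (Finset.mem_univ _) hc)]
  · obtain ⟨-, hne0, hc0, hr0⟩ := hlev l 0 hl
    obtain ⟨-, hne1, hc1, hr1⟩ := hlev l 1 hl
    have hj0 : j = row l 0 := (hlev l k₀ hl).2.2.2
    have c0 : (h.1.1 (bv (.inr 1)) - bv (.inr 1) : I4 → F) j = coef l h 0 := by
      rw [hj0, coef, hc0, Pi.sub_apply,
        show bv (F := F) (.inr 1) (row l 0) = 0 from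
          bv_ne (show row l 0 ≠ Sum.inr 1 from fun e => hne0 (e.trans hc0.symm)), sub_zero]
      rfl
    have c1 : (h.1.1 (bv (.inr 2)) - bv (.inr 2) : I4 → F) j = coef l h 1 := by
      rw [hj0, ← hr1, coef, hc1, Pi.sub_apply,
        show bv (F := F) (.inr 2) (row l 1) = 0 from
          bv_ne (show row l 1 ≠ Sum.inr 2 from fun e => hne1 (e.trans hc1.symm)), sub_zero]
      rfl
    rw [Pi.smul_apply, Pi.smul_apply, c0, c1, smul_eq_mul, smul_eq_mul]
  · by_cases h0 : i = .inr 0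
    · subst h0; rw [hp, zero_smul]; rfl
    · rw [Pi.smul_apply, Uni.sub_apply hh (by rw [hj, (hlev l k₀ hl).1]; exact key i h0 hi.1 hi.2), smul_zero]

/-- Moving a point to an opposite of itself. -/
theorem move_off {x : MulAut (P8 F)} (h : Cyc x) (r : ℕ) [Fact r.Prime] [CharP F r] (hr : r ≠ 3)
    {a b : Subgroup (P8 F)} (ha : a ∈ Abs x) (hb : b ∈ Abs x) (hab : Inc b a)
    (hn : ¬ Inc b (mp x a)) :
    ∃ w, x w = w ∧ mp (MulAut.conj w) a = a ∧ ¬ Inc (mp (MulAut.conj w) b) b := by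
  have hn2 : ¬ Inc b (mp x (mp x a)) := fun e => hn (inc_of_inc_sq h ha hb e)
  obtain ⟨g, hg, hga⟩ := h.exists_opp r hr ha
  obtain ⟨α, hα, hαa, -, hy⟩ := h.normal_form2 ha hg hga
  set y := α * x * α⁻¹ with hyd
  obtain ⟨p, hp, hp0, hbp⟩ := mem_Cl0.1 (simRange_Cl0 hα hb.1)
  have ex : ∀ c, mp y (mp α c) = mp α (mp x c) := fun c => by rw [hyd, mp_mul, mp_mul, mp_inv]
  have hpf : p (.inr 0) = 0 := by rw [← inc_e0 hp hp0, ← hbp, ← hαa, inc_mp]; exact hab
  have hp1 : p ∉ spc T1 := fun e => hn (by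
    rw [← inc_mp (α := α), hbp, ← ex, hαa, hy.w0]; exact (inc_base hp hp0).1.2 e)
  have hp2 : p ∉ spc T2 := fun e => hn2 (by
    rw [← inc_mp (α := α), hbp, ← ex, ← ex, hαa, hy.w0, hy.w1]; exact (inc_base hp hp0).2.1.2 e)
  have hw : p (.inr 1) ≠ 0 ∨ p (.inr 2) ≠ 0 := by
    by_contra hc
    push Not at hc
    have hq : p (.inl 3) * p (.inr 3) = 0 := by
      rw [qPlus_apply] at hp
      simpa [Cfsg.quadFormPlus, Fin.sum_univ_four, hpf, hc.1, hc.2] using hp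
    have k1 : ∀ i, i ∉ T1 → i = .inl 3 ∨ i = .inr 0 ∨ i = .inr 1 ∨ i = .inr 2 := by decide
    have k2 : ∀ i, i ∉ T2 → i = .inr 3 ∨ i = .inr 0 ∨ i = .inr 1 ∨ i = .inr 2 := by decide
    rcases mul_eq_zero.1 hq with e | e
    · refine hp1 fun i hi => ?_
      rcases k1 i hi with rfl | rfl | rfl | rfl
      · exact e
      · exact hpf
      · exact hc.1
      · exact hc.2
    · refine hp2 fun i hi => ?_
      rcases k2 i hi with rfl | rfl | rfl | rfl
      · exact e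
      · exact hpf
      · exact hc.1
      · exact hc.2
  let L : Fin 3 → P8 F → F := fun l u => p (.inr 1) * Φ l u 0 + p (.inr 2) * Φ l u 1
  have hsur : ∀ l, ∃ u ∈ QW (F := F), y u = u ∧ L l u ≠ 0 := by
    intro l
    rcases hw with hw | hw
    · obtain ⟨u, hu, hyu, hz⟩ := hy.toNF.exists_fixed r hr l ![1, 0]
      exact ⟨u, hu, hyu, by simpa [L, hz] using hw⟩
    · obtain ⟨u, hu, hyu, hz⟩ := hy.toNF.exists_fixed r hr l ![0, 1]
      exact ⟨u, hu, hyu, by simpa [L, hz] using hw⟩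
  obtain ⟨u, hu, hyu, hu1, hu2⟩ : ∃ u ∈ QW (F := F), y u = u ∧ L 1 u ≠ 0 ∧ L 2 u ≠ 0 := by
    obtain ⟨u1, h1, hy1, n1⟩ := hsur 1
    obtain ⟨u2, h2, hy2, n2⟩ := hsur 2
    by_cases c1 : L 2 u1 = 0
    · by_cases c2 : L 1 u2 = 0
      · have e : ∀ l, L l (u1 * u2) = L l u1 + L l u2 := fun l => by
          simp only [L, Φ_mul h1 h2, Pi.add_apply]; ring
        exact ⟨u1 * u2, mul_mem h1 h2, by rw [map_mul, hy1, hy2], by rw [e, c2, add_zero]; exact n1,
          by rw [e, c1, zero_add]; exact n2⟩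
      · exact ⟨u2, h2, hy2, c2, n2⟩
    · exact ⟨u1, h1, hy1, n1, c1⟩
  obtain ⟨k, hk, rfl⟩ := exists_lift hu
  obtain ⟨hw', hmp⟩ := fixed_pull hyu
  refine ⟨_, hw', ?_, ?_⟩
  · rw [hmp, hαa, (QW_fix hu).1, ← hαa, mp_inv]
  rw [hmp, ← inc_mp (α := α), mp_inv', hbp, mp_conj_Upt _ hp,
    inc_Upt_Upt (by rw [map_form, hp]) (fun e => hp0 (LinearEquiv.map_eq_zero_iff _ |>.1 e)) hp hp0]
  intro hpol
  set d := k.1.1 p - p with hd
  have hd2 : d ∈ Fil 2 := hk 1 p fun j hj => by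
    have : ∀ j, lev j < 1 → j = .inr 0 := by decide
    rw [this j hj]; exact hpf
  have hQd : 𝐐 d = 0 := by
    rw [hd, sub_eq_add_neg, form_add, map_form, QuadraticMap.map_neg, hp, polar_neg_right, hpol]; simp
  rw [qPlus_apply] at hQd
  simp [Cfsg.quadFormPlus, Fin.sum_univ_four, hd2 (.inr 0) (by decide), hd2 (.inr 1) (by decide),
    hd2 (.inr 2) (by decide)] at hQd
  simp only [L, Φ_piO hk] at hu1 hu2
  rcases hQd with e | e
  · exact hu2 ((coord_lead hk hpf (l := 2) (by decide) 0).symm.trans e)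
  · exact hu1 ((coord_lead hk hpf (l := 1) (by decide) 0).symm.trans e)

/-- Representing vectors. -/
def pointsOf (S : Set (Subgroup (P8 F))) : Set (I4 → F) := {p | 𝐐 p = 0 ∧ p ≠ 0 ∧ Upt p ∈ S}

/-- An absolute point and its opposites span at least five dimensions. -/
theorem exists_five {x : MulAut (P8 F)} (h : Cyc x) (r : ℕ) [Fact r.Prime] [CharP F r] (hr : r ≠ 3)
    {a : Subgroup (P8 F)} (ha : a ∈ Abs x) :
    ∃ v : Fin 5 → (I4 → F), LinearIndependent F v ∧ ∀ i, v i ∈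
      Submodule.span F (pointsOf ({a} ∪ {g | g ∈ Abs x ∧ ¬ Inc g a})) := by
  obtain ⟨g, hg, hga⟩ := h.exists_opp r hr ha
  obtain ⟨α, hα, hαa, hαg, hy⟩ := h.normal_form2 ha hg hga
  set y := α * x * α⁻¹ with hyd
  obtain ⟨s, hs⟩ := hα
  subst hs
  set S := Submodule.span F (pointsOf ({W₀} ∪ {g | g ∈ Abs y ∧ ¬ Inc g W₀}))
  have he0 : (e0 : I4 → F) ∈ S := Submodule.subset_span ⟨q_bv _, bv_ne_zero _, Or.inl rfl⟩
  obtain ⟨hO, hOn⟩ := hy.opp_base
  have hpt : ∀ k : Om 𝐐, k ∈ Uni → piO 𝐐 k ∈ QW → y (piO 𝐐 k) = piO 𝐐 k → k.1.1 f0 ∈ S := by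
    intro k _ hkQ hky
    refine Submodule.subset_span ⟨by rw [map_form, q_bv],
      fun e => bv_ne_zero _ (LinearEquiv.map_eq_zero_iff _ |>.1 e), Or.inr ?_⟩
    rw [← mp_conj_Upt k (q_bv _)]
    refine ⟨conj_fixed_Abs hky hO, fun e => hOn ?_⟩
    rwa [← (QW_fix hkQ).1, inc_mp] at e
  have hget : ∀ (l : Fin 3) (z : Fin 2 → F), ∃ k ∈ Uni (F := F), piO 𝐐 k ∈ QW ∧ y (piO 𝐐 k) = piO 𝐐 k ∧
      coef l k = z := by
    intro l z
    obtain ⟨u, hu, hyu, hz⟩ := hy.toNF.exists_fixed r hr l z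
    obtain ⟨k, hk, rfl⟩ := exists_lift hu
    exact ⟨k, hk, hu, hyu, by rw [← hz, Φ_piO hk]⟩
  obtain ⟨k1, m1, q1, y1, z1⟩ := hget 0 ![1, 0]
  obtain ⟨k2, m2, q2, y2, z2⟩ := hget 0 ![0, 1]
  obtain ⟨k3, m3, q3, y3, z3⟩ := hget 2 ![1, 0]
  set d1 := k1.1.1 f0 - f0 with hd1
  set d2 := k2.1.1 f0 - f0 with hd2
  set d3 := k3.1.1 d1 - d1 with hd3
  have hf : (f0 : I4 → F) ∈ S := hpt 1 (one_mem _) (by rw [map_one]; exact one_mem _) (by simp)
  have f1 : d1 ∈ S := S.sub_mem (hpt _ m1 q1 y1) hf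
  have f2 : d2 ∈ S := S.sub_mem (hpt _ m2 q2 y2) hf
  have f3 : d3 ∈ S := by
    have e : d3 = (k3 * k1).1.1 f0 - k3.1.1 f0 - d1 := by
      rw [hd3, hd1, map_sub, Subgroup.coe_mul, coe_mul_apply]
    rw [e]
    exact S.sub_mem (S.sub_mem (hpt _ (mul_mem m3 m1) (by rw [map_mul]; exact mul_mem q3 q1)
      (by rw [map_mul, map_mul, y3, y1])) (hpt _ m3 q3 y3)) f1
  have hd1F : d1 ∈ Fil 1 := m1 0 f0 fun j hj => absurd hj (Nat.not_lt_zero _)
  have hd2F : d2 ∈ Fil 1 := m2 0 f0 fun j hj => absurd hj (Nat.not_lt_zero _)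
  have hd3F : d3 ∈ Fil 2 := m3 1 d1 hd1F
  have c11 : d1 (.inr 1) = 1 := by
    have := congrFun z1 0; simp [coef, col, row, fk] at this; simp [hd1, this]
  have c12 : d1 (.inr 2) = 0 := by
    have := congrFun z1 1; simp [coef, col, row, fk] at this; simp [hd1, this]
  have c21 : d2 (.inr 1) = 0 := by
    have := congrFun z2 0; simp [coef, col, row, fk] at this; simp [hd2, this]
  have c22 : d2 (.inr 2) = 1 := by
    have := congrFun z2 1; simp [coef, col, row, fk] at this; simp [hd2, this]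
  have c33 : d3 (.inl 3) = 1 := by
    have := coord_lead m3 (p := d1) (hd1F _ (by decide)) (l := 2) (by decide) 0
    rw [z3, c11, c12] at this
    rw [hd3]
    simpa [row] using this
  let v : Fin 5 → (I4 → F) := ![e0, f0, d1, d2, d3]
  have hind : LinearIndependent F v := by
    rw [Fintype.linearIndependent_iff]
    intro c hc
    simp [Fin.sum_univ_five, v] at hc
    have c1 : c 1 = 0 := by
      have := congrFun hc (.inr 0)
      simpa [hd1F (.inr 0) (by decide), hd2F (.inr 0) (by decide), hd3F (.inr 0) (by decide)] using this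
    have c2 : c 2 = 0 := by
      have := congrFun hc (.inr 1)
      simpa [c11, c21, hd3F (.inr 1) (by decide)] using this
    have c3 : c 3 = 0 := by
      have := congrFun hc (.inr 2)
      simpa [c12, c22, hd3F (.inr 2) (by decide)] using this
    have c4 : c 4 = 0 := by
      have := congrFun hc (.inl 3)
      simpa [c1, c2, c3, c33] using this
    have c0 : c 0 = 0 := by
      have := congrFun hc (.inl 0)
      simpa [c1, c2, c3, c4] using this
    intro i; fin_cases i <;> assumption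
  have hv : ∀ i, v i ∈ S := by
    intro i; fin_cases i
    · exact he0
    · exact hf
    · exact f1
    · exact f2
    · exact f3
  refine ⟨fun i => s.g.symm (v i), ?_, fun i => ?_⟩
  · rw [Fintype.linearIndependent_iff] at hind ⊢
    intro c hc i
    have h0 := hind (fun i => s.σ (c i)) (by
      have := congrArg s.g hc
      rw [map_sum, map_zero] at this
      rw [← this]
      exact Finset.sum_congr rfl fun i _ => by rw [s.map_smul', s.g.apply_symm_apply]) i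
    exact (map_eq_zero s.σ).1 h0
  · have := hv i
    show s.g.symm (v i) ∈ _
    generalize v i = w at this ⊢
    induction this using Submodule.span_induction with
    | mem p hp =>
      obtain ⟨hp, hp0, hpS⟩ := hp
      have e : Upt (s.g.symm p) = mp s.aut⁻¹ (Upt p) := by
        rw [← CG26.AutPO.Sim.symm_aut, mp_sim_Upt _ hp]; rfl
      refine Submodule.subset_span ⟨?_, fun e' => hp0 (s.g.symm.map_eq_zero_iff.1 e'), ?_⟩
      · have := s.symm.form' p
        rw [hp, map_zero, mul_zero] at this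
        exact this
      · rw [e]
        rcases hpS with e' | ⟨hb, hn⟩
        · left
          rw [Set.mem_singleton_iff.1 e', ← hαa, mp_inv]; rfl
        · right
          refine ⟨Abs_pull ⟨s, rfl⟩ hb, fun e2 => hn ?_⟩
          rw [← hαa, ← mp_inv' s.aut (Upt p), inc_mp]
          exact e2
    | zero => rw [map_zero]; exact Submodule.zero_mem _
    | add p q _ _ hp hq => rw [map_add]; exact Submodule.add_mem _ hp hq
    | smul c p _ hp => rw [s.symm_smul]; exact Submodule.smul_mem _ _ hp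

/-- Translations on a line of absolute points. -/
theorem translate {x : MulAut (P8 F)} (h : Cyc x) (r : ℕ) [Fact r.Prime] [CharP F r] (hr : r ≠ 3)
    {p p' : I4 → F} (hp : 𝐐 p = 0) (hp0 : p ≠ 0) (hp' : 𝐐 p' = 0) (hp0' : p' ≠ 0)
    (ha : Upt p ∈ Abs x) (hb : Upt p' ∈ Abs x) (hind : ∀ c : F, p' ≠ c • p)
    (hba : Inc (Upt p') (mp x (Upt p))) (hab : Inc (Upt p) (mp x (Upt p'))) (c : F) :
    ∃ k : Om 𝐐, x (piO 𝐐 k) = piO 𝐐 k ∧ k.1.1 p = p ∧ k.1.1 p' = p' + c • p := by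
  obtain ⟨g, hg, hga⟩ := h.exists_opp r hr ha
  obtain ⟨α, hα, hαa, -, hy⟩ := h.normal_form2 ha hg hga
  set y := α * x * α⁻¹ with hyd
  have ex : ∀ c, mp y (mp α c) = mp α (mp x c) := fun c => by rw [hyd, mp_mul, mp_mul, mp_inv]
  obtain ⟨s, hs⟩ := hα
  set v := s.g p'
  have hv : 𝐐 v = 0 := by rw [s.form', hp', map_zero, mul_zero]
  have hv0 : v ≠ 0 := fun e => hp0' (s.g.map_eq_zero_iff.1 e)
  have hαb : mp α (Upt p') = Upt v := by rw [← hs, mp_sim_Upt s hp']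
  have hv1 : v ∈ spc T1 := (inc_base hv hv0).1.1 (by
    rw [← hαb, ← hy.w0, ← hαa, ex, inc_mp]; exact hba)
  have hv2 : v ∈ spc T2 := (inc_base hv hv0).2.1.1 (by
    rw [← hαb, ← hy.w1, ← hy.w0, ← hαa, ex, ex, inc_mp]
    have := ((inc_mp (α := x * x)).2 hab)
    rw [mp_mul, mp_mul, h.cyc] at this
    exact this.symm)
  obtain ⟨lam, hlam⟩ : ∃ lam : F, s.g p = lam • e0 := by
    refine exists_smul_of_Upt_eq (q_bv _) (bv_ne_zero _) (by rw [s.form', hp, map_zero, mul_zero])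
      (fun e => hp0 (s.g.map_eq_zero_iff.1 e)) ?_
    rw [← mp_sim_Upt s hp, hs, hαa]
  have hlam0 : lam ≠ 0 := fun e => hp0 (s.g.map_eq_zero_iff.1 (by rw [hlam, e, zero_smul]))
  have hk : ∃ k₀ : Fin 2, v (ek k₀) ≠ 0 := by
    by_contra hc
    push Not at hc
    have key : ∀ i : I4, i ≠ .inl 0 → i ∉ T1 ∨ i ∉ T2 ∨ i = ek 0 ∨ i = ek 1 := by decide
    have e : v = v (.inl 0) • e0 := by
      funext i
      by_cases e : i = .inl 0
      · subst e; simp
      · rw [Pi.smul_apply, show (e0 : I4 → F) i = 0 from bv_ne e, smul_zero]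
        rcases key i e with e' | e' | e' | e'
        · exact hv1 i e'
        · exact hv2 i e'
        · rw [e']; exact hc 0
        · rw [e']; exact hc 1
    refine hind (s.σ.symm (v (.inl 0) * lam⁻¹)) (s.g.injective ?_)
    rw [s.map_smul', s.σ.apply_symm_apply, hlam, smul_smul, inv_mul_cancel_right₀ hlam0]
    exact e
  obtain ⟨k₀, hk₀⟩ := hk
  set t := s.σ c * lam
  obtain ⟨u, hu, hyu, hz⟩ := hy.toNF.exists_fixed r hr 0 (Pi.single k₀ (-t / v (ek k₀)))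
  obtain ⟨k, hkU, rfl⟩ := exists_lift hu
  rw [Φ_piO hkU] at hz
  have hkv : k.1.1 v = v + t • e0 := by
    have step : ∀ k' : Fin 2, k.1.1 (bv (ek k')) = bv (ek k') + (-coef 0 k k') • e0 := by
      intro k'
      have hswap : ∀ k', (ek k').swap = fk k' := by decide
      have hzero : ∀ k' : Fin 2, ∀ j : I4, j ≠ .inl 0 → lev j ≤ lev (ek k') := by decide +kernel
      have e1 : k.1.1 (bv (ek k')) = bv (ek k') + ((k.1.1 (bv (ek k')) - bv (ek k') : I4 → F)) (.inl 0) • e0 := by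
        funext j
        by_cases e : j = .inl 0
        · subst e; simp
        · have := Uni.sub_apply hkU (hzero k' j e)
          rw [Pi.sub_apply, sub_eq_zero] at this
          simp [this, e]
      rw [e1]
      congr 2
      have e2 := map_polar k.1 (bv (ek k')) f0
      have e3 := Uni.sub_apply hkU (i := .inr 0) (j := .inr 0) le_rfl
      rw [e1, polar_add_left, polar_smul_left, polar_bv, polar_bv, polar_bv] at e2
      simp at e3
      rw [sub_eq_zero] at e3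
      have hne : f0 (F := F) (ek k').swap = 0 := by fin_cases k' <;> simp [ek]
      rw [hne] at e2
      simp [e3] at e2
      show ((k.1.1 (bv (ek k')) - bv (ek k') : I4 → F)) (Sum.inl 0) = -(k.1.1 f0 (fk k'))
      have hsw := hswap k'
      rw [hsw] at e2
      rw [Pi.sub_apply]
      linear_combination e2
    have hsupp : v = v (.inl 0) • e0 + ∑ k', v (ek k') • bv (ek k') := by
      have key : ∀ i : I4, i ∉ T1 ∨ i ∉ T2 ∨ i = .inl 0 ∨ i = .inl 1 ∨ i = .inl 2 := by decide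
      funext i
      rcases key i with e | e | rfl | rfl | rfl
      · rw [hv1 i e]
        have : i ≠ .inl 0 ∧ i ≠ .inl 1 ∧ i ≠ .inl 2 := by revert e; revert i; decide
        simp [Fin.sum_univ_two, ek, this]
      · rw [hv2 i e]
        have : i ≠ .inl 0 ∧ i ≠ .inl 1 ∧ i ≠ .inl 2 := by revert e; revert i; decide
        simp [Fin.sum_univ_two, ek, this]
      all_goals simp [Fin.sum_univ_two, ek]
    have hfix := Uni.fix_e0 hkU
    conv_lhs => rw [hsupp]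
    rw [map_add, map_smul, hfix, map_sum]
    conv_rhs => rw [hsupp]
    rw [show ∑ k', k.1.1 (v (ek k') • bv (ek k')) = (∑ k', v (ek k') • bv (ek k')) +
        (∑ k', -(v (ek k') * coef 0 k k')) • e0 from by
      rw [Finset.sum_smul, ← Finset.sum_add_distrib]
      exact Finset.sum_congr rfl fun k' _ => by rw [map_smul, step]; module]
    rw [show (∑ k', -(v (ek k') * coef 0 k k')) = t by
      rw [hz, Finset.sum_eq_single k₀ (fun b _ hb => by simp [hb]) (by simp), Pi.single_eq_same]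
      field_simp]
    abel
  refine ⟨s.symm.omAut k, ?_, ?_, ?_⟩
  · have e : piO 𝐐 (s.symm.omAut k) = α⁻¹ (piO 𝐐 k) := by
      rw [← CG26.AutPO.Sim.aut_piO, CG26.AutPO.Sim.symm_aut, hs]
    rw [e]
    exact (fixed_pull hyu).1
  · show s.g.symm (k.1.1 (s.g.symm.symm p)) = p
    rw [AddEquiv.symm_symm, hlam, map_smul, Uni.fix_e0 hkU, ← hlam, s.g.symm_apply_apply]
  · show s.g.symm (k.1.1 (s.g.symm.symm p')) = p' + c • p
    rw [AddEquiv.symm_symm, hkv, map_add, s.g.symm_apply_apply]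
    refine congrArg (p' + ·) (s.g.injective ?_)
    rw [s.g.apply_symm_apply, s.map_smul', hlam, smul_smul]

/-- Absolute points pairwise in special position are collinear. -/
theorem collinear {x : MulAut (P8 F)} (h : Cyc x) {p q u : I4 → F}
    (hp : 𝐐 p = 0) (hp0 : p ≠ 0) (hq : 𝐐 q = 0) (hq0 : q ≠ 0) (hu : 𝐐 u = 0) (hu0 : u ≠ 0)
    (ha : Upt p ∈ Abs x) (hb : Upt q ∈ Abs x) (hind : ∀ c : F, q ≠ c • p)
    (h1 : Inc (Upt q) (mp x (Upt p))) (h2 : Inc (Upt p) (mp x (Upt q)))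
    (h3 : Inc (Upt u) (mp x (Upt p))) (h4 : Inc (Upt u) (mp x (Upt q))) :
    u ∈ Submodule.span F ({p, q} : Set (I4 → F)) := by
  haveI := (setup4 (F := F)).finiteV
  obtain ⟨a1, -, -, -⟩ := h.abs ha
  obtain ⟨b1, -, -, -⟩ := h.abs hb
  by_cases hup : ∃ c : F, u = c • p
  · obtain ⟨c, rfl⟩ := hup
    exact Submodule.smul_mem _ _ IsLn.span_mem_left
  push Not at hup
  obtain ⟨hpq, mq1⟩ := line_mem (by decide) a1 hp hp0 hq hq0 ha.2 h1
  have hln : IsLn 𝐐 p q := ⟨hp, hq, hpq, hp0, hind⟩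
  obtain ⟨hpu, mu1⟩ := line_mem (by decide) a1 hp hp0 hu hu0 ha.2 h3
  obtain ⟨-, mu2⟩ := line_mem (by decide) b1 hp hp0 hu hu0 h2 h4
  let T : Set (P8 F) := {g | ∃ t : F, g = eb 𝐐 p (t • q)}
  have hline : ∀ g, g ∈ mp x (Upt p) → g ∈ mp x (Upt q) → x⁻¹ g ∈ T := by
    rintro _ ⟨g, hg, rfl⟩ ⟨g', hg', e⟩
    have e' : g' = g := x.injective e
    subst e'
    show x⁻¹ (x g') ∈ T
    rw [MulAut.inv_apply_self]
    obtain ⟨z, hz, rfl⟩ := (mem_Upt hp).1 hg
    by_cases h1 : eb 𝐐 p z = 1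
    · exact ⟨0, by rw [h1, zero_smul, eb_zero]⟩
    obtain ⟨w, hw, ew⟩ := (mem_Upt hq).1 hg'
    have hsp := span_eq_of_eb_eq hp hz hp0 (isLn_of_eb_ne_one hp h1) hq hw hq0
      (isLn_of_eb_ne_one hq (ew ▸ h1)) ew
    have hqm : q ∈ Submodule.span F ({p, z} : Set (I4 → F)) := hsp ▸ IsLn.span_mem_left
    obtain ⟨a, b, e1⟩ := Submodule.mem_span_pair.1 hqm
    have hb0 : b ≠ 0 := fun e2 => hind a (by rw [← e1, e2, zero_smul, add_zero])
    refine ⟨b⁻¹, ?_⟩
    have : b⁻¹ • q = (b⁻¹ * a) • p + z := by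
      rw [← e1, smul_add, smul_smul, smul_smul, inv_mul_cancel₀ hb0, one_smul]
    rw [this, eb_add hp (by rw [polar_smul_right, CG26.AutPO.polar_self_zero hp, smul_zero]) hz,
      eb_self hp, one_mul]
  have hT : ∀ g ∈ T, g ∈ mp x (Upt p) ∧ g ∈ mp x (Upt q) := by
    rintro _ ⟨t, rfl⟩
    by_cases ht : t = 0
    · rw [ht, zero_smul, eb_zero]; exact ⟨one_mem _, one_mem _⟩
    have eq' : Upt (t • q) = Upt q := Upt_smul hq ht
    have hq' : 𝐐 (t • q) = 0 := by rw [form_smul, hq, mul_zero]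
    exact ⟨(line_mem (by decide) a1 hp hp0 hq' (smul_ne_zero ht hq0) ha.2 (eq'.symm ▸ h1)).2,
      (line_mem (by decide) b1 hp hp0 hq' (smul_ne_zero ht hq0) h2 (eq'.symm ▸ hb.2)).2⟩
  have hbij : Function.Surjective (fun g : T => (⟨x⁻¹ g.1, hline _ (hT _ g.2).1 (hT _ g.2).2⟩ : T)) :=
    Finite.injective_iff_surjective.1 fun g g' e => Subtype.ext (x⁻¹.injective (congrArg Subtype.val e))
  obtain ⟨⟨g, t, hgt⟩, hg⟩ := hbij ⟨_, hline _ mu1 mu2⟩
  have e : g = eb 𝐐 p u := x⁻¹.injective (congrArg Subtype.val hg)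
  rw [hgt] at e
  have hln' : IsLn 𝐐 p u := ⟨hp, hu, hpu, hp0, hup⟩
  have ht : t ≠ 0 := fun e' => eb_ne_one hln' (by rw [← e, e', zero_smul, eb_zero])
  have hne : ∀ c : F, t • q ≠ c • p := fun c e' => hind (t⁻¹ * c) (by
    rw [← smul_smul, ← e', inv_smul_smul₀ ht])
  have hsp := span_eq_of_eb_eq hp (by rw [polar_smul_right, hpq, smul_zero]) hp0 hne hp hpu hp0 hup e
  have hu' : u ∈ Submodule.span F ({p, t • q} : Set (I4 → F)) := hsp ▸ IsLn.span_mem_right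
  exact Submodule.span_le.2 (by
    rintro v (rfl | rfl)
    · exact IsLn.span_mem_left
    · exact Submodule.smul_mem _ _ IsLn.span_mem_right) hu'

/-- An automorphism commuting with a cyclic one and fixing all its absolute points is trivial. -/
theorem fix_trivial {x : MulAut (P8 F)} (h : Cyc x) (r : ℕ) [Fact r.Prime] [CharP F r] (hr : r ≠ 3)
    {a : Subgroup (P8 F)} (ha : a ∈ Abs x) {n : MulAut (P8 F)} (hc : n * x = x * n)
    (hfix : ∀ b ∈ Abs x, mp n b = b) : n = 1 := by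
  obtain ⟨g, hg, hga⟩ := h.exists_opp r hr ha
  obtain ⟨α, hα, hαa, hαg, hy⟩ := h.normal_form2 ha hg hga
  set y := α * x * α⁻¹ with hyd
  set m := α * n * α⁻¹ with hm
  suffices hm1 : m = 1 by
    rw [hm, mul_inv_eq_one] at hm1
    exact mul_left_cancel (a := α) (by rw [hm1, mul_one])
  have hmy : m * y = y * m := by
    show α * n * α⁻¹ * (α * x * α⁻¹) = α * x * α⁻¹ * (α * n * α⁻¹)
    calc _ = α * (n * x) * α⁻¹ := by group
      _ = α * (x * n) * α⁻¹ := by rw [hc]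
      _ = _ := by group
  have hmfix : ∀ b ∈ Abs y, mp m b = b := fun b hb => by
    rw [hm, mp_mul, mp_mul, hfix _ (Abs_pull hα hb), mp_inv']
  have hwa : W₀ ∈ Abs y := hαa ▸ Abs_conj α (fun c hc => simRange_Cl0 hα hc) ha
  obtain ⟨hO, hOn⟩ := hy.opp_base
  have hW0 := hmfix _ hwa
  have hO0 := hmfix _ hO
  have hcm : ∀ b, mp m (mp y b) = mp y (mp m b) := fun b => by rw [← mp_mul, hmy, mp_mul]
  have hW1 : mp m W₁ = W₁ := by rw [← hy.w0, hcm, hW0]
  have hW2 : mp m W₂ = W₂ := by rw [← hy.w1, hcm, hW1]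
  have hO1 : mp m O₁ = O₁ := by rw [← hy.o0, hcm, hO0]
  have hO2 : mp m O₂ = O₂ := by rw [← hy.o1, hcm, hO1]
  have hmQ : ∀ u ∈ QW (F := F), m u ∈ QW := by
    have e : mp m QW = QW (F := F) := by
      rw [QW, mp, Subgroup.map_sup, Subgroup.map_sup]
      show mp m W₀ ⊔ mp m W₁ ⊔ mp m W₂ = _
      rw [hW0, hW1, hW2]
    exact fun u hu => e ▸ mem_mp hu
  have hmu : ∀ u ∈ QW (F := F), y u = u → m u = u := by
    intro u hu hyu
    have hmu' : y (m u) = m u := by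
      rw [← MulAut.mul_apply, ← hmy, MulAut.mul_apply, hyu]
    have key : ∀ {b}, b ∈ Abs y → mp (MulAut.conj (m u)) b = mp (MulAut.conj u) b := by
      intro b hb
      conv_lhs => rw [← hmfix b hb]
      rw [← mp_mul, conj_tau, mp_mul, hmfix _ (conj_fixed_Abs hyu hb)]
    have e1 : ∀ (O : Subgroup (P8 F)), mp (MulAut.conj (m u)) (mp y O) = mp y (mp (MulAut.conj (m u)) O) :=
      fun O => by rw [← mp_mul (MulAut.conj (m u)) y O, ← mp_mul y (MulAut.conj (m u)) O, ← conj_tau y (m u), hmu']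
    have e2 : ∀ (O : Subgroup (P8 F)), mp (MulAut.conj u) (mp y O) = mp y (mp (MulAut.conj u) O) :=
      fun O => by rw [← mp_mul (MulAut.conj u) y O, ← mp_mul y (MulAut.conj u) O, ← conj_tau y u, hyu]
    have k0 := key hO
    have k1 : mp (MulAut.conj (m u)) O₁ = mp (MulAut.conj u) O₁ := by rw [← hy.o0, e1, e2, k0]
    have k2 : mp (MulAut.conj (m u)) O₂ = mp (MulAut.conj u) O₂ := by rw [← hy.o1, e1, e2, k1]
    have key' : ∀ O : Subgroup (P8 F), mp (MulAut.conj (m u)) O = mp (MulAut.conj u) O →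
        mp (MulAut.conj (u⁻¹ * m u)) O = O := fun O e => by rw [map_mul, mp_mul, e, map_inv, mp_inv]
    exact (inv_mul_eq_one.1 (QW_free (mul_mem (inv_mem hu) (hmQ u hu)) (key' _ k0) (key' _ k1)
      (key' _ k2))).symm
  obtain ⟨s, hs⟩ := mem_simRange_of_fix W_mem.1 (hW0.symm ▸ W_mem.1 : mp m W₀ ∈ Cl 0)
  have hpres : ∀ i : I4, ∀ T : Finset I4, (T = T1 ∨ T = T2 ∨ T = O1 ∨ T = O2) → i ∈ T →
      s.g (bv i) ∈ spc T := by
    intro i T hT hi
    have hq : 𝐐 (s.g (bv i)) = 0 := by rw [s.form', q_bv, map_zero, mul_zero]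
    have hne : s.g (bv i) ≠ 0 := fun e => bv_ne_zero i (s.g.map_eq_zero_iff.1 e)
    have hb := inc_base hq hne
    have hi' := inc_base (q_bv (F := F) i) (bv_ne_zero i)
    rw [← mp_sim_Upt s (q_bv i), hs] at hb
    rcases hT with rfl | rfl | rfl | rfl
    · refine hb.1.1 ?_; rw [← hW1, inc_mp]; exact hi'.1.2 (bv_mem_spc hi)
    · refine hb.2.1.1 ?_; rw [← hW2, inc_mp]; exact hi'.2.1.2 (bv_mem_spc hi)
    · refine hb.2.2.1.1 ?_; rw [← hO1, inc_mp]; exact hi'.2.2.1.2 (bv_mem_spc hi)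
    · refine hb.2.2.2.1 ?_; rw [← hO2, inc_mp]; exact hi'.2.2.2.2 (bv_mem_spc hi)
  have hsne : ∀ i, s.g (bv i) ≠ 0 := fun i e => bv_ne_zero (F := F) i (s.g.map_eq_zero_iff.1 e)
  obtain ⟨a0, ha0⟩ := exists_smul_of_Upt_eq (q_bv (F := F) (.inl 0)) (bv_ne_zero _)
    (by rw [s.form', q_bv, map_zero, mul_zero]) (hsne (.inl 0))
    (by rw [← mp_sim_Upt s (q_bv (F := F) (.inl 0)), hs]; exact hW0.symm)
  obtain ⟨a, ha'⟩ := exists_smul_of_Upt_eq (q_bv (F := F) (.inr 0)) (bv_ne_zero _)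
    (by rw [s.form', q_bv, map_zero, mul_zero]) (hsne (.inr 0))
    (by rw [← mp_sim_Upt s (q_bv (F := F) (.inr 0)), hs]; exact hO0.symm)
  have haz : a ≠ 0 := fun e => hsne (.inr 0) (by rw [ha', e, zero_smul])
  have ha0z : a0 ≠ 0 := fun e => hsne (.inl 0) (by rw [ha0, e, zero_smul])
  -- each block is invariant
  have hblk : ∀ i j : I4, (∃ T, (T = T1 ∨ T = T2 ∨ T = O1 ∨ T = O2) ∧ i ∈ T ∧ j ∉ T) →
      s.g (bv i) j = 0 := fun i j ⟨T, hT, hi, hj⟩ => hpres i T hT hi j hj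
  have hcoef : ∀ (i j : I4), s.g (bv i) j.swap = polar 𝐐 (bv j) (s.g (bv i)) := fun i j => (polar_bv _ _).symm
  have he : ∀ k : Fin 2, s.g (bv (ek k)) (.inl 0) = 0 := by
    intro k
    have e := s.map_polar (bv (.inr 0)) (bv (ek k))
    rw [ha', polar_smul_left, polar_bv, polar_bv, bv_ne
      (by fin_cases k <;> simp [ek]), map_zero, mul_zero, smul_eq_mul, mul_eq_zero] at e
    exact e.resolve_left haz
  have hfk : ∀ k : Fin 2, s.g (bv (fk k)) (.inr 0) = 0 := by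
    intro k
    have e := s.map_polar (bv (.inl 0)) (bv (fk k))
    rw [ha0, polar_smul_left, polar_bv, polar_bv, bv_ne
      (by fin_cases k <;> simp [fk]), map_zero, mul_zero, smul_eq_mul, mul_eq_zero] at e
    exact e.resolve_left ha0z
  have expand : ∀ (d : I4 → F) (j : I4), s.g d j = ∑ i, s.σ (d i) * s.g (bv i) j := fun d j => by
    conv_lhs => rw [vec_eq_sum d, map_sum]
    simp [Finset.sum_apply, s.map_smul']
  have hlift : ∀ k : Om 𝐐, k ∈ Uni → piO 𝐐 k ∈ QW → y (piO 𝐐 k) = piO 𝐐 k →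
      ∀ v, s.g (k.1.1 v) = k.1.1 (s.g v) := by
    intro k hk hkQ hky v
    have e : s.omAut k = k := by
      refine CG26.AutPO.piO_inj setup4 ?_ (Uni.isU hk) ?_
      · obtain ⟨l, hl⟩ := Uni.isU hk
        exact ⟨l, by rw [← map_pow, hl, map_one]⟩
      · rw [← CG26.AutPO.Sim.aut_piO, hs]; exact hmu _ hkQ hky
    conv_rhs => rw [← e]
    show _ = s.g (k.1.1 (s.g.symm (s.g v)))
    rw [s.g.symm_apply_apply]
  have hget : ∀ (l : Fin 3) (z : Fin 2 → F), ∃ k ∈ Uni (F := F), coef l k = z ∧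
      ∀ v, s.g (k.1.1 v) = k.1.1 (s.g v) := by
    intro l z
    obtain ⟨u, hu, hyu, hz⟩ := hy.toNF.exists_fixed r hr l z
    obtain ⟨k, hk, rfl⟩ := exists_lift hu
    exact ⟨k, hk, by rw [← hz, Φ_piO hk], hlift k hk hu hyu⟩
  have hd : ∀ k : Om 𝐐, (∀ v, s.g (k.1.1 v) = k.1.1 (s.g v)) →
      s.g (k.1.1 f0 - f0) = a • (k.1.1 f0 - f0) := by
    intro k hk
    rw [map_sub, hk, ha', map_smul, smul_sub]
  -- the block of `f₁, f₂`
  have hrow : ∀ (c : F) (l k' : Fin 2),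
      s.σ c * s.g (bv (fk l)) (fk k') = if k' = l then a * c else 0 := by
    intro c l k'
    obtain ⟨k, hk, hz, hcomm⟩ := hget 0 (Pi.single l c)
    have e := congrFun (hd k hcomm) (fk k')
    set d := k.1.1 f0 - f0 with hdd
    have hdc : ∀ i, d (fk i) = (Pi.single l c : Fin 2 → F) i := fun i => by
      rw [← hz]
      show k.1.1 f0 (fk i) - f0 (F := F) (fk i) = k.1.1 f0 (fk i)
      rw [show f0 (F := F) (fk i) = 0 from bv_ne (by fin_cases i <;> simp [fk]), sub_zero]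
    have hvan : ∀ i : I4, i ≠ .inr 1 → i ≠ .inr 2 → s.σ (d i) * s.g (bv i) (fk k') = 0 := by
      intro i n1 n2
      by_cases n0 : i = .inr 0
      · subst n0
        rw [show d (.inr 0) = 0 from hk 0 f0 (bv_mem_Fil (.inr 0)) (.inr 0) (by decide), map_zero, zero_mul]
      · have key : ∀ (i : I4) (k' : Fin 2), i ≠ .inr 0 → i ≠ .inr 1 → i ≠ .inr 2 →
            (i ∈ T1 ∧ fk k' ∉ T1) ∨ (i ∈ T2 ∧ fk k' ∉ T2) := by decide +kernel
        rcases key i k' n0 n1 n2 with ⟨h1, h2⟩ | ⟨h1, h2⟩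
        · rw [hblk i _ ⟨T1, Or.inl rfl, h1, h2⟩, mul_zero]
        · rw [hblk i _ ⟨T2, Or.inr (Or.inl rfl), h1, h2⟩, mul_zero]
    rw [expand, Finset.sum_eq_add (.inr 1 : I4) (.inr 2) (by decide) (fun i _ hi => hvan i hi.1 hi.2)
      (fun hc => absurd (Finset.mem_univ _) hc) (fun hc => absurd (Finset.mem_univ _) hc),
      Pi.smul_apply, smul_eq_mul, hdc, show (Sum.inr 1 : I4) = fk 0 from rfl,
      show (Sum.inr 2 : I4) = fk 1 from rfl, hdc, hdc] at e
    fin_cases l <;> fin_cases k' <;> simp at e ⊢ <;> exact e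
  have hMd : ∀ l k', s.g (bv (fk l)) (fk k') = if k' = l then a else 0 := fun l k' => by
    have := hrow 1 l k'
    rwa [map_one, one_mul, mul_one] at this
  have hσ : ∀ c, s.σ c = c := fun c => by
    have := hrow c 0 0
    rw [hMd 0 0, if_pos rfl, if_pos rfl, mul_comm a c] at this
    exact mul_right_cancel₀ haz this
  -- the block of `e₃, f₃`
  have hmid : ∀ (l : Fin 3), l ≠ 0 → s.g (bv (row l 0)) (row l 0) = a := by
    intro l hl
    obtain ⟨k1, m1, z1, c1⟩ := hget 0 ![1, 0]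
    obtain ⟨k3, m3, z3, c3⟩ := hget l ![1, 0]
    set d1 := k1.1.1 f0 - f0 with hd1
    set d3 := k3.1.1 d1 - d1 with hd3
    have e : s.g d3 = a • d3 := by
      rw [hd3, map_sub, c3, show s.g d1 = a • d1 from hd k1 c1, map_smul, ← smul_sub]
    have hd1F : d1 ∈ Fil 1 := m1 0 f0 fun j hj => absurd hj (Nat.not_lt_zero _)
    have hd3F : d3 ∈ Fil 2 := m3 1 d1 hd1F
    have hval : d3 (row l 0) = 1 := by
      rw [hd3, coord_lead m3 (hd1F _ (by decide)) hl, z3]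
      have := congrFun z1 0; simp [coef, col, row, fk] at this
      simp [hd1, this]
    have := congrFun e (row l 0)
    rw [expand, Finset.sum_eq_single (row l 0) (fun i _ hi => ?_) (by simp), Pi.smul_apply, hval,
      smul_eq_mul, mul_one, hσ, one_mul] at this
    · exact this
    · have key : ∀ (l : Fin 3) (i : I4), l ≠ 0 → i ≠ row l 0 → lev i < 2 ∨
          (i ∈ T1 ∧ row l 0 ∉ T1) ∨ (i ∈ T2 ∧ row l 0 ∉ T2) := by decide +kernel
      rcases key l i hl hi with h1 | ⟨h1, h2⟩ | ⟨h1, h2⟩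
      · rw [hd3F i h1, map_zero, zero_mul]
      · rw [hblk i _ ⟨T1, Or.inl rfl, h1, h2⟩, mul_zero]
      · rw [hblk i _ ⟨T2, Or.inr (Or.inl rfl), h1, h2⟩, mul_zero]
  have hb3 : ∀ l : Fin 3, l ≠ 0 → s.g (bv (row l 0)) = a • bv (row l 0) := by
    intro l hl
    funext j
    by_cases e : j = row l 0
    · subst e; rw [hmid l hl]; simp
    · rw [Pi.smul_apply, bv_ne e, smul_zero]
      have key : ∀ (l : Fin 3) (j : I4), l ≠ 0 → j ≠ row l 0 → (row l 0 ∈ T1 ∧ j ∉ T1) ∨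
          (row l 0 ∈ T2 ∧ j ∉ T2) ∨ (row l 0 ∈ O1 ∧ j ∉ O1) ∨ (row l 0 ∈ O2 ∧ j ∉ O2) := by decide +kernel
      rcases key l j hl e with ⟨h1, h2⟩ | ⟨h1, h2⟩ | ⟨h1, h2⟩ | ⟨h1, h2⟩
      · exact hblk _ _ ⟨T1, Or.inl rfl, h1, h2⟩
      · exact hblk _ _ ⟨T2, Or.inr (Or.inl rfl), h1, h2⟩
      · exact hblk _ _ ⟨O1, Or.inr (Or.inr (Or.inl rfl)), h1, h2⟩
      · exact hblk _ _ ⟨O2, Or.inr (Or.inr (Or.inr rfl)), h1, h2⟩
  have hμ : s.μ = a * a := by
    have e := s.map_polar (bv (row 2 0)) (bv (row 1 0))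
    rw [hb3 2 (by decide), hb3 1 (by decide), polar_smul_left, polar_smul_right, polar_bv] at e
    simpa [row] using e.symm
  have ha0' : a0 = a := by
    have e := s.map_polar (bv (.inl 0)) (bv (.inr 0))
    rw [ha0, ha', polar_smul_left, polar_smul_right, polar_bv, hμ] at e
    simp at e
    rcases e with e | e
    · exact e
    · exact absurd e haz
  have hfb : ∀ l, s.g (bv (fk l)) = a • bv (fk l) := by
    intro l
    funext j
    have key : ∀ (l : Fin 2) (j : I4), (∃ k', j = fk k') ∨ j = .inr 0 ∨ (fk l ∈ O1 ∧ j ∉ O1) ∨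
        (fk l ∈ O2 ∧ j ∉ O2) := by decide +kernel
    have inj : Function.Injective fk := by decide
    rcases key l j with ⟨k', rfl⟩ | rfl | ⟨h1, h2⟩ | ⟨h1, h2⟩
    · simp [hMd, Pi.single_apply, inj.eq_iff]
    · rw [hfk, Pi.smul_apply, bv_ne (by fin_cases l <;> simp [fk]), smul_zero]
    · rw [hblk _ _ ⟨O1, Or.inr (Or.inr (Or.inl rfl)), h1, h2⟩, Pi.smul_apply, bv,
        Pi.single_eq_of_ne (fun e => h2 (by rw [e]; exact h1)), smul_zero]
    · rw [hblk _ _ ⟨O2, Or.inr (Or.inr (Or.inr rfl)), h1, h2⟩, Pi.smul_apply, bv,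
        Pi.single_eq_of_ne (fun e => h2 (by rw [e]; exact h1)), smul_zero]
  have heb : ∀ l, s.g (bv (ek l)) = a • bv (ek l) := by
    intro l
    funext j
    have key : ∀ (l : Fin 2) (j : I4), (∃ k', j = ek k') ∨ j = .inl 0 ∨ (ek l ∈ T1 ∧ j ∉ T1) ∨
        (ek l ∈ T2 ∧ j ∉ T2) := by decide +kernel
    rcases key l j with ⟨k', rfl⟩ | rfl | ⟨h1, h2⟩ | ⟨h1, h2⟩
    · have e := s.map_polar (bv (fk k')) (bv (ek l))
      have hswap : ∀ k', (fk k').swap = ek k' := by decide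
      rw [hfb, polar_smul_left, polar_bv, polar_bv, hμ, hσ, smul_eq_mul] at e
      have hsw := hswap k'
      rw [hsw, mul_assoc] at e
      rw [Pi.smul_apply, smul_eq_mul]
      exact mul_left_cancel₀ haz e
    · rw [he, Pi.smul_apply, bv_ne (by fin_cases l <;> simp [ek]), smul_zero]
    · rw [hblk _ _ ⟨T1, Or.inl rfl, h1, h2⟩, Pi.smul_apply, bv,
        Pi.single_eq_of_ne (fun e => h2 (by rw [e]; exact h1)), smul_zero]
    · rw [hblk _ _ ⟨T2, Or.inr (Or.inl rfl), h1, h2⟩, Pi.smul_apply, bv,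
        Pi.single_eq_of_ne (fun e => h2 (by rw [e]; exact h1)), smul_zero]
  have hall : ∀ i, s.g (bv i) = a • bv i := by
    have key : ∀ i : I4, i = .inl 0 ∨ i = .inr 0 ∨ (∃ l, i = ek l) ∨ (∃ l, i = fk l) ∨
        i = row 2 0 ∨ i = row 1 0 := by decide +kernel
    intro i
    rcases key i with rfl | rfl | ⟨l, rfl⟩ | ⟨l, rfl⟩ | rfl | rfl
    · rw [ha0, ha0']
    · exact ha'
    · exact heb l
    · exact hfb l
    · exact hb3 2 (by decide)
    · exact hb3 1 (by decide)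
  have hscal : s = (CG26.AutPO.Sim.ofOrth (1 : orth 𝐐)).scale (Units.mk0 a haz) := by
    refine CG26.AutPO.Sim.ext' setup4 (RingEquiv.ext hσ) fun v => ?_
    rw [CG26.AutPO.Sim.scale_g]
    show s.g v = a • v
    conv_lhs => rw [vec_eq_sum v, map_sum]
    conv_rhs => rw [vec_eq_sum v, Finset.smul_sum]
    exact Finset.sum_congr rfl fun i _ => by rw [s.map_smul', hσ, hall, smul_comm]
  rw [← hs, hscal, CG26.AutPO.Sim.scale_aut, CG26.AutPO.Sim.one_aut]

end Cfsg.Agent.PlusBal.Tri
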