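import Cfsg.Agent.PlusBal.D4Link

/-!
Points and the two families of solids of `PΩ⁺_8` as subgroups, and triality on them (helper11).
-/

set_option autoImplicit false
set_option maxHeartbeats 800000
set_option linter.unusedSectionVars false

namespace Cfsg.Agent.PlusBal.Tri

open QuadraticMap Cfsg.Lie
open Cfsg.Agent.UnitaryOrthogonal
open Cfsg.Agent.UnitaryOrthogonal.Adjoint (I4 d4Pair)
open Cfsg.Agent.CG26.AutPO (Om piO piO_surjective simRange IsLn IsU eb eo)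
open Cfsg.Agent.CG26.AutPO.D4 (setup4 tau bv X tau_X tau_cube eps_ne_zero exists_decomp
  polar_bv q_bv bv_ne_zero)

universe u

variable {F : Type u} [Field F]

/-- The form. -/
local notation "𝐐" => qPlus 4 F

/-! ### Eichler transformations on a totally singular subspace -/

/-- Totally singular. -/
def TS (S : Submodule F (I4 → F)) : Prop := ∀ x ∈ S, 𝐐 x = 0

theorem TS.polar_eq {S : Submodule F (I4 → F)} (h : TS S) {x y : I4 → F} (hx : x ∈ S) (hy : y ∈ S) :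
    polar 𝐐 x y = 0 := by
  rw [polar, h _ (S.add_mem hx hy), h _ hx, h _ hy]; simp

theorem eich_smul_left {u z : I4 → F} (hu : 𝐐 u = 0) (hz : polar 𝐐 u z = 0) (c : F) :
    eich 𝐐 (c • u) z = eich 𝐐 u (c • z) := by
  refine orth_ext fun x => ?_
  rw [eich_apply (by rw [form_smul, hu, mul_zero]) (by rw [polar_smul_left, hz, smul_zero]),
    eich_apply hu (by rw [polar_smul_right, hz, smul_zero])]
  simp only [polar_smul_left, form_smul, smul_eq_mul, smul_smul]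
  module

theorem eich_self {u : I4 → F} (hu : 𝐐 u = 0) (c : F) : eich 𝐐 u (c • u) = 1 := by
  refine orth_ext fun x => ?_
  rw [eich_apply hu (by rw [polar_smul_right, CG26.AutPO.polar_self_zero hu, smul_zero]), coe_one_apply]
  simp only [form_smul, hu, polar_smul_left, smul_eq_mul, mul_zero, zero_mul, zero_smul, sub_zero, smul_smul]
  module

theorem eich_swap {u z : I4 → F} (hu : 𝐐 u = 0) (hz : 𝐐 z = 0) (h : polar 𝐐 u z = 0) :
    eich 𝐐 u z = eich 𝐐 z (-u) := by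
  refine orth_ext fun x => ?_
  have h' : polar 𝐐 z u = 0 := by rw [polar_comm, h]
  rw [eich_apply hu h, eich_apply hz (by rw [polar_neg_right, h', neg_zero])]
  simp only [polar_neg_left, QuadraticMap.map_neg, hu, hz, zero_mul, zero_smul, sub_zero]
  module

theorem eb_add {u z z' : I4 → F} (hu : 𝐐 u = 0) (hz : polar 𝐐 u z = 0) (hz' : polar 𝐐 u z' = 0) :
    eb 𝐐 u (z + z') = eb 𝐐 u z * eb 𝐐 u z' := by
  rw [eb, eb, eb, ← map_mul]
  exact congrArg _ (Subtype.ext (eich_mul hu hz hz').symm)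

theorem eb_zero (u : I4 → F) : eb 𝐐 u 0 = 1 := by
  rw [eb, show eo 𝐐 u 0 = 1 from Subtype.ext (eich_zero u), map_one]

theorem eb_self {u : I4 → F} (hu : 𝐐 u = 0) (c : F) : eb 𝐐 u (c • u) = 1 := by
  rw [eb, show eo 𝐐 u (c • u) = 1 from Subtype.ext (eich_self hu c), map_one]

theorem eb_swap' {u z : I4 → F} (hu : 𝐐 u = 0) (hz : 𝐐 z = 0) (h : polar 𝐐 u z = 0) :
    eb 𝐐 u z = eb 𝐐 z (-u) :=
  congrArg _ (Subtype.ext (eich_swap hu hz h))

theorem eb_smul_left {u z : I4 → F} (hu : 𝐐 u = 0) (hz : polar 𝐐 u z = 0) (c : F) :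
    eb 𝐐 (c • u) z = eb 𝐐 u (c • z) :=
  congrArg _ (Subtype.ext (eich_smul_left hu hz c))

theorem eb_inv {u z : I4 → F} (hu : 𝐐 u = 0) (hz : polar 𝐐 u z = 0) :
    (eb 𝐐 u z)⁻¹ = eb 𝐐 u (-z) := by
  rw [eb, eb, ← map_inv]
  exact congrArg _ (Subtype.ext (eich_inv hu hz))

/-- The image of a subgroup under an automorphism. -/
noncomputable abbrev mp (α : MulAut (P8 F)) (W : Subgroup (P8 F)) : Subgroup (P8 F) := W.map α.toMonoidHom

theorem mp_mul (α β : MulAut (P8 F)) (W : Subgroup (P8 F)) : mp (α * β) W = mp α (mp β W) := by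
  rw [mp, mp, mp, Subgroup.map_map]; rfl

theorem mp_one (W : Subgroup (P8 F)) : mp 1 W = W := by
  rw [mp, show (1 : MulAut (P8 F)).toMonoidHom = MonoidHom.id _ from rfl, Subgroup.map_id]

theorem mp_inv (α : MulAut (P8 F)) (W : Subgroup (P8 F)) : mp α⁻¹ (mp α W) = W := by
  rw [← mp_mul, inv_mul_cancel, mp_one]

theorem mp_inv' (α : MulAut (P8 F)) (W : Subgroup (P8 F)) : mp α (mp α⁻¹ W) = W := by
  rw [← mp_mul, mul_inv_cancel, mp_one]

theorem mp_injective (α : MulAut (P8 F)) : Function.Injective (mp α) :=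
  Function.LeftInverse.injective (mp_inv α)

theorem mem_mp {α : MulAut (P8 F)} {W : Subgroup (P8 F)} {g : P8 F} (hg : g ∈ W) : α g ∈ mp α W :=
  ⟨g, hg, rfl⟩

/-- Incidence. -/
def Inc (W W' : Subgroup (P8 F)) : Prop := W ⊓ W' ≠ ⊥

theorem Inc.symm {W W' : Subgroup (P8 F)} (h : Inc W W') : Inc W' W := by rwa [Inc, inf_comm]

theorem inc_mp {α : MulAut (P8 F)} {W W' : Subgroup (P8 F)} : Inc (mp α W) (mp α W') ↔ Inc W W' := by
  rw [Inc, Inc, mp, mp, ← Subgroup.map_inf _ _ _ α.injective]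
  exact not_iff_not.2 (Subgroup.map_eq_bot_iff_of_injective _ α.injective)

theorem inc_iff {W W' : Subgroup (P8 F)} : Inc W W' ↔ ∃ g ∈ W, g ∈ W' ∧ g ≠ 1 := by
  rw [Inc, ne_eq, Subgroup.eq_bot_iff_forall]
  push Not
  exact ⟨fun ⟨g, h, h1⟩ => ⟨g, h.1, h.2, h1⟩, fun ⟨g, h, h', h1⟩ => ⟨g, ⟨h, h'⟩, h1⟩⟩

/-- The subgroup of a point. -/
noncomputable def Upt (p : I4 → F) : Subgroup (P8 F) :=
  Subgroup.closure {g | ∃ z, polar 𝐐 p z = 0 ∧ g = eb 𝐐 p z}

/-- The subgroup of a subspace. -/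
noncomputable def Usp (S : Submodule F (I4 → F)) : Subgroup (P8 F) :=
  Subgroup.closure {g | ∃ u ∈ S, ∃ z ∈ S, g = eb 𝐐 u z}

theorem eb_mem_Usp {S : Submodule F (I4 → F)} {u z : I4 → F} (hu : u ∈ S) (hz : z ∈ S) :
    eb 𝐐 u z ∈ Usp S := Subgroup.subset_closure ⟨u, hu, z, hz, rfl⟩

theorem eb_mem_Upt {p z : I4 → F} (hz : polar 𝐐 p z = 0) : eb 𝐐 p z ∈ Upt p :=
  Subgroup.subset_closure ⟨z, hz, rfl⟩

theorem mem_Upt {p : I4 → F} (hp : 𝐐 p = 0) {g : P8 F} :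
    g ∈ Upt p ↔ ∃ z, polar 𝐐 p z = 0 ∧ g = eb 𝐐 p z := by
  refine ⟨fun h => ?_, fun ⟨z, hz, e⟩ => e ▸ eb_mem_Upt hz⟩
  unfold Upt at h
  induction h using Subgroup.closure_induction with
  | mem x hx => exact hx
  | one => exact ⟨0, by simp, (eb_zero p).symm⟩
  | mul x y _ _ hx hy =>
    obtain ⟨a, ha, rfl⟩ := hx
    obtain ⟨b, hb, rfl⟩ := hy
    exact ⟨a + b, by rw [polar_add_right, ha, hb, add_zero], (eb_add hp ha hb).symm⟩
  | inv x _ hx =>
    obtain ⟨a, ha, rfl⟩ := hx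
    exact ⟨-a, by rw [polar_neg_right, ha, neg_zero], eb_inv hp ha⟩

/-- The lifts of the subgroup of a subspace. -/
noncomputable def low (S : Submodule F (I4 → F)) : Subgroup (Om 𝐐) where
  carrier := {h | (∀ v, h.1.1 v - v ∈ S) ∧ ∀ v ∈ S, h.1.1 v = v}
  one_mem' := ⟨fun v => by simp, fun v _ => rfl⟩
  mul_mem' := by
    rintro h k ⟨h1, h2⟩ ⟨k1, k2⟩
    refine ⟨fun v => ?_, fun v hv => ?_⟩
    · rw [Subgroup.coe_mul, coe_mul_apply]
      have e : h.1.1 (k.1.1 v) - v = (k.1.1 v - v) + (h.1.1 v - v) := by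
        conv_lhs => rw [show k.1.1 v = (k.1.1 v - v) + v by abel, map_add, h2 _ (k1 v)]
        abel
      rw [e]
      exact S.add_mem (k1 v) (h1 v)
    · rw [Subgroup.coe_mul, coe_mul_apply, k2 v hv, h2 v hv]
  inv_mem' := by
    rintro h ⟨h1, h2⟩
    refine ⟨fun v => ?_, fun v hv => ?_⟩
    · obtain ⟨w, rfl⟩ := h.1.1.surjective v
      rw [Subgroup.coe_inv, coe_inv_apply_apply, show w - h.1.1 w = -(h.1.1 w - w) by abel]
      exact S.neg_mem (h1 w)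
    · rw [Subgroup.coe_inv]
      conv_lhs => rw [← h2 v hv]
      exact coe_inv_apply_apply _ _

theorem eo_mem_low {S : Submodule F (I4 → F)} (hS : TS S) {u z : I4 → F} (hu : u ∈ S) (hz : z ∈ S) :
    eo 𝐐 u z ∈ low S := by
  refine ⟨fun v => ?_, fun v hv => ?_⟩
  · rw [CG26.AutPO.eo_coe, eich_apply (hS u hu) (hS.polar_eq hu hz), hS z hz,
      show ∀ a b c : I4 → F, v + a - b - c - v = a - b - c from fun a b c => by abel]
    exact S.sub_mem (S.sub_mem (S.smul_mem _ hz) (S.smul_mem _ hu)) (S.smul_mem _ hu)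
  · rw [CG26.AutPO.eo_coe, eich_apply (hS u hu) (hS.polar_eq hu hz), hS.polar_eq hu hv,
      hS.polar_eq hz hv]
    simp

theorem Usp_le_low {S : Submodule F (I4 → F)} (hS : TS S) : Usp S ≤ (low S).map (piO 𝐐) := by
  refine (Subgroup.closure_le _).2 ?_
  rintro _ ⟨u, hu, z, hz, rfl⟩
  exact ⟨_, eo_mem_low hS hu hz, rfl⟩

theorem low_isU {S : Submodule F (I4 → F)} {h : Om 𝐐} (hh : h ∈ low S) : IsU h := by
  refine ⟨1, Subtype.ext (orth_ext fun v => ?_)⟩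
  have key : ∀ n : ℕ, (h.1 ^ n).1 v = v + (n : F) • (h.1.1 v - v) := by
    intro n
    induction n with
    | zero => simp
    | succ n ih =>
      rw [pow_succ', coe_mul_apply, ih, map_add, map_smul, hh.2 _ (hh.1 v), Nat.cast_succ, add_smul,
        one_smul]
      abel
  rw [SubgroupClass.coe_pow, pow_one, key, ringChar.Nat.cast_ringChar, zero_smul, add_zero]
  rfl

variable [Fintype F]

theorem eb_ne_one {u z : I4 → F} (h : IsLn 𝐐 u z) : eb 𝐐 u z ≠ 1 :=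
  CG26.AutPO.eb_ne_one setup4 h.qu h.uz h.u0 h.ind

theorem isLn_of_eb_ne_one {p z : I4 → F} (hp : 𝐐 p = 0) (hg : eb 𝐐 p z ≠ 1) :
    ∀ c : F, z ≠ c • p := fun c e => hg (e ▸ eb_self hp c)

/-- An element of the subgroup of a subspace comes from a pair inside. -/
theorem span_le_of_eb_mem {S : Submodule F (I4 → F)} (hS : TS S) {p z : I4 → F} (hp : 𝐐 p = 0)
    (hz : polar 𝐐 p z = 0) (hp0 : p ≠ 0) (hne : ∀ c : F, z ≠ c • p) (h : eb 𝐐 p z ∈ Usp S) :
    Submodule.span F ({p, z} : Set (I4 → F)) ≤ S := by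
  obtain ⟨k, hk, e⟩ := Usp_le_low hS h
  have e' := CG26.AutPO.piO_inj setup4 (low_isU hk) (CG26.AutPO.eo_isU hp hz) e
  rw [← CG26.AutPO.span_eq_range setup4 hp hz hp0 hne]
  rintro _ ⟨x, rfl⟩
  have := hk.1 x
  rw [e', CG26.AutPO.eo_coe] at this
  exact this

theorem inc_Upt_Usp {S : Submodule F (I4 → F)} (hS : TS S) {p : I4 → F} (hp : 𝐐 p = 0) (hp0 : p ≠ 0)
    (hbig : ∀ q : I4 → F, ¬ S ≤ Submodule.span F {q}) :
    Inc (Upt p) (Usp S) ↔ p ∈ S := by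
  rw [inc_iff]
  constructor
  · rintro ⟨g, hg, hg', hg1⟩
    obtain ⟨z, hz, rfl⟩ := (mem_Upt hp).1 hg
    exact span_le_of_eb_mem hS hp hz hp0 (isLn_of_eb_ne_one hp hg1) hg'
      (Submodule.subset_span (Set.mem_insert _ _))
  · intro hpS
    obtain ⟨z, hzS, hz⟩ := SetLike.not_le_iff_exists.1 (hbig p)
    have hi : IsLn 𝐐 p z := ⟨hp, hS z hzS, hS.polar_eq hpS hzS, hp0,
      fun c e => hz (e ▸ Submodule.smul_mem _ _ (Submodule.mem_span_singleton_self p))⟩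
    exact ⟨_, eb_mem_Upt hi.uz, eb_mem_Usp hpS hzS, eb_ne_one hi⟩

theorem span_eq_of_eb_eq {p z u w : I4 → F} (hp : 𝐐 p = 0) (hz : polar 𝐐 p z = 0) (hp0 : p ≠ 0)
    (hne : ∀ c : F, z ≠ c • p) (hu : 𝐐 u = 0) (hw : polar 𝐐 u w = 0) (hu0 : u ≠ 0)
    (hne' : ∀ c : F, w ≠ c • u) (e : eb 𝐐 p z = eb 𝐐 u w) :
    Submodule.span F ({p, z} : Set (I4 → F)) = Submodule.span F {u, w} :=
  CG26.AutPO.span_eq_of_eich_eq setup4 hp hz hp0 hne hu hw hu0 hne' (congrArg Subtype.val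
    (CG26.AutPO.piO_inj setup4 (CG26.AutPO.eo_isU hp hz) (CG26.AutPO.eo_isU hu hw) e))

theorem inc_Upt_Upt {p q : I4 → F} (hp : 𝐐 p = 0) (hp0 : p ≠ 0) (hq : 𝐐 q = 0) (hq0 : q ≠ 0) :
    Inc (Upt p) (Upt q) ↔ polar 𝐐 p q = 0 := by
  rw [inc_iff]
  constructor
  · rintro ⟨g, hg, hg', hg1⟩
    obtain ⟨z, hz, rfl⟩ := (mem_Upt hp).1 hg
    obtain ⟨w, hw, e⟩ := (mem_Upt hq).1 hg'
    have hsp := span_eq_of_eb_eq hp hz hp0 (isLn_of_eb_ne_one hp hg1) hq hw hq0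
      (isLn_of_eb_ne_one hq (e ▸ hg1)) e
    obtain ⟨a, b, e'⟩ := Submodule.mem_span_pair.1
      (show q ∈ Submodule.span F ({p, z} : Set (I4 → F)) from hsp ▸ Submodule.subset_span (Set.mem_insert _ _))
    rw [← e', polar_add_right, polar_smul_right, polar_smul_right, CG26.AutPO.polar_self_zero hp, hz]
    simp
  · intro h
    by_cases hc : ∃ c : F, q = c • p
    · obtain ⟨c, rfl⟩ := hc
      have hc0 : c ≠ 0 := fun e => hq0 (by rw [e, zero_smul])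
      obtain ⟨z, -, hi, -, -⟩ := CG26.AutPO.exists_line_through setup4 hp hp0
      refine ⟨_, eb_mem_Upt hi.uz, ?_, eb_ne_one hi⟩
      have hz : polar 𝐐 (c • p) (c⁻¹ • z) = 0 := by
        rw [polar_smul_left, polar_smul_right, hi.uz]; simp
      have := eb_mem_Upt hz
      rwa [eb_smul_left hp (by rw [polar_smul_right, hi.uz, smul_zero]), smul_inv_smul₀ hc0] at this
    · push Not at hc
      have hi : IsLn 𝐐 p q := ⟨hp, hq, h, hp0, hc⟩
      refine ⟨_, eb_mem_Upt h, ?_, eb_ne_one hi⟩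
      rw [eb_swap' hp hq h]
      exact eb_mem_Upt (by rw [polar_neg_right, polar_comm, h, neg_zero])

theorem Upt_smul {p : I4 → F} (hp : 𝐐 p = 0) {c : F} (hc : c ≠ 0) : Upt (c • p) = Upt p := by
  refine le_antisymm ((Subgroup.closure_le _).2 ?_) ((Subgroup.closure_le _).2 ?_)
  · rintro _ ⟨z, hz, rfl⟩
    rw [polar_smul_left, smul_eq_mul, mul_eq_zero] at hz
    rw [eb_smul_left hp (hz.resolve_left hc)]
    exact eb_mem_Upt (by rw [polar_smul_right, hz.resolve_left hc, smul_zero])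
  · rintro _ ⟨z, hz, rfl⟩
    have := eb_mem_Upt (p := c • p) (z := c⁻¹ • z)
      (by rw [polar_smul_left, polar_smul_right, hz]; simp)
    rwa [eb_smul_left hp (by rw [polar_smul_right, hz, smul_zero]), smul_inv_smul₀ hc] at this

theorem exists_smul_of_Upt_eq {p q : I4 → F} (hp : 𝐐 p = 0) (hp0 : p ≠ 0) (hq : 𝐐 q = 0)
    (hq0 : q ≠ 0) (h : Upt p = Upt q) : ∃ c : F, q = c • p := by
  obtain ⟨z, w, hi, hj, hcap⟩ := CG26.AutPO.exists_line_through setup4 hp hp0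
  have key : ∀ z, IsLn 𝐐 p z → q ∈ Submodule.span F ({p, z} : Set (I4 → F)) := by
    intro z hi
    obtain ⟨w', hw', e⟩ := (mem_Upt hq).1 (h ▸ eb_mem_Upt hi.uz)
    rw [span_eq_of_eb_eq hp hi.uz hp0 hi.ind hq hw' hq0 (isLn_of_eb_ne_one hq (e ▸ eb_ne_one hi)) e]
    exact Submodule.subset_span (Set.mem_insert _ _)
  exact hcap q (key z hi) (key w hj)

theorem mp_sim_Upt (s : CG26.AutPO.Sim 𝐐) {p : I4 → F} (hp : 𝐐 p = 0) :
    mp s.aut (Upt p) = Upt (s.g p) := by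
  rw [mp, Upt, MonoidHom.map_closure, Upt]
  congr 1
  ext g
  constructor
  · rintro ⟨_, ⟨z, hz, rfl⟩, rfl⟩
    exact ⟨_, by rw [polar_smul_right, s.map_polar, hz, map_zero, mul_zero, smul_zero], s.aut_eb hp hz⟩
  · rintro ⟨w, hw, rfl⟩
    obtain ⟨z, hzw⟩ := s.g.surjective (s.μ • w)
    have hz : polar 𝐐 p z = 0 := by
      have h1 : s.μ * s.σ (polar 𝐐 p z) = 0 := by
        rw [← s.map_polar, hzw, polar_smul_right, hw, smul_zero]
      exact (map_eq_zero s.σ).1 ((mul_eq_zero.1 h1).resolve_left s.μ0)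
    refine ⟨_, ⟨z, hz, rfl⟩, (s.aut_eb hp hz).trans ?_⟩
    rw [hzw, inv_smul_smul₀ s.μ0]

theorem mp_conj_Upt (h : Om 𝐐) {p : I4 → F} (hp : 𝐐 p = 0) :
    mp (MulAut.conj (piO 𝐐 h)) (Upt p) = Upt (h.1.1 p) := by
  rw [← CG26.AutPO.Sim.ofOrth_aut, mp_sim_Upt _ hp]
  rfl

theorem mp_conj_Usp_le (h : Om 𝐐) {S : Submodule F (I4 → F)} (hh : ∀ v ∈ S, h.1.1 v ∈ S) :
    mp (MulAut.conj (piO 𝐐 h)) (Usp S) ≤ Usp S := by
  rw [mp, Usp, MonoidHom.map_closure, Subgroup.closure_le]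
  rintro _ ⟨_, ⟨u, hu, z, hz, rfl⟩, rfl⟩
  show MulAut.conj (piO 𝐐 h) (eb 𝐐 u z) ∈ _
  rw [MulAut.conj_apply, CG26.AutPO.conj_eb]
  exact eb_mem_Usp (hh u hu) (hh z hz)

theorem mp_conj_Usp (h : Om 𝐐) {S : Submodule F (I4 → F)} (hh : ∀ v ∈ S, h.1.1 v ∈ S) :
    mp (MulAut.conj (piO 𝐐 h)) (Usp S) = Usp S := by
  haveI := (setup4 (F := F)).finiteV
  refine le_antisymm (mp_conj_Usp_le h hh) ?_
  have hh' : ∀ v ∈ S, h⁻¹.1.1 v ∈ S := by
    intro v hv
    obtain ⟨w, hw⟩ := (Finite.injective_iff_surjective.1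
      (show Function.Injective (fun v : S => (⟨h.1.1 v, hh v v.2⟩ : S)) from fun a b e =>
        Subtype.ext (h.1.1.injective (congrArg Subtype.val e)))) ⟨v, hv⟩
    have e : h.1.1 w.1 = v := congrArg Subtype.val hw
    rw [← e, Subgroup.coe_inv, coe_inv_apply_apply]
    exact w.2
  intro g hg
  have := mp_conj_Usp_le h⁻¹ hh' (mem_mp hg)
  rw [map_inv, map_inv] at this
  exact ⟨_, this, MulEquiv.apply_symm_apply (MulAut.conj (piO 𝐐 h)) g⟩

/-! ### The base configuration -/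

/-- A coordinate subspace. -/
def spc (I : Finset I4) : Submodule F (I4 → F) where
  carrier := {v | ∀ i ∉ I, v i = 0}
  add_mem' := fun {a b} ha hb i hi => by rw [Pi.add_apply, ha i hi, hb i hi, add_zero]
  zero_mem' := fun i _ => rfl
  smul_mem' := fun c v hv i hi => by rw [Pi.smul_apply, hv i hi, smul_zero]

/-- No hyperbolic pair. -/
def NoPair (I : Finset I4) : Prop := ∀ i ∈ I, i.swap ∉ I

instance (I : Finset I4) : Decidable (NoPair I) := inferInstanceAs (Decidable (∀ i ∈ I, i.swap ∉ I))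

omit [Fintype F] in
theorem ts_spc {I : Finset I4} (hI : NoPair I) : TS (spc (F := F) I) := by
  intro v hv
  rw [qPlus_apply]
  refine Finset.sum_eq_zero fun i _ => ?_
  by_cases h : (Sum.inl i : I4) ∈ I
  · rw [hv (.inr i) (hI _ h), mul_zero]
  · rw [hv _ h, zero_mul]

omit [Fintype F] in
theorem bv_mem_spc {I : Finset I4} {i : I4} (h : i ∈ I) : bv (F := F) i ∈ spc I := fun j hj =>
  Pi.single_eq_of_ne (show j ≠ i from fun e => hj (by rw [e]; exact h)) _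

omit [Fintype F] in
theorem spc_big {I : Finset I4} {i j : I4} (hi : i ∈ I) (hj : j ∈ I) (hij : i ≠ j) (q : I4 → F) :
    ¬ spc I ≤ Submodule.span F {q} := fun h => by
  obtain ⟨a, ha⟩ := Submodule.mem_span_singleton.1 (h (bv_mem_spc hi))
  obtain ⟨b, hb⟩ := Submodule.mem_span_singleton.1 (h (bv_mem_spc hj))
  have h1 := congrFun ha i
  have h2 := congrFun hb i
  have h3 := congrFun hb j
  simp [hij] at h1 h2 h3
  rcases h2 with h2 | h2
  · simp [h2] at h3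
  · simp [h2] at h1

/-- The subgroup of a set of roots. -/
noncomputable def RG (P : Fin chevD4.nroots → Prop) : Subgroup (P8 F) :=
  Subgroup.closure {g | ∃ r t, P r ∧ g = X r t}

theorem RG_mem {P : Fin chevD4.nroots → Prop} {r : Fin chevD4.nroots} (h : P r) (t : F) :
    X r t ∈ RG (F := F) P := Subgroup.subset_closure ⟨r, t, h, rfl⟩

omit [Fintype F] in
theorem bv_pair_mem {r : Fin chevD4.nroots} {i j : I4}
    (h : (d4Pair r).1 = i ∧ (d4Pair r).2.1 = j ∨ (d4Pair r).1 = j ∧ (d4Pair r).2.1 = i) (c : F)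
    {H : Subgroup (P8 F)} (hH : ∀ t, X r t ∈ H) : eb 𝐐 (bv i) (c • bv j) ∈ H := by
  have hsq := CG26.AutPO.D4.sgn_sq (F := F) r
  have hi := CG26.AutPO.D4.isLn_root (F := F) r
  rcases h with ⟨e1, e2⟩ | ⟨e1, e2⟩
  · have := hH (-((d4Pair r).2.2 : F) * c)
    rw [X, e1, e2, show -((d4Pair r).2.2 : F) * (-((d4Pair r).2.2 : F) * c) = c by
      linear_combination c * hsq] at this
    exact this
  · have := hH (((d4Pair r).2.2 : F) * c)
    rw [X, show -((d4Pair r).2.2 : F) * (((d4Pair r).2.2 : F) * c) = -c by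
      linear_combination (-c) * hsq, ← CG26.AutPO.D4.eb_swap hi c, e1, e2] at this
    exact this

omit [Fintype F] in
theorem eb_sum_mem {u : I4 → F} (hu : 𝐐 u = 0) (s : Finset I4) (z : I4 → F)
    (hz : ∀ i ∈ s, z i = 0 ∨ polar 𝐐 u (bv i) = 0) {H : Subgroup (P8 F)}
    (hH : ∀ i ∈ s, z i ≠ 0 → eb 𝐐 u (z i • bv i) ∈ H) :
    polar 𝐐 u (∑ i ∈ s, z i • bv i) = 0 ∧ eb 𝐐 u (∑ i ∈ s, z i • bv i) ∈ H := by
  classical
  induction s using Finset.induction_on with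
  | empty => exact ⟨by simp, by rw [Finset.sum_empty, eb_zero]; exact one_mem _⟩
  | insert a s has ih =>
    obtain ⟨h1, h2⟩ := ih (fun i hi => hz i (Finset.mem_insert_of_mem hi))
      (fun i hi => hH i (Finset.mem_insert_of_mem hi))
    have ha : polar 𝐐 u (z a • bv a) = 0 := by
      rcases hz a (Finset.mem_insert_self _ _) with e | e
      · rw [e, zero_smul, polar_zero_right]
      · rw [polar_smul_right, e, smul_zero]
    rw [Finset.sum_insert has]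
    refine ⟨by rw [polar_add_right, ha, h1, add_zero], ?_⟩
    rw [eb_add hu ha h1]
    refine mul_mem ?_ h2
    by_cases e : z a = 0
    · rw [e, zero_smul, eb_zero]; exact one_mem _
    · exact hH a (Finset.mem_insert_self _ _) e

omit [Fintype F] in
theorem vec_eq_sum (z : I4 → F) : z = ∑ i, z i • bv i := by
  funext j
  simp [Finset.sum_apply, Pi.single_apply]

theorem Upt_bv (i : I4) :
    Upt (bv (F := F) i) = RG fun r => (d4Pair r).1 = i ∨ (d4Pair r).2.1 = i := by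
  refine le_antisymm ((Subgroup.closure_le _).2 ?_) ((Subgroup.closure_le _).2 ?_)
  · rintro _ ⟨z, hz, rfl⟩
    rw [polar_bv] at hz
    have h := eb_sum_mem (q_bv i) Finset.univ z (H := RG fun r => (d4Pair r).1 = i ∨ (d4Pair r).2.1 = i)
      (fun j _ => by
        by_cases e : j = i.swap
        · exact Or.inl (e ▸ hz)
        · refine Or.inr ?_
          rw [polar_bv, bv, Pi.single_eq_of_ne (Ne.symm e)])
      (fun j _ hj => by
        have hji : j ≠ i.swap := fun e => hj (e ▸ hz)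
        by_cases e : j = i
        · subst e
          rw [eb_self (q_bv j)]; exact one_mem _
        have hr : ∀ i j : I4, j ≠ i.swap → j ≠ i → ∃ r : Fin chevD4.nroots,
            ((d4Pair r).1 = i ∧ (d4Pair r).2.1 = j) ∨ ((d4Pair r).1 = j ∧ (d4Pair r).2.1 = i) := by
          decide +kernel
        obtain ⟨r, hr⟩ := hr i j hji e
        exact bv_pair_mem hr _ fun t => RG_mem (hr.imp (fun h => h.1) fun h => h.2) t)
    rw [← vec_eq_sum] at h
    exact h.2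
  · rintro _ ⟨r, t, hr, rfl⟩
    have hi := CG26.AutPO.D4.isLn_root (F := F) r
    rcases hr with e | e <;> subst e
    · exact eb_mem_Upt (by rw [polar_smul_right, hi.uz, smul_zero])
    · show eb 𝐐 (bv _) (_ • bv _) ∈ _
      rw [show -((d4Pair r).2.2 : F) * t = -(((d4Pair r).2.2 : F) * t) by ring,
        ← CG26.AutPO.D4.eb_swap hi]
      exact eb_mem_Upt (by rw [polar_smul_right, hi.swap.uz, smul_zero])

theorem Usp_spc {I : Finset I4} (hI : NoPair I) :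
    Usp (spc (F := F) I) = RG fun r => (d4Pair r).1 ∈ I ∧ (d4Pair r).2.1 ∈ I := by
  set H := RG (F := F) fun r => (d4Pair r).1 ∈ I ∧ (d4Pair r).2.1 ∈ I
  have hT := ts_spc (F := F) hI
  refine le_antisymm ((Subgroup.closure_le _).2 ?_) ((Subgroup.closure_le _).2 ?_)
  · have hb : ∀ i ∈ I, ∀ z ∈ spc (F := F) I, eb 𝐐 (bv i) z ∈ H := by
      intro i hi z hz
      have h := eb_sum_mem (q_bv i) I z (H := H)
        (fun j hj => Or.inr (hT.polar_eq (bv_mem_spc hi) (bv_mem_spc hj)))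
        (fun j hj _ => by
          by_cases e : j = i
          · subst e
            rw [eb_self (q_bv j)]; exact one_mem _
          have hr : ∀ i j : I4, j ≠ i.swap → j ≠ i → ∃ r : Fin chevD4.nroots,
              ((d4Pair r).1 = i ∧ (d4Pair r).2.1 = j) ∨ ((d4Pair r).1 = j ∧ (d4Pair r).2.1 = i) := by
            decide +kernel
          obtain ⟨r, hr⟩ := hr i j (fun e' => hI i hi (e' ▸ hj)) e
          refine bv_pair_mem hr _ fun t => RG_mem ?_ t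
          rcases hr with ⟨e1, e2⟩ | ⟨e1, e2⟩ <;> rw [e1, e2]
          · exact ⟨hi, hj⟩
          · exact ⟨hj, hi⟩)
      have e : z = ∑ j ∈ I, z j • bv j := by
        conv_lhs => rw [vec_eq_sum z]
        exact (Finset.sum_subset (Finset.subset_univ I) fun j _ hj => by rw [hz j hj, zero_smul]).symm
      rw [← e] at h
      exact h.2
    rintro _ ⟨u, hu, z, hz, rfl⟩
    rw [eb_swap' (hT u hu) (hT z hz) (hT.polar_eq hu hz)]
    have e : -u = ∑ j ∈ I, (-u) j • bv j := by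
      conv_lhs => rw [vec_eq_sum (-u)]
      exact (Finset.sum_subset (Finset.subset_univ I) fun j _ hj => by
        rw [Pi.neg_apply, hu j hj, neg_zero, zero_smul]).symm
    have h := eb_sum_mem (hT z hz) I (-u) (H := H)
      (fun j hj => Or.inr (hT.polar_eq hz (bv_mem_spc hj)))
      (fun j hj _ => by
        rw [eb_swap' (hT z hz) (by rw [form_smul, q_bv, mul_zero])
          (by rw [polar_smul_right, hT.polar_eq hz (bv_mem_spc hj), smul_zero]),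
          eb_smul_left (q_bv j) (by rw [polar_neg_right, hT.polar_eq (bv_mem_spc hj) hz, neg_zero])]
        exact hb j hj _ ((spc I).smul_mem _ (Submodule.neg_mem _ hz)))
    rw [← e] at h
    exact h.2
  · rintro _ ⟨r, t, ⟨h1, h2⟩, rfl⟩
    exact eb_mem_Usp (bv_mem_spc h1) ((spc I).smul_mem _ (bv_mem_spc h2))

theorem mp_tau_RG (P P' : Fin chevD4.nroots → Prop)
    (h : ∀ r, P' (CG26.AutPO.D4.rho r) ↔ P r) : mp (tau (F := F)) (RG P) = RG P' := by
  have hs : ∀ r : Fin chevD4.nroots, ∃ s, CG26.AutPO.D4.rho s = r := by decide +kernel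
  refine le_antisymm ?_ ((Subgroup.closure_le _).2 ?_)
  · rw [mp, RG, MonoidHom.map_closure, Subgroup.closure_le]
    rintro _ ⟨_, ⟨r, t, hr, rfl⟩, rfl⟩
    show tau (X r t) ∈ _
    rw [tau_X]
    exact RG_mem ((h r).2 hr) _
  · rintro _ ⟨r, t, hr, rfl⟩
    obtain ⟨s, rfl⟩ := hs r
    refine ⟨X s ((CG26.AutPO.D4.eps s : F)⁻¹ * t), RG_mem ((h s).1 hr) _, ?_⟩
    show tau (X s _) = _
    rw [tau_X, mul_inv_cancel_left₀ (eps_ne_zero s)]

/-- The solid `⟨e₀,e₁,e₂,f₃⟩`. -/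
abbrev T1 : Finset I4 := {.inl 0, .inl 1, .inl 2, .inr 3}
/-- The solid `⟨e₀,e₁,e₂,e₃⟩`. -/
abbrev T2 : Finset I4 := {.inl 0, .inl 1, .inl 2, .inl 3}
/-- The solid `⟨f₀,f₁,f₂,e₃⟩`. -/
abbrev O1 : Finset I4 := {.inr 0, .inr 1, .inr 2, .inl 3}
/-- The solid `⟨f₀,f₁,f₂,f₃⟩`. -/
abbrev O2 : Finset I4 := {.inr 0, .inr 1, .inr 2, .inr 3}
/-- The vector `e₀`. -/
abbrev e0 : I4 → F := bv (.inl 0)
/-- The vector `f₀`. -/
abbrev f0 : I4 → F := bv (.inr 0)

theorem noPairs : NoPair T1 ∧ NoPair T2 ∧ NoPair O1 ∧ NoPair O2 := by decide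

theorem tau_T : mp (tau (F := F)) (Upt e0) = Usp (spc T1) ∧
    mp (tau (F := F)) (Usp (spc T1)) = Usp (spc T2) ∧ mp (tau (F := F)) (Usp (spc T2)) = Upt e0 := by
  rw [Upt_bv, Usp_spc noPairs.1, Usp_spc noPairs.2.1]
  refine ⟨mp_tau_RG _ _ ?_, mp_tau_RG _ _ ?_, mp_tau_RG _ _ ?_⟩ <;> decide +kernel

theorem tau_O : mp (tau (F := F)) (Upt f0) = Usp (spc O1) ∧
    mp (tau (F := F)) (Usp (spc O1)) = Usp (spc O2) ∧ mp (tau (F := F)) (Usp (spc O2)) = Upt f0 := by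
  rw [Upt_bv, Usp_spc noPairs.2.2.1, Usp_spc noPairs.2.2.2]
  refine ⟨mp_tau_RG _ _ ?_, mp_tau_RG _ _ ?_, mp_tau_RG _ _ ?_⟩ <;> decide +kernel

/-! ### The three classes -/

theorem tau_pow_mod (n : ℕ) : tau (F := F) ^ n = tau ^ (n % 3) := by
  conv_lhs => rw [← Nat.div_add_mod n 3, pow_add, pow_mul, tau_cube, one_pow, one_mul]

theorem tau_pow_add (i j : Fin 3) : tau (F := F) ^ ((i + j : Fin 3) : ℕ) = tau ^ (i : ℕ) * tau ^ (j : ℕ) := by
  rw [← pow_add, tau_pow_mod ((i : ℕ) + j), Fin.val_add]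

/-- The point class and its two images. -/
def Cl (m : Fin 3) : Set (Subgroup (P8 F)) :=
  {a | ∃ p : I4 → F, 𝐐 p = 0 ∧ p ≠ 0 ∧ a = mp (tau ^ (m : ℕ)) (Upt p)}

theorem mem_Cl0 {a : Subgroup (P8 F)} : a ∈ Cl 0 ↔ ∃ p : I4 → F, 𝐐 p = 0 ∧ p ≠ 0 ∧ a = Upt p := by
  simp only [Cl, Fin.val_zero, pow_zero, mp_one, Set.mem_ofPred_eq]

theorem mp_tau_Cl {m : Fin 3} (j : Fin 3) {a : Subgroup (P8 F)} (h : a ∈ Cl m) :
    mp (tau ^ (j : ℕ)) a ∈ Cl (j + m) := by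
  obtain ⟨p, hp, hp0, rfl⟩ := h
  exact ⟨p, hp, hp0, by rw [tau_pow_add, mp_mul]⟩

theorem exists_mp_Cl (α : MulAut (P8 F)) (m : Fin 3) :
    ∃ j : Fin 3, ∀ a ∈ Cl (F := F) m, mp α a ∈ Cl j := by
  obtain ⟨i, s, hs⟩ := exists_decomp (α * tau ^ (m : ℕ))
  refine ⟨i, ?_⟩
  rintro _ ⟨p, hp, hp0, rfl⟩
  refine ⟨s.g p, by rw [s.form', hp, map_zero, mul_zero], fun e => hp0 (s.g.map_eq_zero_iff.1 e), ?_⟩
  rw [← mp_mul, ← mp_sim_Upt s hp, ← mp_mul, hs, mul_inv_cancel_left]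

theorem exists_om_map {p q : I4 → F} (hp : 𝐐 p = 0) (hp0 : p ≠ 0) (hq : 𝐐 q = 0) (hq0 : q ≠ 0) :
    ∃ h : Om 𝐐, h.1.1 p = q := by
  haveI := (setup4 (F := F)).fin
  haveI := (setup4 (F := F)).fd
  obtain ⟨g, hg, e⟩ := OrthStab.exists_eich_map_of_form_eq (setup4 (F := F)).nd
    (le_trans (by norm_num) (setup4 (F := F)).dim) hp0 hq0 (by rw [hp, hq])
  exact ⟨⟨g, hg⟩, e⟩

theorem Upt_ne_T {p : I4 → F} (hp : 𝐐 p = 0) (hp0 : p ≠ 0) {I : Finset I4} (hI : NoPair I)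
    {a b c d : I4} (ha : a ∈ I) (hb : b ∈ I) (hc : c ∈ I) (hd : d ∈ I)
    (hne : a ≠ b ∧ c ≠ d ∧ a ≠ c ∧ a ≠ d ∧ b ≠ c ∧ b ≠ d) : Upt p ≠ Usp (spc I) := by
  intro h
  have key : ∀ {i j : I4}, i ∈ I → j ∈ I → i ≠ j →
      p ∈ Submodule.span F ({bv i, bv j} : Set (I4 → F)) := by
    intro i j hi hj hij
    have hl : IsLn 𝐐 (bv i) (bv (F := F) j) :=
      CG26.AutPO.D4.isLn_bv (fun e => hI i hi (e ▸ hj)) (Ne.symm hij)
    obtain ⟨w, hw, e⟩ := (mem_Upt hp).1 (h ▸ eb_mem_Usp (bv_mem_spc hi) (bv_mem_spc hj))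
    rw [span_eq_of_eb_eq (q_bv i) hl.uz hl.u0 hl.ind hp hw hp0 (isLn_of_eb_ne_one hp (e ▸ eb_ne_one hl)) e]
    exact Submodule.subset_span (Set.mem_insert _ _)
  obtain ⟨s, t, e⟩ := Submodule.mem_span_pair.1 (key ha hb hne.1)
  obtain ⟨s', t', e'⟩ := Submodule.mem_span_pair.1 (key hc hd hne.2.1)
  refine hp0 (funext fun i => ?_)
  have h1 := congrFun e i
  have h2 := congrFun e' i
  simp [Pi.single_apply] at h1 h2 ⊢
  by_cases i1 : i = a
  · subst i1; simp [hne.2.2.1, hne.2.2.2.1] at h2; exact h2.symm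
  by_cases i2 : i = b
  · subst i2; simp [hne.2.2.2.2.1, hne.2.2.2.2.2] at h2; exact h2.symm
  simp [i1, i2] at h1; exact h1.symm

theorem Cl_unique {a : Subgroup (P8 F)} {m j : Fin 3} (h : a ∈ Cl m) (h' : a ∈ Cl j) : m = j := by
  obtain ⟨p, hp, hp0, rfl⟩ := h
  obtain ⟨q, hq, hq0, e⟩ := h'
  by_contra hne
  obtain ⟨g, hg⟩ := exists_om_map (F := F) (q_bv (.inl 0)) (bv_ne_zero _) hq hq0
  obtain ⟨i, hi, rfl⟩ : ∃ i : Fin 3, i ≠ 0 ∧ j = m + i :=
    ⟨j - m, sub_ne_zero.2 (Ne.symm hne), by abel⟩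
  rw [tau_pow_add, mp_mul] at e
  have e' := mp_injective _ e
  rw [show Upt q = Upt (g.1.1 e0) by rw [← hg], ← mp_conj_Upt g (q_bv _), ← mp_mul] at e'
  have hcomm : tau ^ (i : ℕ) * MulAut.conj (piO 𝐐 g) =
      MulAut.conj ((tau ^ (i : ℕ)) (piO 𝐐 g)) * tau ^ (i : ℕ) :=
    MulEquiv.ext fun y => by simp [MulAut.mul_apply, MulAut.conj_apply, map_mul, map_inv]
  rw [hcomm, mp_mul] at e'
  obtain ⟨k, hk⟩ := piO_surjective ((tau ^ (i : ℕ)) (piO 𝐐 g))
  rw [← hk] at e'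
  have e2 := congrArg (mp (MulAut.conj (piO 𝐐 k⁻¹))) e'
  rw [← mp_mul, ← map_mul, ← map_mul, inv_mul_cancel, map_one, map_one, mp_one,
    mp_conj_Upt _ hp] at e2
  have hp' : 𝐐 (k⁻¹.1.1 p) = 0 := by rw [map_form, hp]
  have hp0' : k⁻¹.1.1 p ≠ 0 := fun e => hp0 (LinearEquiv.map_eq_zero_iff _ |>.1 e)
  have hT : mp (tau ^ (i : ℕ)) (Upt (e0 (F := F))) = Usp (spc T1) ∨
      mp (tau ^ (i : ℕ)) (Upt (e0 (F := F))) = Usp (spc T2) := by
    fin_cases i
    · exact absurd rfl hi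
    · exact Or.inl (by show mp (tau ^ 1) _ = _; rw [pow_one, tau_T.1])
    · exact Or.inr (by show mp (tau ^ 2) _ = _; rw [pow_two, mp_mul, tau_T.1, tau_T.2.1])
  rcases hT with hT | hT
  · exact Upt_ne_T hp' hp0' noPairs.1 (a := .inl 0) (b := .inl 1) (c := .inl 2) (d := .inr 3)
      (by decide) (by decide) (by decide) (by decide) (by decide) (e2.trans hT)
  · exact Upt_ne_T hp' hp0' noPairs.2.1 (a := .inl 0) (b := .inl 1) (c := .inl 2) (d := .inl 3)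
      (by decide) (by decide) (by decide) (by decide) (by decide) (e2.trans hT)

theorem W_mem :
    Upt e0 ∈ Cl (F := F) 0 ∧ Usp (spc T1) ∈ Cl (F := F) 1 ∧ Usp (spc T2) ∈ Cl (F := F) 2 := by
  have h0 : Upt e0 ∈ Cl (F := F) 0 := mem_Cl0.2 ⟨_, q_bv _, bv_ne_zero _, rfl⟩
  refine ⟨h0, ?_, ?_⟩
  · have := mp_tau_Cl 1 h0
    rwa [show ((1 : Fin 3) : ℕ) = 1 from rfl, pow_one, tau_T.1] at this
  · have := mp_tau_Cl 2 h0
    rwa [show ((2 : Fin 3) : ℕ) = 2 from rfl, pow_two, mp_mul, tau_T.1, tau_T.2.1] at this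

theorem O_mem :
    Upt f0 ∈ Cl (F := F) 0 ∧ Usp (spc O1) ∈ Cl (F := F) 1 ∧ Usp (spc O2) ∈ Cl (F := F) 2 := by
  have h0 : Upt f0 ∈ Cl (F := F) 0 := mem_Cl0.2 ⟨_, q_bv _, bv_ne_zero _, rfl⟩
  refine ⟨h0, ?_, ?_⟩
  · have := mp_tau_Cl 1 h0
    rwa [show ((1 : Fin 3) : ℕ) = 1 from rfl, pow_one, tau_O.1] at this
  · have := mp_tau_Cl 2 h0
    rwa [show ((2 : Fin 3) : ℕ) = 2 from rfl, pow_two, mp_mul, tau_O.1, tau_O.2.1] at this

/-- Semisimilitudes are the stabiliser of the point class. -/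
theorem mem_simRange_of_fix {α : MulAut (P8 F)} {a : Subgroup (P8 F)} (ha : a ∈ Cl 0)
    (h : mp α a ∈ Cl 0) : α ∈ simRange 𝐐 := by
  obtain ⟨i, s, hs⟩ := exists_decomp α
  obtain ⟨p, hp, hp0, rfl⟩ := mem_Cl0.1 ha
  have hα : α = tau ^ (i : ℕ) * s.aut := by rw [hs, mul_inv_cancel_left]
  have h0 : mp s.aut (Upt p) ∈ Cl 0 := mem_Cl0.2 ⟨s.g p, by rw [s.form', hp, map_zero, mul_zero],
    fun e => hp0 (s.g.map_eq_zero_iff.1 e), mp_sim_Upt s hp⟩
  have h2 := mp_tau_Cl i h0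
  rw [← mp_mul, ← hα, add_zero] at h2
  obtain rfl : (0 : Fin 3) = i := Cl_unique h h2
  exact ⟨s, by simpa using hs⟩

end Cfsg.Agent.PlusBal.Tri
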