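import Cfsg.Agent.PlusBal.Fields
import Cfsg.Agent.PlusBal.Graph
import Cfsg.Agent.FieldAutGen.PlusTriality

/-!
Semisimilarities of `PΩ⁺_{2m}`, `m ≥ 4`, of prime order outside the inner-diagonal group: local balance
(helper11).
-/

set_option autoImplicit false
set_option maxHeartbeats 1600000

namespace Cfsg.Agent.PlusBal

open Matrix QuadraticMap
open Cfsg.Agent.AutPSL (fieldMap scalarGL Induced act normGL)
open Cfsg.Agent.FieldAutGen Cfsg.Agent.FieldAutGen.Orth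
open Cfsg.Agent.FieldAutGen.Minus (Idx qf fixer)
open Cfsg.Agent.CG26.PSpLB (Fix mem_fix)
open Cfsg.Agent.LocalEven61.POMinusBalance (PG pi ro sim_gram)

universe u

variable {F : Type u} [Field F] [Fintype F]

theorem det_glT {ι ι' : Type} [Fintype ι] [DecidableEq ι] [Fintype ι'] [DecidableEq ι']
    (T : (ι → F) ≃ₗ[F] (ι' → F)) (g : GL ι F) :
    (glT T g : Matrix ι' ι' F).det = (g : Matrix ι ι F).det := by
  show (LinearMap.toMatrix' (T.toLinearMap ∘ₗ Matrix.toLin' (g : Matrix ι ι F) ∘ₗ T.symm.toLinearMap)).det = _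
  rw [LinearMap.det_toMatrix', LinearMap.det_conj, LinearMap.det_toLin']

theorem cls_iff_det {m : ℕ} (hm : 3 ≤ m) (h2 : (2 : F) ≠ 0) {g : GL (Fin m ⊕ Fin m) F}
    (hg : g ∈ Plus.Sim m F) {μ : Fˣ}
    (hμ : ∀ v, Plus.qf m F ((g : Matrix (Fin m ⊕ Fin m) (Fin m ⊕ Fin m) F) *ᵥ v) = (μ : F) * Plus.qf m F v) :
    Plus.cls hm ⟨g, hg⟩ = 1 ↔ (g : Matrix (Fin m ⊕ Fin m) (Fin m ⊕ Fin m) F).det = (μ : F) ^ m := by
  have hm0 : 0 < m := by omega
  have hm' : mult (Plus.qf m F) (Plus.qf_e1 hm0) (⟨g, hg⟩ : Plus.Sim m F) = μ :=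
    Units.ext (mult_eq _ _ _ hμ)
  have hδ : ((Plus.delta m F μ : GL (Fin m ⊕ Fin m) F) : Matrix (Fin m ⊕ Fin m) (Fin m ⊕ Fin m) F).det = (μ : F) ^ m := by
    rw [show ((Plus.delta m F μ : GL (Fin m ⊕ Fin m) F) : Matrix (Fin m ⊕ Fin m) (Fin m ⊕ Fin m) F) =
      Matrix.diagonal fun j => (((Sum.elim (fun _ => μ) fun _ => 1) j : Fˣ) : F) from rfl,
      Matrix.det_diagonal, Fintype.prod_sum_type]
    simp
  set U := Plus.isoPart hm0 (⟨g, hg⟩ : Plus.Sim m F) with hU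
  have hUd : (Reflections.mat U).det * (μ : F) ^ m = (g : Matrix (Fin m ⊕ Fin m) (Fin m ⊕ Fin m) F).det := by
    rw [← hδ, ← Matrix.det_mul]
    congr 1
    show ((U : GL (Fin m ⊕ Fin m) F) : Matrix (Fin m ⊕ Fin m) (Fin m ⊕ Fin m) F) * _ = _
    rw [← Units.val_mul, Plus.isoPart_coe, hm', inv_mul_cancel_right]
  rw [Plus.cls_def, Plus.cls0, MonoidHom.comp_apply, Forms59.classHom_eq_one_iff_det h2, Plus.mat_toP]
  constructor
  · intro h1
    rw [← hUd, h1, one_mul]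
  · intro h1
    exact mul_right_cancel₀ (pow_ne_zero _ μ.ne_zero) ((hUd.trans h1).trans (one_mul _).symm)

theorem cls_normGL {m : ℕ} (hm : 3 ≤ m) {g : GL (Fin m ⊕ Fin m) F} (hg : g ∈ Plus.Sim m F)
    (σ : F ≃+* F) : ∀ j : ℕ, ∃ h : normGL σ g j ∈ Plus.Sim m F,
      Plus.cls hm ⟨_, h⟩ = Plus.cls hm ⟨g, hg⟩ ^ j
  | 0 => ⟨one_mem _, by rw [pow_zero]; exact map_one _⟩
  | j + 1 => by
    obtain ⟨h, he⟩ := cls_normGL hm hg σ j
    refine ⟨mul_mem hg (Plus.fmap_sim (by omega) h σ), ?_⟩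
    rw [pow_succ', ← he, ← Plus.cls_fieldMap hm σ ⟨_, h⟩, ← map_mul]
    exact congrArg _ (Subtype.ext rfl)

/-- An involution induced by a similarity outside the class-preserving group. -/
theorem graph_core {k : ℕ} (hk : 3 ≤ k) (h2 : (2 : F) ≠ 0)
    {x : MulAut (Cfsg.POmega F (Cfsg.quadFormPlus (k + 1) F))}
    {g : GL (Fin (k + 1) ⊕ Fin (k + 1)) F} (hg : g ∈ Plus.Sim (k + 1) F)
    (hc : Plus.cls (show 3 ≤ k + 1 by omega) ⟨g, hg⟩ ≠ 1)
    (hx : Induced (rho (Cfsg.quadFormPlus (k + 1) F)) g 1 x) (ho : orderOf x = 2)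
    (A : Subgroup (MulAut (Cfsg.POmega F (Cfsg.quadFormPlus (k + 1) F))))
    (hinn : ∀ z, MulAut.conj z ∈ A) :
    Cfsg.pPrimeCore 2 ↥(A ⊓ Subgroup.centralizer {x}) = ⊥ := by
  classical
  have hd : (1 : F) + 2 * 0 ≠ 0 := by simp
  have ht : (0 : F) * 0 + 1 * 0 + 0 = 0 := by simp
  have hn := split_nondeg (k := k) (1 : F) 0 0 hd ht
  have hT := splitT_form (k := k) (1 : F) 0 0 hd ht
  obtain ⟨θ, hθ⟩ := exists_compat _ hT
  obtain ⟨g', hg', hg's, hx'⟩ := hθ.transfer hT (Plus.isSemi_sim hg 1) hx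
  have hgT : g' = glT (splitT (k := k) (1 : F) 0 hd) g := gl_ext fun w => by
    obtain ⟨v, rfl⟩ := (splitT (k := k) (1 : F) 0 hd).surjective w
    exact (hg' v).trans (glT_mulVec _ g v).symm
  have ho' : orderOf (MulAut.congr θ x) = 2 := by rw [MulEquiv.orderOf_eq, ho]
  obtain ⟨μ, hμ⟩ := id hg's
  have hμ' : ∀ v : Idx k → F, qf k F 1 0 ((g' : Matrix (Idx k) (Idx k) F) *ᵥ v) = (μ : F) * qf k F 1 0 v :=
    fun v => hμ v
  have hμp : ∀ v, Plus.qf (k + 1) F ((g : Matrix (Fin (k + 1) ⊕ Fin (k + 1)) (Fin (k + 1) ⊕ Fin (k + 1)) F) *ᵥ v) =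
      (μ : F) * Plus.qf (k + 1) F v := fun v => by
    show Cfsg.quadFormPlus (k + 1) F _ = (μ : F) * Cfsg.quadFormPlus (k + 1) F v
    rw [← hT, ← hT v, ← glT_mulVec, ← hgT]
    exact hμ' _
  have hdetg : (g' : Matrix (Idx k) (Idx k) F).det =
      (g : Matrix (Fin (k + 1) ⊕ Fin (k + 1)) (Fin (k + 1) ⊕ Fin (k + 1)) F).det := by rw [hgT, det_glT]
  have hne : (g' : Matrix (Idx k) (Idx k) F).det ≠ (μ : F) ^ (k + 1) := fun e =>
    hc ((cls_iff_det _ h2 hg hμp).2 (hdetg ▸ e))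
  obtain ⟨-, l, hl⟩ := norm_scalar hk hn hg's hx' ho'
  have hsq : (g' : Matrix (Idx k) (Idx k) F) * (g' : Matrix (Idx k) (Idx k) F) = (l : F) • 1 := by
    have := congrArg (fun y : GL (Idx k) F => (y : Matrix (Idx k) (Idx k) F)) hl
    simpa [normGL, AutPSL.fieldMap_one, AutPSL.scalarGL_coe, Matrix.smul_one_eq_diagonal] using this
  have hμl : (μ : F) * μ = (l : F) * l := by
    have h1 := hμ' ((g' : Matrix (Idx k) (Idx k) F) *ᵥ Minus.e1 k F)
    rw [mulVec_mulVec, hsq, smul_mulVec, one_mulVec, QuadraticMap.map_smul, hμ', Minus.qf_e1,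
      smul_eq_mul, mul_one, mul_one] at h1
    linear_combination -h1
  have hμ1 : (μ : F) = l := by
    rcases mul_self_eq_mul_self_iff.1 hμl with h | h
    · exact h
    · exact absurd (by rw [det_of_neg hk h2 hn hsq (fun v => by rw [hμ', h]), h]) hne
  have hdet : (g' : Matrix (Idx k) (Idx k) F).det = -((l : F) ^ (k + 1)) := by
    have hd := congrArg Matrix.det hsq
    rw [Matrix.det_mul, Matrix.det_smul, Matrix.det_one, mul_one,
      show Fintype.card (Idx k) = (k + 1) + (k + 1) by simp; omega, pow_add] at hd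
    rcases mul_self_eq_mul_self_iff.1 hd with h | h
    · exact absurd (by rw [h, hμ1]) hne
    · exact h
  obtain ⟨g₀, l₀, hsq₀, hgv₀, hdet₀, hnorm, hx₀⟩ : ∃ (g₀ : GL (Idx k) F) (l₀ : Fˣ),
      (g₀ : Matrix (Idx k) (Idx k) F) * (g₀ : Matrix (Idx k) (Idx k) F) = (l₀ : F) • 1 ∧
      (∀ v : Idx k → F, qf k F 1 0 ((g₀ : Matrix (Idx k) (Idx k) F) *ᵥ v) = (l₀ : F) * qf k F 1 0 v) ∧
      (g₀ : Matrix (Idx k) (Idx k) F).det = -((l₀ : F) ^ (k + 1)) ∧ (IsSquare (l₀ : F) → (l₀ : F) = 1) ∧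
      Induced (ro k F 1 0) g₀ 1 (MulAut.congr θ x) := by
    by_cases hs : IsSquare (l : F)
    · obtain ⟨t, ht⟩ := hs
      have ht0 : t ≠ 0 := fun e => l.ne_zero (by rw [ht, e, mul_zero])
      have hmat : ((g' * scalarGL (Idx k) (Units.mk0 t ht0)⁻¹ : GL (Idx k) F) : Matrix (Idx k) (Idx k) F) =
          t⁻¹ • (g' : Matrix (Idx k) (Idx k) F) := by
        rw [Units.val_mul, AutPSL.scalarGL_coe, Matrix.mul_smul, Matrix.mul_one, Units.val_inv_eq_inv_val,
          Units.val_mk0]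
      refine ⟨g' * scalarGL (Idx k) (Units.mk0 t ht0)⁻¹, 1, ?_, ?_, ?_, fun _ => rfl, ?_⟩
      · rw [hmat, Matrix.smul_mul, Matrix.mul_smul, smul_smul, hsq, smul_smul, ht, Units.val_one]
        congr 1
        field_simp
      · intro v
        rw [hmat, smul_mulVec, QuadraticMap.map_smul, hμ', hμ1, ht, smul_eq_mul, Units.val_one, one_mul]
        field_simp
      · rw [hmat, Matrix.det_smul, hdet, ht, Units.val_one, one_pow,
          show Fintype.card (Idx k) = 2 * (k + 1) by simp; omega, pow_mul, mul_neg, ← mul_pow,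
          show t⁻¹ ^ 2 * (t * t) = 1 by field_simp, one_pow]
      · refine fun s s' hs => hx' s s' ?_
        rw [hs, AutPSL.act_apply, AutPSL.act_apply, _root_.mul_inv_rev, AutPSL.fieldMap_one]
        rw [mul_assoc g' (scalarGL _ _), AutPSL.scalarGL_mul_comm]
        group
    · exact ⟨g', l, hsq, fun v => by rw [hμ', hμ1], hdet, fun h => absurd h hs, hx'⟩
  obtain ⟨L, _, _, i, s, ⟨S⟩⟩ := exists_split_data hk h2 hn _ (l₀ : F) l₀.ne_zero hsq₀
    (sim_gram hgv₀) hdet₀ hnorm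
  let A' := A.map (MulAut.congr θ).toMonoidHom
  have hinn' : ∀ z : PG k F 1 0, MulAut.conj z ∈ A' := fun z => by
    refine ⟨MulAut.conj (θ.symm z), hinn _, MulEquiv.ext fun y => ?_⟩
    show θ (θ.symm z * θ.symm y * (θ.symm z)⁻¹) = z * y * z⁻¹
    rw [map_mul, map_mul, map_inv, θ.apply_symm_apply, θ.apply_symm_apply]
  have hmain := core_of_split hk hn h2 hsq₀ hgv₀ hdet₀ S hx₀ ho' (fun β hβ => by
    obtain ⟨g₁, τ, hg₁, hb₁⟩ := semi_of_comm (show 4 ≤ k + 1 by omega) hg hc hx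
      (β := (MulAut.congr θ).symm β) ((MulAut.congr θ).injective (by
        rw [map_mul, map_mul, MulEquiv.apply_symm_apply]; exact hβ))
    obtain ⟨g₂, -, hg₂, hb₂⟩ := hθ.transfer hT hg₁ hb₁
    rw [MulEquiv.apply_symm_apply] at hb₂
    exact ⟨g₂, τ, hg₂, hb₂⟩) A' hinn'
  let e : ↥(A ⊓ Subgroup.centralizer ({x} : Set (MulAut (Cfsg.POmega F (Cfsg.quadFormPlus (k + 1) F))))) ≃*
      ↥(A' ⊓ Subgroup.centralizer ({MulAut.congr θ x} : Set (MulAut (PG k F 1 0)))) :=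
    ((MulAut.congr θ).subgroupMap _).trans (MulEquiv.subgroupCongr (by
      ext β
      constructor
      · rintro ⟨γ, ⟨hγ, h⟩, rfl⟩
        refine ⟨⟨γ, hγ, rfl⟩, Subgroup.mem_centralizer_singleton_iff.2 ?_⟩
        have h' := congrArg (MulAut.congr θ) (Subgroup.mem_centralizer_singleton_iff.1 h)
        rw [map_mul, map_mul] at h'
        exact h'
      · rintro ⟨⟨γ, hγ, rfl⟩, h⟩
        refine ⟨γ, ⟨hγ, Subgroup.mem_centralizer_singleton_iff.2 ?_⟩, rfl⟩
        apply (MulAut.congr θ).injective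
        rw [map_mul, map_mul]
        exact Subgroup.mem_centralizer_singleton_iff.1 h))
  rwa [← Thompson.map_pPrimeCore_equiv (p := 2) e, Subgroup.map_eq_bot_iff_of_injective _ e.injective] at hmain

/-- A field automorphism of order two fixes a subgroup of even order. -/
theorem even_of_fieldClass {k : ℕ} (hk : 3 ≤ k) (h2 : (2 : F) ≠ 0)
    {x : MulAut (Cfsg.POmega F (Cfsg.quadFormPlus (k + 1) F))} (ho : orderOf x = 2)
    (hF : Cfsg.IsFieldAutClassPOmega (Cfsg.quadFormPlus (k + 1) F) x) : 2 ∣ Nat.card (Fix x) := by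
  obtain ⟨α, φ, σ, -, hφ, he⟩ := hF
  have hφ' : Induced (rho (Cfsg.quadFormPlus (k + 1) F)) 1 σ φ := isFieldAut_iff.1 hφ
  have hS := Plus.setting (F := F) (show 3 ≤ k + 1 by omega)
  have hσ : orderOf σ = 2 := by
    rw [← orderOf_std hS (Subgroup.mem_top _) hφ', ← he, AutPSL.orderOf_conj', ho]
  haveI := hS.fin
  haveI : Fact (Nat.Prime 2) := ⟨Nat.prime_two⟩
  have h := (field_core hk hσ (fun _ => h2) hφ' ⊤ fun _ => Subgroup.mem_top _).2 rfl
  rwa [← he, LocalEven61.Balance.card_fix_conj] at h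

/-- The reflection interchanging the last pair. -/
theorem exists_swap {k : ℕ} : ∃ t : GL (Fin (k + 1) ⊕ Fin (k + 1)) F,
    ∃ ht : t ∈ Plus.Sim (k + 1) F, (∀ hm, Plus.cls hm ⟨t, ht⟩ ≠ 1) ∧ t * t = 1 ∧
      (∀ σ : F ≃+* F, fieldMap σ t = t) ∧
      ∀ v : Fin (k + 1) ⊕ Fin (k + 1) → F, (t : Matrix (Fin (k + 1) ⊕ Fin (k + 1)) (Fin (k + 1) ⊕ Fin (k + 1)) F) *ᵥ v =
        fun l => if l = .inl (Fin.last k) then v (.inr (Fin.last k)) else
          if l = .inr (Fin.last k) then v (.inl (Fin.last k)) else v l := by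
  let w : Fin (k + 1) ⊕ Fin (k + 1) → F := Pi.single (.inl (Fin.last k)) 1 - Pi.single (.inr (Fin.last k)) 1
  have hw : Plus.qf (k + 1) F w = -1 := by
    simp [Plus.qf_apply, Cfsg.quadFormPlus, w, Pi.single_apply, Fin.sum_univ_castSucc]
  have hw0 : Plus.qf (k + 1) F w ≠ 0 := by rw [hw]; exact neg_ne_zero.2 one_ne_zero
  let U := Reflections.refl (Plus.qf (k + 1) F) w
  refine ⟨(U : GL (Fin (k + 1) ⊕ Fin (k + 1)) F), iso_le_sim _ U.2, fun hm h => ?_, ?_, fun σ => ?_, fun v => ?_⟩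
  · rw [Plus.cls_refl hm hw0 rfl] at h
    exact absurd h (by decide)
  · have hUU : U * U = 1 := by
      show Reflections.refl (Plus.qf (k + 1) F) w * Reflections.refl (Plus.qf (k + 1) F) w = 1
      nth_rewrite 2 [← Reflections.refl_inv hw0]
      exact mul_inv_cancel U
    rw [← Subgroup.coe_mul, hUU, OneMemClass.coe_one]
  · refine Units.ext ?_
    show (Reflections.mat U).map σ = Reflections.mat U
    rw [Reflections.mat_refl hw0]
    exact reflection_fixed (Plus.qf_sigma σ) fun j => by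
      show σ ((Pi.single (.inl (Fin.last k)) 1 - Pi.single (.inr (Fin.last k)) 1 : Fin (k + 1) ⊕ Fin (k + 1) → F) j) = _
      rw [Pi.sub_apply, Pi.single_apply, Pi.single_apply]
      split_ifs <;> simp_all [w, Pi.single_apply]
  · show Reflections.act U v = _
    rw [Reflections.act_refl hw0, hw]
    have hp : polar ⇑(Plus.qf (k + 1) F) w v = v (.inr (Fin.last k)) - v (.inl (Fin.last k)) := by
      simp [polar, Plus.qf_apply, Cfsg.quadFormPlus, w, Pi.single_apply, Fin.sum_univ_castSucc]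
      ring
    rw [hp]
    funext l
    rcases l with l | l <;> refine Fin.lastCases ?_ (fun j => ?_) l <;> simp [w, Pi.single_apply]

/-- An involution standard in coordinates split over the fixed field only after extension. -/
theorem twisted_core {k : ℕ} (hk : 3 ≤ k) (h2 : (2 : F) ≠ 0) {σ : F ≃+* F} (hσ : orderOf σ = 2)
    {t : GL (Fin (k + 1) ⊕ Fin (k + 1)) F} (htS : t ∈ Plus.Sim (k + 1) F)
    (htv : ∀ v : Fin (k + 1) ⊕ Fin (k + 1) → F, (t : Matrix (Fin (k + 1) ⊕ Fin (k + 1)) (Fin (k + 1) ⊕ Fin (k + 1)) F) *ᵥ v =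
        fun l => if l = .inl (Fin.last k) then v (.inr (Fin.last k)) else
          if l = .inr (Fin.last k) then v (.inl (Fin.last k)) else v l)
    {y : MulAut (Cfsg.POmega F (Cfsg.quadFormPlus (k + 1) F))}
    (hy : Induced (rho (Cfsg.quadFormPlus (k + 1) F)) t σ y)
    (A : Subgroup (MulAut (Cfsg.POmega F (Cfsg.quadFormPlus (k + 1) F))))
    (hinn : ∀ z, MulAut.conj z ∈ A) :
    Cfsg.pPrimeCore 2 ↥(A ⊓ Subgroup.centralizer {y}) = ⊥ := by
  classical
  haveI : Fact (Nat.Prime 2) := ⟨Nat.prime_two⟩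
  letI : Fintype (fixField σ) := Fintype.ofFinite _
  obtain ⟨ζ, hζ⟩ := GLSemi.exists_no_root (F := fixField σ)
  have hcard : Fintype.card F = Fintype.card (fixField σ) ^ 2 := by
    have h1 := AutPSL.card_fixed_pow σ
    rw [hσ] at h1
    rw [← Nat.card_eq_fintype_card, ← Nat.card_eq_fintype_card, ← h1]
    exact congrArg (· ^ 2) (Nat.card_congr (Equiv.subtypeEquivRight fun _ => Iff.rfl))
  obtain ⟨D, hD⟩ := isSquare_of_quadratic h2 (fixField σ).subtype hcard (1 - 4 * ζ)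
  replace hD : 1 - 4 * (ζ : F) = D * D := by
    rw [map_sub, map_one, map_mul, map_ofNat] at hD
    exact hD
  set r : F := (-1 + D) / 2 with hr
  have hr0 : r * r + 1 * r + (ζ : F) = 0 := by
    rw [hr]; field_simp; linear_combination -hD
  have hσr : σ r = -1 - r := by
    have h1 : σ r * σ r + σ r + (ζ : F) = 0 := by
      have := congrArg σ hr0
      rw [map_add, map_add, map_mul, map_mul, map_one, map_zero, one_mul, fixField_fixed] at this
      exact this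
    have h3 : (σ r - r) * (σ r - (-1 - r)) = 0 := by linear_combination h1 - hr0
    refine sub_eq_zero.1 ((mul_eq_zero.1 h3).resolve_left fun e => ?_)
    exact hζ ⟨r, sub_eq_zero.1 e⟩ (Subtype.ext (by push_cast; linear_combination hr0))
  have hd : (1 : F) + 2 * r ≠ 0 := fun e => by
    have hrr : σ r = r := by rw [hσr]; linear_combination -e
    exact hζ ⟨r, hrr⟩ (Subtype.ext (by push_cast; linear_combination hr0))
  have hT := splitT_form (k := k) (1 : F) (ζ : F) r hd hr0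
  obtain ⟨θ, hθ⟩ := exists_compat _ hT
  have hσm : σ ∈ fixer (1 : F) (ζ : F) := ⟨map_one σ, fixField_fixed ζ⟩
  obtain ⟨g', hg', -, hb⟩ := hθ.transfer hT (Plus.isSemi_sim htS σ) hy
  have hg1 : g' = 1 := gl_ext fun w => by
    obtain ⟨v, rfl⟩ : ∃ v, w = σ ∘ splitT (k := k) (1 : F) r hd v := by
      refine ⟨(splitT (k := k) (1 : F) r hd).symm (σ.symm ∘ w), ?_⟩
      rw [LinearEquiv.apply_symm_apply]
      exact funext fun l => (σ.apply_symm_apply _).symm
    rw [hg', htv]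
    simp only [Units.val_one, one_mulVec]
    funext l
    rcases l with (l | l) | l
    · show (if (Sum.inl l.castSucc : Fin (k + 1) ⊕ Fin (k + 1)) = _ then _ else _) = σ (v (.inl l.castSucc))
      simp [Fin.ext_iff, l.isLt.ne]
    · show (if (Sum.inr l.castSucc : Fin (k + 1) ⊕ Fin (k + 1)) = _ then _ else _) = σ (v (.inr l.castSucc))
      simp [Fin.ext_iff, l.isLt.ne]
    · have hd' : (1 : F) + 2 * σ r ≠ 0 := by
        intro e
        rw [hσr] at e
        exact hd (by linear_combination -e)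
      fin_cases l
      · simp [(splitT_inr (1 : F) r hd _).1, map_add, map_mul, map_div₀, map_sub, map_one, map_ofNat]
        rw [hσr] at hd' ⊢
        have hd3 : (1 : F) + r * 2 ≠ 0 := by rwa [mul_comm]
        field_simp
        ring
      · simp [(splitT_inr (1 : F) r hd _).2, map_div₀, map_sub, map_add, map_mul, map_one, map_ofNat]
        rw [hσr] at hd' ⊢
        field_simp
        ring
  subst hg1
  obtain ⟨hcore, heven⟩ := std_core hk hd hr0 hθ hσm hσ (by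
    obtain ⟨j, rfl⟩ : ∃ j, k = j + 2 := ⟨k - 2, by omega⟩
    exact (UnitaryOrthogonal.pomega_minus (F := fixField σ)
      (Forms59.anisotropic_of_no_root ζ hζ) j).1) (fun _ => h2) hb A hinn
  by_contra hne
  exact (Nat.Prime.coprime_iff_not_dvd Nat.prime_two).1 (hcore.1 hne) (heven rfl)

/-- Semisimilarities of prime order outside the inner-diagonal group. -/
theorem semi_case {k : ℕ} (hk : 3 ≤ k) {r : ℕ} [Fact r.Prime] [CharP F r] {p : ℕ} [Fact p.Prime]
    (hpr : p ≠ r) (x : MulAut (Cfsg.POmega F (Cfsg.quadFormPlus (k + 1) F))) (hord : orderOf x = p)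
    (hnot : ¬ Cfsg.IsInnerDiagonalAutPOmegaPlus (k + 1) x)
    (hsemi : IsSemiAut (Cfsg.quadFormPlus (k + 1) F) x)
    (A : Subgroup (MulAut (Cfsg.POmega F (Cfsg.quadFormPlus (k + 1) F))))
    (hinn : ∀ z, MulAut.conj z ∈ A) :
    Cfsg.pPrimeCore p ↥(A ⊓ Subgroup.centralizer {x}) ≠ ⊥ ↔
      (Cfsg.IsFieldAutClassPOmega (Cfsg.quadFormPlus (k + 1) F) x ∧ Nat.Coprime p (Nat.card (Fix x))) := by
  classical
  have hp : p.Prime := Fact.out
  have hm3 : 3 ≤ k + 1 := by omega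
  haveI : Nonempty (Fin (k + 1) ⊕ Fin (k + 1)) := ⟨.inl 0⟩
  have h2 : p = 2 → (2 : F) ≠ 0 := by
    intro e h
    have h' : ((2 : ℕ) : F) = 0 := by exact_mod_cast h
    rw [CharP.cast_eq_zero_iff F r, Nat.dvd_prime Nat.prime_two] at h'
    rcases h' with h' | h'
    · exact (Fact.out : r.Prime).ne_one h'
    · exact hpr (e.trans h'.symm)
  have hS := Plus.setting (F := F) hm3
  haveI := hS.fin
  haveI : Finite (Cfsg.POmega F (Cfsg.quadFormPlus (k + 1) F)) := Quotient.finite _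
  have rhs_false : p = 2 → ¬ (Cfsg.IsFieldAutClassPOmega (Cfsg.quadFormPlus (k + 1) F) x ∧
      Nat.Coprime p (Nat.card (Fix x))) := by
    rintro rfl ⟨hF, hcop⟩
    exact (Nat.Prime.coprime_iff_not_dvd Nat.prime_two).1 hcop (even_of_fieldClass hk (h2 rfl) hord hF)
  have bot_case : p = 2 → Cfsg.pPrimeCore p ↥(A ⊓ Subgroup.centralizer {x}) = ⊥ →
      (Cfsg.pPrimeCore p ↥(A ⊓ Subgroup.centralizer {x}) ≠ ⊥ ↔
        (Cfsg.IsFieldAutClassPOmega (Cfsg.quadFormPlus (k + 1) F) x ∧ Nat.Coprime p (Nat.card (Fix x)))) :=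
    fun e h => ⟨fun hne => absurd h hne, fun hr => absurd hr (rhs_false e)⟩
  obtain ⟨g, σ, hg, hx⟩ := hsemi
  have hgS : g ∈ Plus.Sim (k + 1) F := Plus.semi_mem_sim hg
  obtain ⟨hgn, hxn⟩ := Plus.induced_pow hm3 hS hgS hx p
  rw [← hord, pow_orderOf_eq_one, hord] at hxn
  obtain ⟨hσp, c, hc⟩ := Plus.eq_one_sim hm3 hgn hxn
  have hclsp : Plus.cls hm3 ⟨g, hgS⟩ ^ p = 1 := by
    obtain ⟨h', he⟩ := cls_normGL hm3 hgS σ p
    rw [← he, ← Plus.cls_scalar hm3 c]
    exact congrArg _ (Subtype.ext hc)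
  have hp2 : Plus.cls hm3 ⟨g, hgS⟩ ≠ 1 → p = 2 := by
    intro hne
    by_contra hp'
    rw [Plus.eq_ofAdd_one hne, ← ofAdd_nsmul, ← ofAdd_zero, Multiplicative.ofAdd.apply_eq_iff_eq, nsmul_one,
      ZMod.natCast_eq_zero_iff_even] at hclsp
    exact hp' ((Nat.Prime.even_iff hp).1 hclsp)
  by_cases hσ1 : σ = 1
  · subst hσ1
    have hc1 : Plus.cls hm3 ⟨g, hgS⟩ ≠ 1 := fun h1 =>
      hnot ((range_iff hm3 hS x).1 ⟨⟨g, (Plus.mem_H hm3).2 ⟨hgS, h1⟩⟩, (eq_conjH hS _ hx).symm⟩)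
    have e := hp2 hc1
    subst e
    exact bot_case rfl (graph_core hk (h2 rfl) hgS hc1 hx hord A hinn)
  have hσ : orderOf σ = p := orderOf_eq_prime hσp hσ1
  by_cases hc1 : Plus.cls hm3 ⟨g, hgS⟩ = 1
  · obtain ⟨φ, hφ⟩ := AutPSL.exists_induced (rho_injective _) (Plus.normalises_sim (one_mem (Plus.Sim (k + 1) F)) σ)
    have hmem := Plus.mem_coset hm3 hS ⟨g, hgS⟩ 1 hx hφ (by rw [hc1, map_one])
    have hconj := field_coset hS (Subgroup.mem_top _) hφ (Plus.exists_coboundary hm3) hmem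
      (by rw [inv_mul_cancel_right, hord, hσ])
    rw [inv_mul_cancel_right] at hconj
    obtain ⟨h, -, he⟩ := hconj
    have hx0 : h⁻¹ * x * h⁻¹⁻¹ = φ := by rw [he]; group
    have hF : Cfsg.IsFieldAutClassPOmega (Cfsg.quadFormPlus (k + 1) F) x :=
      ⟨h⁻¹, φ, σ, hσ1, isFieldAut_iff.2 hφ, hx0⟩
    obtain ⟨hcore, -⟩ := field_core hk hσ h2 hφ (A.map (MulAut.conj h⁻¹).toMonoidHom)
      (LocalEven61.Balance.inn_le_map_conj A hinn h⁻¹)
    rw [← hx0, ne_eq, LocalEven61.Balance.core_map_conj, LocalEven61.Balance.card_fix_conj] at hcore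
    exact ⟨fun hne => ⟨hF, hcore.1 hne⟩, fun hr => hcore.2 hr.2⟩
  · have e := hp2 hc1
    subst e
    obtain ⟨t, htS, htc, ht2, htσ, htv⟩ := exists_swap (F := F) (k := k)
    obtain ⟨y₀, hy₀⟩ := AutPSL.exists_induced (rho_injective _) (Plus.normalises_sim htS σ)
    have hmem := Plus.mem_coset hm3 hS ⟨g, hgS⟩ ⟨t, htS⟩ hx hy₀
      ((Plus.eq_ofAdd_one hc1).trans (Plus.eq_ofAdd_one (htc hm3)).symm)
    have hconj := Plus.graph_coset hm3 hS hσ (t := ⟨t, htS⟩) (htσ σ) ht2 (htc hm3) hy₀ hmem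
      (by rw [inv_mul_cancel_right, hord])
    rw [inv_mul_cancel_right] at hconj
    obtain ⟨h, -, he⟩ := hconj
    have hx0 : h⁻¹ * x * h⁻¹⁻¹ = y₀ := by rw [he]; group
    have hb := twisted_core hk (h2 rfl) hσ htS htv hy₀ (A.map (MulAut.conj h⁻¹).toMonoidHom)
      (LocalEven61.Balance.inn_le_map_conj A hinn h⁻¹)
    rw [← hx0, LocalEven61.Balance.core_map_conj] at hb
    exact bot_case rfl hb

end Cfsg.Agent.PlusBal
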