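import Cfsg.Agent.PlusBal.Core
import Cfsg.Agent.LocalEven61.POMinusBalanceGraph

/-!
The eigenspaces of an involutory similarity of a nondegenerate form `∑ xᵢ yᵢ + z₁² + a z₁ z₂ + b z₂²`
outside the class-preserving group, in odd characteristic (helper11).
-/

set_option autoImplicit false
set_option maxHeartbeats 800000

namespace Cfsg.Agent.PlusBal

open Matrix
open Cfsg.Agent.FieldAutGen Cfsg.Agent.FieldAutGen.Orth
open Cfsg.Agent.FieldAutGen.Minus (Idx qf)
open Cfsg.Agent.LocalEven61.POMinusBalance (gram sim_gram polar_eq exists_block block_eig block_span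
  block_nd det_blocks card_blocks proj proj_add exists_lift selfadjoint Blk Split card_eq_of_inv)

universe u v

variable {k : ℕ} {F : Type u} [Field F] [Fintype F] {a b : F}

omit [Fintype F] in
theorem gram_det_ne (hn : (qf k F a b).polarBilin.Nondegenerate) : (gram k F a b).det ≠ 0 := by
  intro h
  obtain ⟨v, hv0, hv⟩ := Matrix.exists_mulVec_eq_zero_iff.2 h
  exact hv0 (hn.2 v fun x => by
    show QuadraticMap.polar ⇑(qf k F a b) x v = 0
    rw [polar_eq, hv, dotProduct_zero])

/-- A field with the square of the number of elements. -/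
theorem exists_quad : ∃ (L : Type u) (_ : Field L) (_ : Fintype L) (_ : F →+* L),
    Fintype.card L = Fintype.card F ^ 2 := by
  obtain ⟨ζ, hζ⟩ := GLSemi.exists_no_root (F := F)
  obtain ⟨L, i₁, i₂, i, -, hc, -⟩ := Minus.exists_split (k := 0) (Forms59.anisotropic_of_no_root ζ hζ)
  exact ⟨L, i₁, i₂, i, hc⟩

/-- The determinant of a similarity with `g² = λ` and multiplier `-λ`. -/
theorem det_of_neg (hk : 3 ≤ k) (h2 : (2 : F) ≠ 0)
    (hn : (qf k F a b).polarBilin.Nondegenerate)
    {g : GL (Idx k) F} {l : Fˣ}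
    (hsq : (g : Matrix (Idx k) (Idx k) F) * (g : Matrix (Idx k) (Idx k) F) = (l : F) • 1)
    (hg : ∀ v : Idx k → F, qf k F a b ((g : Matrix (Idx k) (Idx k) F) *ᵥ v) = -(l : F) * qf k F a b v) :
    (g : Matrix (Idx k) (Idx k) F).det = (-(l : F)) ^ (k + 1) := by
  classical
  obtain ⟨K, _, _, i, hc⟩ := exists_quad (F := F)
  have h2K : (2 : K) ≠ 0 := by rw [← map_ofNat i 2, map_ne_zero]; exact h2
  obtain ⟨s, hs⟩ := isSquare_of_quadratic h2K i hc (l : F)
  have hs0 : s ≠ 0 := fun e => (map_ne_zero i).2 l.ne_zero (by rw [hs, e, mul_zero])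
  set G := (g : Matrix (Idx k) (Idx k) F)
  obtain ⟨M, hMd⟩ : ∃ M, M = G.map i := ⟨_, rfl⟩
  obtain ⟨Hk, hHd⟩ : ∃ Hk, Hk = (gram k F a b).map i := ⟨_, rfl⟩
  have hM : M * M = (s * s) • 1 := by
    rw [hMd, ← Matrix.map_mul, hsq, Matrix.map_smul' i _ _ (map_mul i),
      Matrix.map_one _ (map_zero i) (map_one i), hs]
  have hM' : M * M = (-s * -s) • 1 := by rw [neg_mul_neg]; exact hM
  have hgram : Mᵀ * Hk * M = (-(s * s)) • Hk := by
    rw [hMd, hHd, ← Matrix.transpose_map, ← Matrix.map_mul, ← Matrix.map_mul,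
      sim_gram (μ := -(l : F)) hg, Matrix.map_smul' i _ _ (map_mul i), map_neg, hs]
  obtain ⟨d, P, P', hi, hp⟩ := exists_block h2K hs0 hM
  obtain ⟨d₂, P₂, P₂', hi₂, hp₂⟩ := exists_block h2K (neg_ne_zero.2 hs0) hM'
  have hone : P * P' + P₂ * P₂' = 1 := by rw [hp, hp₂, proj_add h2K hs0]
  have he := block_eig hM hi hp
  have he₂ := block_eig hM' hi₂ hp₂
  have diag : ∀ {n : ℕ} (Q : Matrix (Idx k) (Fin n) K) (t : K), M * Q = t • Q → t * t = s * s →
      Qᵀ * Hk * Q = 0 := by
    intro n Q t hQ ht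
    have h : (t * t) • (Qᵀ * Hk * Q) = (-(s * s)) • (Qᵀ * Hk * Q) := by
      calc (t * t) • (Qᵀ * Hk * Q) = (M * Q)ᵀ * Hk * (M * Q) := by
            rw [hQ, Matrix.transpose_smul, Matrix.smul_mul, Matrix.smul_mul, Matrix.mul_smul, smul_smul]
        _ = Qᵀ * (Mᵀ * Hk * M) * Q := by rw [Matrix.transpose_mul]; simp only [Matrix.mul_assoc]
        _ = _ := by rw [hgram, Matrix.mul_smul, Matrix.smul_mul]
    rw [ht] at h
    refine (smul_eq_zero.1 (show (2 * (s * s)) • (Qᵀ * Hk * Q) = 0 from ?_)).resolve_left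
      (mul_ne_zero h2K (mul_ne_zero hs0 hs0))
    linear_combination (norm := module) h
  have z1 := diag P s he rfl
  have z2 := diag P₂ (-s) he₂ (neg_mul_neg s s)
  have hHk : IsUnit Hk.det := isUnit_iff_ne_zero.2 (by
    rw [hHd, show (gram k F a b).map i = i.mapMatrix (gram k F a b) from rfl, ← RingHom.map_det,
      map_ne_zero]
    exact gram_det_ne hn)
  have eA : Pᵀ * P'ᵀ = 1 := by rw [← Matrix.transpose_mul, hi, Matrix.transpose_one]
  have hd : d = d₂ := by
    have e1 : Pᵀ * Hk * P₂ * (P₂' * (Hk⁻¹ * P'ᵀ)) = 1 := by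
      calc Pᵀ * Hk * P₂ * (P₂' * (Hk⁻¹ * P'ᵀ))
          = Pᵀ * Hk * (P₂ * P₂') * Hk⁻¹ * P'ᵀ := by simp only [Matrix.mul_assoc]
        _ = Pᵀ * Hk * (1 - P * P') * Hk⁻¹ * P'ᵀ := by rw [← hone, add_sub_cancel_left]
        _ = Pᵀ * (Hk * Hk⁻¹) * P'ᵀ - Pᵀ * Hk * P * (P' * (Hk⁻¹ * P'ᵀ)) := by
          simp only [Matrix.mul_sub, Matrix.sub_mul, Matrix.mul_one, Matrix.mul_assoc]
        _ = 1 := by rw [z1, Matrix.mul_nonsing_inv _ hHk, Matrix.mul_one, eA, Matrix.zero_mul, sub_zero]
    have e2 : P₂' * (Hk⁻¹ * P'ᵀ) * (Pᵀ * Hk * P₂) = 1 := by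
      calc P₂' * (Hk⁻¹ * P'ᵀ) * (Pᵀ * Hk * P₂)
          = P₂' * Hk⁻¹ * (P * P')ᵀ * Hk * P₂ := by
            rw [Matrix.transpose_mul]; simp only [Matrix.mul_assoc]
        _ = P₂' * Hk⁻¹ * (1 - P₂ * P₂')ᵀ * Hk * P₂ := by rw [← hone, add_sub_cancel_right]
        _ = P₂' * (Hk⁻¹ * Hk) * P₂ - P₂' * Hk⁻¹ * P₂'ᵀ * (P₂ᵀ * Hk * P₂) := by
          simp only [Matrix.transpose_sub, Matrix.transpose_one, Matrix.transpose_mul, Matrix.mul_sub,
            Matrix.sub_mul, Matrix.mul_one, Matrix.mul_assoc]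
        _ = 1 := by rw [z2, Matrix.nonsing_inv_mul _ hHk, Matrix.mul_one, hi₂, Matrix.mul_zero, sub_zero]
    simpa using card_eq_of_inv _ _ e1 e2
  subst hd
  have hcard := card_blocks hi hi₂ hone
  have hdk : d = k + 1 := by simp at hcard; omega
  refine i.injective ?_
  rw [show i G.det = M.det by rw [hMd]; exact RingHom.map_det i G, det_blocks hi hi₂ hone he he₂,
    hdk, map_pow, map_neg, hs, ← mul_pow, mul_neg]

/-- The two eigenspaces of an involutory similarity outside the class-preserving group. -/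
theorem exists_split_data (hk : 3 ≤ k) (h2 : (2 : F) ≠ 0)
    (hn : (qf k F a b).polarBilin.Nondegenerate)
    (G : Matrix (Idx k) (Idx k) F) (l : F) (hl : l ≠ 0) (hsq : G * G = l • 1)
    (hgram : Gᵀ * gram k F a b * G = l • gram k F a b) (hdetG : G.det = -(l ^ (k + 1)))
    (hnorm : IsSquare l → l = 1) :
    ∃ (L : Type u) (_ : Field L) (_ : Fintype L) (i : F →+* L) (s : L),
      Nonempty (Split i G (gram k F a b) l s) := by
  classical
  have hsym := selfadjoint hl hsq hgram
  have hdH := gram_det_ne (k := k) hn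
  have hι : Fintype.card (Idx k) = 2 * (k + 1) := by simp; omega
  by_cases hs : IsSquare l
  · obtain rfl := hnorm hs
    have key : ∀ s : F, s * s = 1 → ∃ (d d₂ : ℕ) (P : Matrix (Idx k) (Fin d) F) (P' : Matrix (Fin d) (Idx k) F)
        (P₂ : Matrix (Idx k) (Fin d₂) F) (P₂' : Matrix (Fin d₂) (Idx k) F),
        P' * P = 1 ∧ P₂' * P₂ = 1 ∧ P * P' + P₂ * P₂' = 1 ∧ P * P' = proj G s ∧
          P₂ * P₂' = proj G (-s) ∧ Odd d ∧ Odd d₂ ∧ d + d₂ = 2 * (k + 1) := by
      intro s hss
      have hs0 : s ≠ 0 := left_ne_zero_of_mul_eq_one hss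
      have hM : G * G = (s * s) • 1 := by rw [hss]; exact hsq
      have hM' : G * G = (-s * -s) • 1 := by rw [neg_mul_neg]; exact hM
      obtain ⟨d, P, P', hi, hp⟩ := exists_block h2 hs0 hM
      obtain ⟨d₂, P₂, P₂', hi₂, hp₂⟩ := exists_block h2 (neg_ne_zero.2 hs0) hM'
      have hone : P * P' + P₂ * P₂' = 1 := by rw [hp, hp₂, proj_add h2 hs0]
      have hcard := (card_blocks hi hi₂ hone).trans hι
      have hdet := det_blocks hi hi₂ hone (block_eig hM hi hp) (block_eig hM' hi₂ hp₂)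
      rw [hdetG, one_pow, neg_pow, mul_left_comm, ← pow_add, hcard, pow_mul, pow_two, hss, one_pow,
        mul_one] at hdet
      have hodd : Odd d₂ := by
        rw [← Nat.not_even_iff_odd]
        intro he
        rw [he.neg_one_pow] at hdet
        exact h2 (by linear_combination -hdet)
      refine ⟨d, d₂, P, P', P₂, P₂', hi, hi₂, hone, hp, hp₂, ?_, hodd, hcard⟩
      rw [Nat.odd_iff] at hodd ⊢; omega
    obtain ⟨s, hss, d, d₂, P, P', P₂, P₂', hi, hi₂, hone, hp, hp₂, hd, hd₂, -, h5⟩ :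
        ∃ s : F, s * s = 1 ∧ ∃ (d d₂ : ℕ) (P : Matrix (Idx k) (Fin d) F) (P' : Matrix (Fin d) (Idx k) F)
        (P₂ : Matrix (Idx k) (Fin d₂) F) (P₂' : Matrix (Fin d₂) (Idx k) F),
        P' * P = 1 ∧ P₂' * P₂ = 1 ∧ P * P' + P₂ * P₂' = 1 ∧ P * P' = proj G s ∧
          P₂ * P₂' = proj G (-s) ∧ Odd d ∧ Odd d₂ ∧ d + d₂ = 2 * (k + 1) ∧ 5 ≤ d := by
      obtain ⟨d, d₂, P, P', P₂, P₂', hi, hi₂, hone, hp, hp₂, hd, hd₂, hc⟩ := key 1 (one_mul 1)
      by_cases h5 : 5 ≤ d
      · exact ⟨1, one_mul 1, d, d₂, P, P', P₂, P₂', hi, hi₂, hone, hp, hp₂, hd, hd₂, hc, h5⟩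
      · refine ⟨-1, by ring, d₂, d, P₂, P₂', P, P', hi₂, hi, by rw [add_comm]; exact hone, hp₂,
          by rw [neg_neg]; exact hp, hd₂, hd, by omega, ?_⟩
        rw [Nat.odd_iff] at hd hd₂; omega
    have hs0 : s ≠ 0 := left_ne_zero_of_mul_eq_one hss
    have hM : G * G = (s * s) • 1 := by rw [hss]; exact hsq
    have hM' : G * G = (-s * -s) • 1 := by rw [neg_mul_neg]; exact hM
    have hid : ∀ {m n : Type} (X : Matrix m n F), X.map (RingHom.id F) = X := fun X => Matrix.map_id X
    have he : G.map (RingHom.id F) * P = s • P := by rw [hid]; exact block_eig hM hi hp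
    have he₂ : G.map (RingHom.id F) * P₂ = (-s) • P₂ := by rw [hid]; exact block_eig hM' hi₂ hp₂
    refine ⟨F, inferInstance, inferInstance, RingHom.id F, s, ⟨⟨⟨d, P, P', hi, he,
      fun x hx => block_span h2 hs0 hp x (by rwa [hid] at hx),
      by rw [hid]; exact block_nd hi hp hsym hdH, hd, fun h hh => ?_⟩,
      ⟨d₂, P₂, P₂', hi₂, he₂, fun x hx => block_span h2 (neg_ne_zero.2 hs0) hp₂ x (by rwa [hid] at hx),
      by rw [hid]; exact block_nd hi₂ hp₂ hsym hdH, hd₂, fun h hh => ?_⟩, hone, h5,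
      Or.inr fun x => ⟨x, rfl⟩, by rw [hss]; rfl, fun τ c _ hc => ⟨τ, fun x => rfl, ?_⟩⟩⟩⟩
    · exact exists_lift _ hdH h2 hs0 hsym hi hi₂ hone he he₂ (h₂ := 1) hh (by simp)
        fun p q => ⟨_, rfl⟩
    · refine exists_lift _ hdH h2 (neg_ne_zero.2 hs0) hsym hi₂ hi (by rw [add_comm]; exact hone) he₂
        (by rw [neg_neg]; exact he) (h₂ := 1) hh (by simp) fun p q => ⟨_, rfl⟩
    · rw [hc rfl, map_one, one_mul]
      rcases mul_self_eq_one_iff.1 hss with h | h <;> simp [h]
  · obtain ⟨L, _, _, i, hcard⟩ := exists_quad (F := F)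
    obtain ⟨r, hr⟩ := CharP.exists F
    haveI : Fact r.Prime := ⟨CharP.char_is_prime F r⟩
    haveI : CharP L r := charP_of_injective_ringHom i.injective r
    obtain ⟨f, -, hf⟩ := FiniteField.card F r
    set q := Fintype.card F with hq
    have h2L : (2 : L) ≠ 0 := by rw [← map_ofNat i 2, map_ne_zero]; exact h2
    obtain ⟨s, hss⟩ := isSquare_of_quadratic h2L i hcard l
    have hs0 : s ≠ 0 := fun e => (map_ne_zero i).2 hl (by rw [hss, e, mul_zero])
    let bar : L ≃+* L := iterateFrobeniusEquiv L r f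
    have hbar : ∀ x, bar x = x ^ q := fun x => by rw [hf]; rfl
    have hbi : ∀ x, bar (i x) = i x := fun x => by
      rw [hbar, ← map_pow, hq, FiniteField.pow_card]
    have hodd : Odd q := by
      rw [Nat.odd_iff, hq]
      refine FiniteField.odd_card_of_char_ne_two fun h => h2 ?_
      haveI := ringChar.of_eq h
      exact CharTwo.two_eq_zero
    have hbs : bar s = -s := by
      obtain ⟨m, hm⟩ := hodd
      have h1 : l ^ m = -1 := by
        have hch : ringChar F ≠ 2 := fun h => h2 (by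
          haveI := ringChar.of_eq h; exact CharTwo.two_eq_zero)
        rcases FiniteField.pow_dichotomy hch hl with h | h <;>
          rw [← hq, hm, show (2 * m + 1) / 2 = m by omega] at h
        · refine absurd ?_ hs
          rw [FiniteField.isSquare_iff hch hl, ← hq, hm, show (2 * m + 1) / 2 = m by omega]
          exact h
        · exact h
      rw [hbar, hm, pow_succ, pow_mul, pow_two, ← hss, ← map_pow, h1, map_neg, map_one, neg_one_mul]
    have hbb : ∀ x, bar (bar x) = x := fun x => by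
      rw [hbar, hbar, ← pow_mul, ← pow_two, ← hcard, FiniteField.pow_card]
    have hfixed : ∀ x, bar x = x → ∃ y, i y = x := by
      have ho : orderOf bar = 2 := by
        refine orderOf_eq_prime (RingEquiv.ext fun x => by rw [pow_two]; exact hbb x) fun e => ?_
        rw [e] at hbs
        exact hs0 ((mul_eq_zero.1 (show (2 : L) * s = 0 by
          have : s = -s := hbs; linear_combination this)).resolve_left h2L)
      have h1 := AutPSL.card_fixed_pow bar
      rw [ho, Nat.card_eq_fintype_card (α := L), hcard] at h1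
      have h3 : Nat.card {x : L // bar x = x} = q := Nat.pow_left_injective two_ne_zero h1
      have hsub : Function.Injective (fun y : F => (⟨i y, hbi y⟩ : {x : L // bar x = x})) := fun y z h =>
        i.injective (congrArg Subtype.val h)
      have hbij := hsub.bijective_of_nat_card_le (by rw [h3, Nat.card_eq_fintype_card])
      intro x hx
      obtain ⟨y, hy⟩ := hbij.2 ⟨x, hx⟩
      exact ⟨y, congrArg Subtype.val hy⟩
    obtain ⟨M, hMd⟩ : ∃ M, M = G.map i := ⟨_, rfl⟩
    have hM : M * M = (s * s) • 1 := by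
      rw [hMd, ← Matrix.map_mul, hsq, Matrix.map_smul' i _ _ (map_mul i),
        Matrix.map_one _ (map_zero i) (map_one i), hss]
    have hM' : M * M = (-s * -s) • 1 := by rw [neg_mul_neg]; exact hM
    obtain ⟨d, P, P', hi, hp⟩ := exists_block h2L hs0 hM
    have hbM : M.map bar = M := by rw [hMd]; ext x y; exact hbi _
    have hb1 : (1 : Matrix (Idx k) (Idx k) L).map bar = 1 := Matrix.map_one _ (map_zero bar) (map_one bar)
    have hi₂ : P'.map bar * P.map bar = 1 := by
      rw [← Matrix.map_mul, hi, Matrix.map_one _ (map_zero bar) (map_one bar)]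
    have hp₂ : P.map bar * P'.map bar = proj M (-s) := by
      rw [← Matrix.map_mul, hp, proj, proj, Matrix.map_smul' bar _ _ (map_mul bar),
        Matrix.map_add bar (map_add bar), hbM, Matrix.map_smul' bar _ _ (map_mul bar), hb1, map_inv₀,
        map_mul, map_ofNat, hbs]
    have hone : P * P' + P.map bar * P'.map bar = 1 := by rw [hp, hp₂, proj_add h2L hs0]
    have he := block_eig hM hi hp
    have he₂ := block_eig hM' hi₂ hp₂
    have hcard' := (card_blocks hi hi₂ hone).trans hι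
    have hdk : d = k + 1 := by omega
    have hd : Odd d := by
      have h := det_blocks hi hi₂ hone he he₂
      rw [hMd, show (G.map i).det = i G.det from (RingHom.map_det i G).symm, hdetG, map_neg, map_pow,
        hss, ← mul_pow, mul_neg, ← hdk] at h
      rw [← Nat.not_even_iff_odd]
      intro hev
      rw [hev.neg_pow] at h
      exact (mul_ne_zero h2L (pow_ne_zero d (mul_ne_zero hs0 hs0))) (by linear_combination -h)
    have h5 : 5 ≤ d := by rw [Nat.odd_iff] at hd; omega
    obtain ⟨Hk, hHd⟩ : ∃ Hk, Hk = (gram k F a b).map i := ⟨_, rfl⟩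
    have hsymK : Mᵀ * Hk = Hk * M := by
      rw [hMd, hHd, ← Matrix.transpose_map, ← Matrix.map_mul, hsym, Matrix.map_mul]
    have hdK : Hk.det ≠ 0 := by
      rw [hHd, show (gram k F a b).map i = i.mapMatrix (gram k F a b) from rfl, ← RingHom.map_det,
        map_ne_zero]
      exact hdH
    have hbH : Hk.map bar = Hk := by rw [hHd]; ext x y; exact hbi _
    have hbP : ∀ {m n : Type} (X : Matrix m n L), (X.map bar).map bar = X := fun X =>
      Matrix.ext fun x y => hbb _
    have hH₂ : (P.map bar)ᵀ * Hk * P.map bar = (Pᵀ * Hk * P).map bar := by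
      rw [Matrix.map_mul, Matrix.map_mul, hbH, Matrix.transpose_map]
    have hlift : ∀ h : Matrix (Fin d) (Fin d) L, hᵀ * (Pᵀ * Hk * P) * h = Pᵀ * Hk * P →
        (h.map bar)ᵀ * ((P.map bar)ᵀ * Hk * P.map bar) * h.map bar = (P.map bar)ᵀ * Hk * P.map bar := by
      intro h hh
      rw [hH₂, ← Matrix.transpose_map, ← Matrix.map_mul, ← Matrix.map_mul, hh]
    subst hMd hHd
    refine ⟨L, inferInstance, inferInstance, i, s, ⟨⟨⟨d, P, P', hi, he,
      block_span h2L hs0 hp, block_nd hi hp hsymK hdK, hd, fun h hh => ?_⟩,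
      ⟨d, P.map bar, P'.map bar, hi₂, he₂, block_span h2L (neg_ne_zero.2 hs0) hp₂,
      block_nd hi₂ hp₂ hsymK hdK, hd, fun h hh => ?_⟩, hone, h5, Or.inl h5, hss.symm, fun τ c hτ _ => ?_⟩⟩⟩
    · refine exists_lift i hdH h2L hs0 hsym hi hi₂ hone he he₂ hh (hlift h hh) fun x y => hfixed _ ?_
      show ((P * h * P' + P.map bar * h.map bar * P'.map bar).map bar) x y = _
      rw [Matrix.map_add bar (map_add bar), Matrix.map_mul, Matrix.map_mul, Matrix.map_mul,
        Matrix.map_mul, hbP, hbP, hbP, add_comm]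
    · have hh' : (h.map bar)ᵀ * (Pᵀ * (gram k F a b).map i * P) * h.map bar =
          Pᵀ * (gram k F a b).map i * P := by
        have := congrArg (fun X => Matrix.map X bar) hh
        simp only [hH₂, Matrix.map_mul, ← Matrix.transpose_map, hbP, hbH] at this
        exact this
      refine exists_lift i hdH h2L (neg_ne_zero.2 hs0) hsym hi₂ hi (by rw [add_comm]; exact hone) he₂
        (by rw [neg_neg]; exact he) hh hh' fun x y => hfixed _ ?_
      show ((P.map bar * h * P'.map bar + P * h.map bar * P').map bar) x y = _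
      rw [Matrix.map_add bar (map_add bar), Matrix.map_mul, Matrix.map_mul, Matrix.map_mul,
        Matrix.map_mul, hbP, hbP, hbP, add_comm]
    · obtain ⟨j, hj⟩ := AutPSL.exists_frobenius_pow (p := r) τ
      let τ₀ : L ≃+* L := iterateFrobeniusEquiv L r j
      have hτ₀ : ∀ x, τ₀ (i x) = i (τ x) := fun x => by rw [hj, map_pow]; rfl
      have h1 : τ₀ s * τ₀ s = (i c * s) * (i c * s) := by
        rw [← map_mul, ← hss, hτ₀, hτ, map_mul, map_mul, hss]; ring
      rcases mul_self_eq_mul_self_iff.1 h1 with h | h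
      · exact ⟨τ₀, hτ₀, h⟩
      · refine ⟨bar * τ₀, fun x => ?_, ?_⟩
        · show bar (τ₀ (i x)) = _
          rw [hτ₀, hbi]
        · show bar (τ₀ s) = _
          rw [h, map_neg, map_mul, hbi, hbs, mul_neg, neg_neg]

end Cfsg.Agent.PlusBal
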