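import Cfsg.Agent.PlusBal.Obj

/-!
Flags of the three classes: transitivity, incidence numbers, and absolute points of an automorphism
permuting the classes cyclically (helper11).
-/

set_option autoImplicit false
set_option maxHeartbeats 800000
set_option linter.unusedSectionVars false

namespace Cfsg.Agent.PlusBal.Tri

open QuadraticMap Cfsg.Lie
open Cfsg.Agent.UnitaryOrthogonal
open Cfsg.Agent.UnitaryOrthogonal.Adjoint (I4)
open Cfsg.Agent.CG26.AutPO (Om piO piO_surjective simRange IsLn eb eo)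
open Cfsg.Agent.CG26.AutPO.D4 (setup4 tau bv tau_cube exists_decomp polar_bv q_bv bv_ne_zero)

universe u

variable {F : Type u} [Field F]

local notation "𝐐" => qPlus 4 F

/-- The plane `⟨e₀,e₁,e₂⟩`. -/
abbrev P3 : Finset I4 := {.inl 0, .inl 1, .inl 2}

theorem P3_props : NoPair P3 ∧ (.inl 0 : I4) ∈ P3 ∧ P3 ⊆ T1 ∧ P3 ⊆ T2 := by decide

/-- An element of `Ω` stabilising a subspace. -/
def Fixes (h : Om 𝐐) (S : Submodule F (I4 → F)) : Prop := ∀ v ∈ S, h.1.1 v ∈ S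

theorem Fixes.mul {h k : Om 𝐐} {S : Submodule F (I4 → F)} (hh : Fixes h S) (hk : Fixes k S) :
    Fixes (h * k) S := fun v hv => by
  rw [Subgroup.coe_mul, coe_mul_apply]; exact hh _ (hk v hv)

theorem spc_swap {J : Finset I4} (hJ : NoPair J) {w : I4 → F} (hw : w ∈ spc J) {i : I4} (hi : i ∈ J) :
    w i.swap = 0 :=
  hw _ (hJ i hi)

theorem fixes_eo {J : Finset I4} (hJ : NoPair J) {i : I4} {v : I4 → F}
    (hv : 𝐐 v = 0) (hp : polar 𝐐 (bv i) v = 0) (h : v ∈ spc J ∨ (i ∈ J ∧ ∀ w ∈ spc J, polar 𝐐 v w = 0))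
    (hh : v ∈ spc J → i ∈ J ∨ ∀ w ∈ spc J, polar 𝐐 v w = 0) :
    Fixes (eo 𝐐 (bv i) v) (spc J) := by
  intro w hw
  rw [CG26.AutPO.eo_coe, eich_apply (q_bv i) hp, hv]
  simp only [zero_mul, zero_smul, sub_zero]
  rcases h with h | ⟨hi, h2⟩
  · rcases hh h with h' | h'
    · exact (spc (F := F) J).sub_mem ((spc (F := F) J).add_mem hw ((spc (F := F) J).smul_mem _ h))
        ((spc (F := F) J).smul_mem _ (bv_mem_spc h'))
    · rw [h' w hw, zero_smul, sub_zero]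
      exact (spc (F := F) J).add_mem hw ((spc (F := F) J).smul_mem _ h)
  · rw [polar_bv, spc_swap hJ hw hi, h2 w hw, zero_smul, zero_smul, add_zero, sub_zero]
    exact hw

variable [Fintype F]

/-- Moving a coordinate vector inside a totally singular coordinate subspace. -/
theorem exists_fix {I : Finset I4} (hI : NoPair I) {i : I4} (hi : i ∈ I) {p : I4 → F} (hp : p ∈ spc I)
    (hp0 : p ≠ 0) :
    ∃ (h : Om 𝐐) (c : F), c ≠ 0 ∧ h.1.1 (bv i) = c • p ∧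
      ∀ J, NoPair J → (I ⊆ J ∨ ∀ j ∈ I, j.swap ∈ J) → Fixes h (spc J) := by
  have hT := ts_spc (F := F) hI
  have hfix : ∀ (j : I4), j ∈ I → ∀ v ∈ spc (F := F) I, polar 𝐐 (bv j.swap) v = 0 →
      ∀ J, NoPair J → (I ⊆ J ∨ ∀ j ∈ I, j.swap ∈ J) → Fixes (eo 𝐐 (bv j.swap) v) (spc J) := by
    intro j hj v hv hpv J hJ hIJ
    rcases hIJ with hIJ | hIJ
    · have hvJ : v ∈ spc J := fun l hl => hv l fun e => hl (hIJ e)
      exact fixes_eo hJ (hT v hv) hpv (Or.inl hvJ)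
        fun _ => Or.inr fun w hw => (ts_spc hJ).polar_eq hvJ hw
    · intro w hw
      rw [CG26.AutPO.eo_coe, eich_apply (q_bv _) hpv, hT v hv]
      simp only [zero_mul, zero_smul, sub_zero]
      rw [polar_bv, spc_swap hJ hw (hIJ j hj), zero_smul, add_zero]
      exact (spc (F := F) J).sub_mem hw ((spc (F := F) J).smul_mem _ (bv_mem_spc (hIJ j hj)))
  have main : ∀ p : I4 → F, p ∈ spc I → p i ≠ 0 → ∃ (h : Om 𝐐), h.1.1 (bv i) = (p i)⁻¹ • p ∧
      ∀ J, NoPair J → (I ⊆ J ∨ ∀ j ∈ I, j.swap ∈ J) → Fixes h (spc J) := by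
    intro p hp hpi
    set v := (p i)⁻¹ • p - bv i with hv
    have hvI : v ∈ spc I := (spc (F := F) I).sub_mem ((spc (F := F) I).smul_mem _ hp) (bv_mem_spc hi)
    have hvi : polar 𝐐 (bv i.swap) v = 0 := by
      rw [polar_bv, Sum.swap_swap, hv]
      simp [inv_mul_cancel₀ hpi]
    refine ⟨eo 𝐐 (bv i.swap) v, ?_, hfix i hi v hvI hvi⟩
    rw [CG26.AutPO.eo_coe, eich_apply (q_bv _) hvi, hT v hvI, hT.polar_eq hvI (bv_mem_spc hi), polar_bv,
      Sum.swap_swap]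
    simp [hv]
  by_cases hpi : p i = 0
  · obtain ⟨j, hj⟩ : ∃ j, p j ≠ 0 := Function.ne_iff.1 hp0
    have hjI : j ∈ I := by
      by_contra e
      exact hj (hp j e)
    have hji : j ≠ i := fun e => hj (e ▸ hpi)
    have hbi : bv (F := F) i ∈ spc I := bv_mem_spc hi
    have hpv : polar 𝐐 (bv j.swap) (bv i) = 0 := by
      rw [polar_bv, Sum.swap_swap, bv, Pi.single_eq_of_ne hji]
    set g := eo 𝐐 (bv j.swap) (bv i) with hg
    have hgp : g.1.1 p = p + p j • bv i := by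
      rw [hg, CG26.AutPO.eo_coe, eich_apply (q_bv _) hpv, hT.polar_eq hbi hp, hT _ hbi, polar_bv,
        Sum.swap_swap]
      simp
    have hg' : g⁻¹ = eo 𝐐 (bv j.swap) (-bv i) := Subtype.ext (by
      rw [Subgroup.coe_inv, hg, CG26.AutPO.eo_coe, CG26.AutPO.eo_coe, eich_inv (q_bv _) hpv])
    obtain ⟨h, hh, hhf⟩ := main (g.1.1 p) (by rw [hgp]; exact (spc (F := F) I).add_mem hp ((spc (F := F) I).smul_mem _ hbi))
      (by rw [hgp]; simp [hpi, hj])
    refine ⟨g⁻¹ * h, ((g.1.1 p) i)⁻¹, inv_ne_zero (by rw [hgp]; simp [hpi, hj]), ?_,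
      fun J hJ hIJ => Fixes.mul ?_ (hhf J hJ hIJ)⟩
    · rw [Subgroup.coe_mul, coe_mul_apply, hh, map_smul, Subgroup.coe_inv, coe_inv_apply_apply]
    · rw [hg']
      exact hfix j hjI _ ((spc (F := F) I).neg_mem hbi) (by rw [polar_neg_right, hpv, neg_zero]) J hJ hIJ
  · obtain ⟨h, hh, hhf⟩ := main p hp hpi
    exact ⟨h, _, inv_ne_zero hpi, hh, hhf⟩

/-- A point off the hyperplane `e₀^⊥` is an image of `f₀` under the subgroup of `e₀`. -/
theorem exists_shift {p : I4 → F} (hp : 𝐐 p = 0) (hp0 : p (.inr 0) ≠ 0) :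
    ∃ (z : I4 → F) (c : F), c ≠ 0 ∧ polar 𝐐 e0 z = 0 ∧ (eo 𝐐 e0 z).1.1 f0 = c • p ∧
      (∀ i, p i = 0 → z i = 0) ∧
      ∀ J, NoPair J → z ∈ spc J → ((.inr 0 : I4) ∈ J ∨ (.inl 0 : I4) ∈ J) → Fixes (eo 𝐐 e0 z) (spc J) := by
  set c := (p (.inr 0))⁻¹ with hc
  set a := c * p (.inl 0) with ha
  set z := c • p - f0 - a • e0 with hz
  have hze : z (.inl 0) = 0 := by simp [hz, ha]
  have hzf : z (.inr 0) = 0 := by simp [hz, hc, inv_mul_cancel₀ hp0]
  have hpe : polar 𝐐 e0 z = 0 := by rw [polar_bv]; exact hzf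
  have hzz : ∀ w, polar 𝐐 z w = polar 𝐐 w z := fun w => polar_comm _ _ _
  have hQ : 𝐐 z + a = 0 := by
    have e : c • p = f0 + z + a • e0 := by rw [hz]; abel
    have h1 : 𝐐 (c • p) = 0 := by rw [form_smul, hp, mul_zero]
    rw [e, form_add, form_add, form_smul, q_bv, q_bv, polar_add_left, polar_smul_right, polar_smul_right,
      polar_bv, hzz, polar_bv, polar_bv] at h1
    simp [hze, hzf] at h1
    exact h1
  refine ⟨z, c, inv_ne_zero hp0, hpe, ?_, fun i hi => ?_, fun J hJ hzJ hJ0 => ?_⟩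
  · rw [CG26.AutPO.eo_coe, eich_apply (q_bv _) hpe, hzz f0, polar_bv, polar_bv]
    simp [hze]
    rw [show 𝐐 z = -a from eq_neg_of_add_eq_zero_left hQ, hz]
    module
  · rcases i with i | i <;> by_cases e : i = 0
    · subst e; exact hze
    · simp [hz, hi, e]
    · subst e; exact hzf
    · simp [hz, hi, e]
  · intro w hw
    rw [CG26.AutPO.eo_coe, eich_apply (q_bv _) hpe, (ts_spc hJ).polar_eq hzJ hw, (ts_spc hJ) z hzJ]
    simp only [zero_mul, zero_smul, sub_zero]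
    exact (spc (F := F) J).add_mem hw ((spc (F := F) J).smul_mem _ hzJ)

theorem mp_conj_fix {h : Om 𝐐} {S : Submodule F (I4 → F)} (hh : Fixes h S) :
    mp (MulAut.conj (piO 𝐐 h)) (Usp S) = Usp S := mp_conj_Usp h hh

theorem mp_conj_inv {h : Om 𝐐} {S : Submodule F (I4 → F)} (hh : Fixes h S) :
    mp (MulAut.conj (piO 𝐐 h))⁻¹ (Usp S) = Usp S := by
  conv_lhs => rw [← mp_conj_fix hh, mp_inv]

theorem inc_T {I : Finset I4} (hI : NoPair I) {a b : I4} (ha : a ∈ I) (hb : b ∈ I) (hab : a ≠ b)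
    {p : I4 → F} (hp : 𝐐 p = 0) (hp0 : p ≠ 0) : Inc (Upt p) (Usp (spc I)) ↔ p ∈ spc I :=
  inc_Upt_Usp (ts_spc hI) hp hp0 (spc_big ha hb hab)

theorem inc_base {p : I4 → F} (hp : 𝐐 p = 0) (hp0 : p ≠ 0) :
    (Inc (Upt p) (Usp (spc T1)) ↔ p ∈ spc T1) ∧ (Inc (Upt p) (Usp (spc T2)) ↔ p ∈ spc T2) ∧
    (Inc (Upt p) (Usp (spc O1)) ↔ p ∈ spc O1) ∧ (Inc (Upt p) (Usp (spc O2)) ↔ p ∈ spc O2) :=
  ⟨inc_T noPairs.1 (a := .inl 0) (b := .inl 1) (by decide) (by decide) (by decide) hp hp0,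
    inc_T noPairs.2.1 (a := .inl 0) (b := .inl 1) (by decide) (by decide) (by decide) hp hp0,
    inc_T noPairs.2.2.1 (a := .inr 0) (b := .inr 1) (by decide) (by decide) (by decide) hp hp0,
    inc_T noPairs.2.2.2 (a := .inr 0) (b := .inr 1) (by decide) (by decide) (by decide) hp hp0⟩

theorem tau_sq : mp (tau (F := F) ^ ((2 : Fin 3) : ℕ)) (Usp (spc T1)) = Upt e0 ∧
    mp (tau (F := F) ^ ((2 : Fin 3) : ℕ)) (Usp (spc T2)) = Usp (spc T1) ∧
    mp (tau (F := F) ^ ((2 : Fin 3) : ℕ)) (Upt e0) = Usp (spc T2) ∧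
    mp (tau (F := F) ^ ((2 : Fin 3) : ℕ)) (Upt f0) = Usp (spc O2) ∧
    mp (tau (F := F) ^ ((2 : Fin 3) : ℕ)) (Usp (spc O2)) = Usp (spc O1) ∧
    mp (tau (F := F) ^ ((2 : Fin 3) : ℕ)) (Usp (spc O1)) = Upt f0 := by
  refine ⟨?_, ?_, ?_, ?_, ?_, ?_⟩ <;>
    · show mp (tau ^ 2) _ = _
      rw [pow_two, mp_mul]
      simp only [tau_T.1, tau_T.2.1, tau_T.2.2, tau_O.1, tau_O.2.1, tau_O.2.2]

theorem tau_one (a : Subgroup (P8 F)) : mp (tau (F := F) ^ ((1 : Fin 3) : ℕ)) a = mp tau a := by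
  show mp (tau ^ 1) a = _
  rw [pow_one]

theorem mp_smul_pt (h : Om 𝐐) {p q : I4 → F} (hp : 𝐐 p = 0) (hq : 𝐐 q = 0) {c : F} (hc : c ≠ 0)
    (e : h.1.1 p = c • q) : mp (MulAut.conj (piO 𝐐 h)) (Upt p) = Upt q := by
  rw [mp_conj_Upt h hp, e, Upt_smul hq hc]

theorem exists_flag1 {a b : Subgroup (P8 F)} (ha : a ∈ Cl 0) (hb : b ∈ Cl 1) (hab : Inc a b) :
    ∃ α : MulAut (P8 F), mp α a = Upt e0 ∧ mp α b = Usp (spc T1) := by
  obtain ⟨p₀, hp₀, hp₀0, rfl⟩ := mem_Cl0.1 ha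
  obtain ⟨h₀, hh₀⟩ := exists_om_map hp₀ hp₀0 (q_bv (.inl 0)) (bv_ne_zero (F := F) _)
  set β := MulAut.conj (piO 𝐐 h₀)
  have hβ : mp β (Upt p₀) = Upt e0 := by rw [mp_conj_Upt h₀ hp₀, hh₀]
  obtain ⟨j, hj⟩ := exists_mp_Cl β 1
  obtain rfl : j = 1 := by
    have h1 : MulAut.conj (piO 𝐐 h₀) * tau ^ ((1 : Fin 3) : ℕ) =
        tau ^ ((1 : Fin 3) : ℕ) * MulAut.conj ((tau ^ ((1 : Fin 3) : ℕ))⁻¹ (piO 𝐐 h₀)) :=
      MulEquiv.ext fun y => by simp [MulAut.mul_apply, MulAut.conj_apply, map_mul, map_inv]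
    obtain ⟨k, hk⟩ := piO_surjective ((tau ^ ((1 : Fin 3) : ℕ))⁻¹ (piO 𝐐 h₀))
    refine Cl_unique (hj _ W_mem.2.1) ?_
    rw [← tau_T.1, ← tau_one, ← mp_mul, h1, mp_mul, ← hk, mp_conj_Upt k (q_bv _)]
    exact ⟨_, by rw [map_form, q_bv], fun e => bv_ne_zero _ (LinearEquiv.map_eq_zero_iff _ |>.1 e), rfl⟩
  obtain ⟨p, hp, hp0, hbp⟩ := hj b hb
  have hinc : Inc (Upt e0) (mp β b) := by rw [← hβ]; exact inc_mp.2 hab
  rw [hbp, tau_one, show Upt (e0 (F := F)) = mp tau (Usp (spc T2)) from tau_T.2.2.symm, inc_mp] at hinc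
  have hpT : p ∈ spc T2 := (inc_base hp hp0).2.1.1 hinc.symm
  obtain ⟨h, c, hc, he, hfix⟩ := exists_fix noPairs.2.1 (i := .inl 0) (by decide) hpT hp0
  have hf := hfix T2 noPairs.2.1 (Or.inl subset_rfl)
  refine ⟨tau * (MulAut.conj (piO 𝐐 h))⁻¹ * tau⁻¹ * β, ?_, ?_⟩
  · rw [mp_mul, hβ, mp_mul, mp_mul]
    nth_rewrite 1 [← tau_T.2.2]
    rw [mp_inv, mp_conj_inv hf, tau_T.2.2]
  · rw [mp_mul, hbp, tau_one, mp_mul, mp_mul, mp_inv, ← mp_smul_pt h (q_bv _) hp hc he, mp_inv, tau_T.1]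

/-- **Flags are conjugate.** -/
theorem exists_flag {a b c : Subgroup (P8 F)} (ha : a ∈ Cl 0) (hb : b ∈ Cl 1) (hc : c ∈ Cl 2)
    (hab : Inc a b) (hbc : Inc b c) (hca : Inc c a) :
    ∃ α : MulAut (P8 F), mp α a = Upt e0 ∧ mp α b = Usp (spc T1) ∧ mp α c = Usp (spc T2) := by
  obtain ⟨β, hβa, hβb⟩ := exists_flag1 ha hb hab
  have hc2 : mp β c ∈ Cl 2 := by
    obtain ⟨j, hj⟩ := exists_mp_Cl β 0
    obtain ⟨j', hj'⟩ := exists_mp_Cl β 1
    obtain ⟨l, hl⟩ := exists_mp_Cl β 2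
    obtain rfl : j = 0 := Cl_unique (hj _ ha) (hβa ▸ W_mem.1)
    obtain rfl : j' = 1 := Cl_unique (hj' _ hb) (hβb ▸ W_mem.2.1)
    obtain ⟨m, hm⟩ := exists_mp_Cl β⁻¹ l
    have hm2 : m = 2 := Cl_unique (hm _ (hl _ hc)) (by rw [mp_inv]; exact hc)
    fin_cases l
    · obtain ⟨n, hn⟩ := exists_mp_Cl β⁻¹ 0
      have h1 : m = 0 := Cl_unique (hm _ W_mem.1) (by rw [← hβa, mp_inv]; exact ha)
      rw [hm2] at h1; exact absurd h1 (by decide)
    · have h1 : m = 1 := Cl_unique (hm _ W_mem.2.1) (by rw [← hβb, mp_inv]; exact hb)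
      rw [hm2] at h1; exact absurd h1 (by decide)
    · exact hl _ hc
  obtain ⟨p, hp, hp0, hcp⟩ := hc2
  have h1 : Inc (mp β c) (Upt e0) := by rw [← hβa]; exact inc_mp.2 hca
  have h2 : Inc (mp β c) (Usp (spc T1)) := by rw [← hβb]; exact inc_mp.2 hbc.symm
  rw [hcp, show Upt (e0 (F := F)) = mp (tau ^ ((2 : Fin 3) : ℕ)) (Usp (spc T1)) from tau_sq.1.symm,
    inc_mp] at h1
  rw [hcp, show Usp (spc (F := F) T1) = mp (tau ^ ((2 : Fin 3) : ℕ)) (Usp (spc T2)) from tau_sq.2.1.symm,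
    inc_mp] at h2
  have hpT1 : p ∈ spc T1 := (inc_base hp hp0).1.1 h1
  have hpT2 : p ∈ spc T2 := (inc_base hp hp0).2.1.1 h2
  have hpI : p ∈ spc P3 := by
    have key : ∀ i : I4, i ∉ P3 → i ∉ T1 ∨ i ∉ T2 := by decide
    intro i hi
    rcases key i hi with e | e
    · exact hpT1 i e
    · exact hpT2 i e
  obtain ⟨h, k, hk, he, hfix⟩ := exists_fix P3_props.1 P3_props.2.1 hpI hp0
  have hf1 := hfix T1 noPairs.1 (Or.inl P3_props.2.2.1)
  have hf2 := hfix T2 noPairs.2.1 (Or.inl P3_props.2.2.2)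
  set τ2 := tau (F := F) ^ ((2 : Fin 3) : ℕ)
  refine ⟨τ2 * (MulAut.conj (piO 𝐐 h))⁻¹ * τ2⁻¹ * β, ?_, ?_, ?_⟩
  · rw [mp_mul, hβa, mp_mul, mp_mul]
    nth_rewrite 1 [← tau_sq.1]
    rw [mp_inv, mp_conj_inv hf1, tau_sq.1]
  · rw [mp_mul, hβb, mp_mul, mp_mul]
    nth_rewrite 1 [← tau_sq.2.1]
    rw [mp_inv, mp_conj_inv hf2, tau_sq.2.1]
  · rw [mp_mul, hcp, mp_mul, mp_mul, mp_inv, ← mp_smul_pt h (q_bv _) hp hk he, mp_inv]
    exact tau_sq.2.2.1

theorem exists_anti {a b : Subgroup (P8 F)} (ha : a ∈ Cl 0) (hb : b ∈ Cl 1) (hab : ¬ Inc a b) :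
    ∃ α : MulAut (P8 F), mp α a = Upt f0 ∧ mp α b = Usp (spc T1) := by
  obtain ⟨p₁, hp₁, hp₁0, rfl⟩ := hb
  obtain ⟨h₀, hh₀⟩ := exists_om_map hp₁ hp₁0 (q_bv (.inl 0)) (bv_ne_zero (F := F) _)
  obtain ⟨k₀, hk₀⟩ := piO_surjective (tau (piO 𝐐 h₀))
  set β := MulAut.conj (piO 𝐐 k₀) with hβ
  have hβb : mp β (mp (tau ^ ((1 : Fin 3) : ℕ)) (Upt p₁)) = Usp (spc T1) := by
    rw [tau_one, ← mp_mul, hβ, hk₀, show MulAut.conj (tau (piO 𝐐 h₀)) * tau = tau * MulAut.conj (piO 𝐐 h₀)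
      from MulEquiv.ext fun y => by simp [MulAut.mul_apply, MulAut.conj_apply, map_mul, map_inv],
      mp_mul, mp_conj_Upt h₀ hp₁, hh₀, tau_T.1]
  obtain ⟨p₀, hp₀, hp₀0, rfl⟩ := mem_Cl0.1 ha
  set p := k₀.1.1 p₀
  have hp : 𝐐 p = 0 := by rw [map_form, hp₀]
  have hp0 : p ≠ 0 := fun e => hp₀0 (LinearEquiv.map_eq_zero_iff _ |>.1 e)
  have hβa : mp β (Upt p₀) = Upt p := mp_conj_Upt k₀ hp₀
  have hpT : p ∉ spc T1 := fun e => hab (by
    rw [← inc_mp (α := β), hβa, hβb]; exact (inc_base hp hp0).1.2 e)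
  set w : I4 → F := fun i => if i ∈ O1 then p i else 0 with hw
  have hwO : w ∈ spc O1 := fun i hi => by simp only [hw, if_neg hi]
  have hw0 : w ≠ 0 := by
    intro e
    refine hpT fun i hi => ?_
    have h1 : i ∈ O1 := by revert hi; revert i; decide
    have h2 := congrFun e i
    simp only [hw, if_pos h1, Pi.zero_apply] at h2
    exact h2
  obtain ⟨h, c, hc, he, hfix⟩ := exists_fix noPairs.2.2.1 (i := .inr 0) (by decide) hwO hw0
  have hf1 := hfix T1 noPairs.1 (Or.inr (by decide))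
  have hf1' : Fixes h⁻¹ (spc T1) := by
    intro v hv
    have e := mp_conj_inv hf1
    haveI := (setup4 (F := F)).finiteV
    obtain ⟨w', hw'⟩ := (Finite.injective_iff_surjective.1
      (show Function.Injective (fun v : spc (F := F) T1 => (⟨h.1.1 v, hf1 v v.2⟩ : spc (F := F) T1)) from
        fun a b e => Subtype.ext (h.1.1.injective (congrArg Subtype.val e)))) ⟨v, hv⟩
    have e' : h.1.1 w'.1 = v := congrArg Subtype.val hw'
    rw [← e', Subgroup.coe_inv, coe_inv_apply_apply]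
    exact w'.2
  set s := h⁻¹.1.1 (p - w) with hs
  have hs1 : s ∈ spc T1 := hf1' _ (fun i hi => by
    have h1 : i ∈ O1 := by revert hi; revert i; decide
    simp only [Pi.sub_apply, hw, if_pos h1, sub_self])
  have hps : h⁻¹.1.1 p = c⁻¹ • f0 + s := by
    have : h⁻¹.1.1 w = c⁻¹ • f0 := by
      rw [eq_inv_smul_iff₀ hc, ← map_smul, ← he, Subgroup.coe_inv, coe_inv_apply_apply]
    rw [hs, map_sub, this]
    abel
  set p' := h⁻¹.1.1 p
  have hp' : 𝐐 p' = 0 := by rw [map_form, hp]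
  have hp'f : p' (.inr 0) ≠ 0 := by
    rw [hps, Pi.add_apply, Pi.smul_apply, hs1 (.inr 0) (by decide)]
    simp [hc]
  obtain ⟨z, d, hd, hz, hze, hzero, hzfix⟩ := exists_shift hp' hp'f
  have hzT : z ∈ spc T1 := by
    intro i hi
    by_cases e : i = .inr 0
    · subst e
      rw [polar_bv] at hz
      exact hz
    · refine hzero i ?_
      simp [hps, hs1 i hi, e]
  have hzf := hzfix T1 noPairs.1 hzT (Or.inr (by decide))
  refine ⟨(MulAut.conj (piO 𝐐 (eo 𝐐 e0 z)))⁻¹ * (MulAut.conj (piO 𝐐 h))⁻¹ * β, ?_, ?_⟩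
  · have e1 : mp (MulAut.conj (piO 𝐐 h))⁻¹ (Upt p) = Upt p' := by
      rw [← map_inv, ← map_inv, mp_conj_Upt h⁻¹ hp]
    rw [mp_mul, hβa, mp_mul, e1, ← mp_smul_pt _ (q_bv _) hp' hd hze, mp_inv]
  · rw [mp_mul, hβb, mp_mul, mp_conj_inv hf1, mp_conj_inv hzf]

/-! ### Counting -/

/-- The points of a coordinate subspace. -/
def pts (I : Finset I4) : Set (Subgroup (P8 F)) :=
  {a | ∃ p : I4 → F, p ∈ spc I ∧ p ≠ 0 ∧ a = Upt p}

theorem pts_card {I : Finset I4} (hI : NoPair I) :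
    (pts (F := F) I).ncard * (Fintype.card F - 1) + 1 = Fintype.card F ^ I.card := by
  classical
  have hT := ts_spc (F := F) hI
  choose rep hrep using fun a : pts (F := F) I => a.2
  let e : (pts (F := F) I) × Fˣ → {p : spc (F := F) I // p ≠ 0} := fun x =>
    ⟨⟨(x.2 : F) • rep x.1, (spc (F := F) I).smul_mem _ (hrep x.1).1⟩,
      fun h => smul_ne_zero x.2.ne_zero (hrep x.1).2.1 (congrArg Subtype.val h)⟩
  have he : Function.Bijective e := by
    constructor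
    · rintro ⟨a, c⟩ ⟨b, d⟩ h
      have h' : (c : F) • rep a = (d : F) • rep b := congrArg (fun z => (z.1 : I4 → F)) h
      have hab : a = b := Subtype.ext (by
        rw [(hrep a).2.2, (hrep b).2.2, ← Upt_smul (hT _ (hrep a).1) c.ne_zero, h',
          Upt_smul (hT _ (hrep b).1) d.ne_zero])
      subst hab
      exact Prod.ext rfl (Units.ext (smul_left_injective F (hrep a).2.1 h'))
    · rintro ⟨⟨p, hp⟩, hp0⟩
      have hp0' : p ≠ 0 := fun e => hp0 (Subtype.ext e)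
      let a : pts (F := F) I := ⟨Upt p, p, hp, hp0', rfl⟩
      obtain ⟨c, hc⟩ := exists_smul_of_Upt_eq (hT _ (hrep a).1) (hrep a).2.1 (hT p hp) hp0'
        (hrep a).2.2.symm
      refine ⟨⟨a, Units.mk0 c fun e => hp0' (by rw [hc, e, zero_smul])⟩, ?_⟩
      exact Subtype.ext (Subtype.ext hc.symm)
  let eI : spc (F := F) I ≃ (I → F) :=
    { toFun := fun v i => v.1 i
      invFun := fun w => ⟨fun i => if h : i ∈ I then w ⟨i, h⟩ else 0, fun i hi => dif_neg hi⟩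
      left_inv := fun v => Subtype.ext (funext fun i => by
        by_cases h : i ∈ I
        · simp [h]
        · simp [h, v.2 i h])
      right_inv := fun w => funext fun i => by simp [i.2] }
  have h2 : Nat.card {p : spc (F := F) I // p ≠ 0} + 1 = Nat.card (spc (F := F) I) := by
    rw [← Finite.card_option]
    exact Nat.card_congr (Equiv.optionSubtypeNe (0 : spc (F := F) I))
  rw [← Nat.card_congr (Equiv.ofBijective e he), Nat.card_prod, Nat.card_coe_set_eq, Nat.card_units,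
    Nat.card_congr eI, Nat.card_fun, Nat.card_eq_fintype_card, Nat.card_eq_fintype_card,
    Fintype.card_coe] at h2
  exact h2

theorem perm_mp (α : MulAut (P8 F)) : ∃ f : Fin 3 → Fin 3, Function.Bijective f ∧
    ∀ m, ∀ a ∈ Cl (F := F) m, mp α a ∈ Cl (f m) := by
  choose f hf using fun m => exists_mp_Cl α m
  choose g hg using fun m => exists_mp_Cl α⁻¹ m
  refine ⟨f, Finite.injective_iff_bijective.1 (Function.LeftInverse.injective (g := g) fun m => ?_), hf⟩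
  have hw : ∃ a, a ∈ Cl (F := F) m := ⟨_, _, q_bv (.inl 0), bv_ne_zero _, rfl⟩
  obtain ⟨a, ha⟩ := hw
  exact Cl_unique (hg _ _ (hf m a ha)) (by rw [mp_inv]; exact ha)

theorem perm_zero {α : MulAut (P8 F)} {b c : Subgroup (P8 F)} (hb : b ∈ Cl 1) (hc : c ∈ Cl 2)
    (hb' : mp α b ∈ Cl 1) (hc' : mp α c ∈ Cl 2) {a : Subgroup (P8 F)} (ha : a ∈ Cl 0) :
    mp α a ∈ Cl 0 := by
  obtain ⟨f, hf, hfm⟩ := perm_mp α
  have h1 : f 1 = 1 := Cl_unique (hfm 1 b hb) hb'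
  have h2 : f 2 = 2 := Cl_unique (hfm 2 c hc) hc'
  have h0 : f 0 = 0 := by
    have n1 : f 0 ≠ 1 := fun e => absurd (hf.1 (e.trans h1.symm)) (by decide)
    have n2 : f 0 ≠ 2 := fun e => absurd (hf.1 (e.trans h2.symm)) (by decide)
    revert n1 n2; generalize f 0 = i; revert i; decide
  exact h0 ▸ hfm 0 a ha

/-- The common neighbours in the point class. -/
def nb (b c : Subgroup (P8 F)) : Set (Subgroup (P8 F)) := {a | a ∈ Cl 0 ∧ Inc a b ∧ Inc a c}

theorem nb_transport {α : MulAut (P8 F)} {b c b' c' : Subgroup (P8 F)} (hb : b ∈ Cl 1) (hc : c ∈ Cl 2)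
    (hb' : b' ∈ Cl 1) (hc' : c' ∈ Cl 2) (eb' : mp α b = b') (ec' : mp α c = c') :
    (nb b c).ncard = (nb b' c').ncard := by
  have hinv : mp α⁻¹ b' = b ∧ mp α⁻¹ c' = c := by rw [← eb', ← ec', mp_inv, mp_inv]; exact ⟨rfl, rfl⟩
  rw [show nb b' c' = mp α '' nb b c from Set.ext fun a => ?_,
    Set.ncard_image_of_injective _ (mp_injective α)]
  constructor
  · rintro ⟨ha, h1, h2⟩
    refine ⟨mp α⁻¹ a, ⟨perm_zero hb' hc' (hinv.1 ▸ hb) (hinv.2 ▸ hc) ha, ?_, ?_⟩, mp_inv' α a⟩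
    · rw [← hinv.1, inc_mp]; exact h1
    · rw [← hinv.2, inc_mp]; exact h2
  · rintro ⟨a, ⟨ha, h1, h2⟩, rfl⟩
    exact ⟨perm_zero hb hc (eb' ▸ hb') (ec' ▸ hc') ha, eb' ▸ inc_mp.2 h1, ec' ▸ inc_mp.2 h2⟩

theorem nb_spc {I J : Finset I4} (hI : NoPair I)
    (hIi : ∀ p : I4 → F, 𝐐 p = 0 → p ≠ 0 → (Inc (Upt p) (Usp (spc I)) ↔ p ∈ spc I))
    (hJi : ∀ p : I4 → F, 𝐐 p = 0 → p ≠ 0 → (Inc (Upt p) (Usp (spc J)) ↔ p ∈ spc J)) :
    nb (Usp (spc (F := F) I)) (Usp (spc J)) = pts (I ∩ J) := by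
  ext a
  constructor
  · rintro ⟨ha, h1, h2⟩
    obtain ⟨p, hp, hp0, rfl⟩ := mem_Cl0.1 ha
    refine ⟨p, fun i hi => ?_, hp0, rfl⟩
    by_cases e : i ∈ I
    · exact (hJi p hp hp0).1 h2 i fun e' => hi (Finset.mem_inter.2 ⟨e, e'⟩)
    · exact (hIi p hp hp0).1 h1 i e
  · rintro ⟨p, hp, hp0, rfl⟩
    have hpI : p ∈ spc I := fun i hi => hp i fun e => hi (Finset.mem_inter.1 e).1
    have hQ := ts_spc hI p hpI
    exact ⟨mem_Cl0.2 ⟨p, hQ, hp0, rfl⟩, (hIi p hQ hp0).2 hpI,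
      (hJi p hQ hp0).2 fun i hi => hp i fun e => hi (Finset.mem_inter.1 e).2⟩

theorem mp_tau2_Cl {m : Fin 3} {a : Subgroup (P8 F)} (h : a ∈ Cl m) :
    mp (tau ^ ((2 : Fin 3) : ℕ)) a ∈ Cl (2 + m) := mp_tau_Cl 2 h

/-- The number of points common to members of the other classes. -/
theorem nb_card {b c : Subgroup (P8 F)} (hb : b ∈ Cl 1) (hc : c ∈ Cl 2) :
    (Inc b c → (nb b c).ncard = Fintype.card F ^ 2 + Fintype.card F + 1) ∧
      (¬ Inc b c → (nb b c).ncard = 1) := by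
  classical
  set τ2 := tau (F := F) ^ ((2 : Fin 3) : ℕ) with hτ2
  have hb' : mp τ2 b ∈ Cl 0 := mp_tau2_Cl hb
  have hc' : mp τ2 c ∈ Cl 1 := mp_tau2_Cl hc
  have h1 : ∀ a : Subgroup (P8 F), mp tau (mp τ2 a) = a := fun a => by
    rw [hτ2, ← mp_mul]
    show mp (tau * tau ^ 2) a = a
    rw [← pow_succ', tau_cube, mp_one]
  have hq := Fintype.one_lt_card (α := F)
  constructor
  · intro h
    obtain ⟨α, e1, e2⟩ := exists_flag1 hb' hc' (inc_mp.2 h)
    rw [nb_transport (α := tau * α * τ2) hb hc W_mem.2.1 W_mem.2.2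
      (by rw [mp_mul, mp_mul, e1, tau_T.1]) (by rw [mp_mul, mp_mul, e2, tau_T.2.1]),
      nb_spc noPairs.1 (fun p h h' => (inc_base h h').1) (fun p h h' => (inc_base h h').2.1)]
    have h := pts_card (F := F) (I := T1 ∩ T2) (by decide)
    rw [show (T1 ∩ T2).card = 3 by decide] at h
    obtain ⟨q, hq'⟩ : ∃ q, Fintype.card F = q + 2 := ⟨Fintype.card F - 2, by omega⟩
    rw [hq', show q + 2 - 1 = q + 1 from rfl] at h
    rw [hq']
    refine Nat.eq_of_mul_eq_mul_right (m := q + 1) (by omega) ?_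
    have : ((q + 2) ^ 2 + (q + 2) + 1) * (q + 1) + 1 = (q + 2) ^ 3 := by ring
    omega
  · intro h
    obtain ⟨α, e1, e2⟩ := exists_anti hb' hc' (fun e => h (inc_mp.1 e))
    rw [nb_transport (α := tau * α * τ2) hb hc O_mem.2.1 W_mem.2.2
      (by rw [mp_mul, mp_mul, e1, tau_O.1]) (by rw [mp_mul, mp_mul, e2, tau_T.2.1]),
      nb_spc noPairs.2.2.1 (fun p h h' => (inc_base h h').2.2.1) (fun p h h' => (inc_base h h').2.1)]
    have h := pts_card (F := F) (I := O1 ∩ T2) (by decide)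
    rw [show (O1 ∩ T2).card = 1 by decide, pow_one] at h
    refine Nat.eq_of_mul_eq_mul_right (m := Fintype.card F - 1) (by omega) ?_
    omega

/-- The number of points in a member of the third class. -/
theorem deg_card {c : Subgroup (P8 F)} (hc : c ∈ Cl 2) :
    {a | a ∈ Cl (F := F) 0 ∧ Inc a c}.ncard =
      Fintype.card F ^ 3 + Fintype.card F ^ 2 + Fintype.card F + 1 := by
  classical
  obtain ⟨p, hp, hp0, rfl⟩ := hc
  obtain ⟨h, hh⟩ := exists_om_map (F := F) (q_bv (.inl 0)) (bv_ne_zero _) hp hp0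
  obtain ⟨k, hk⟩ := piO_surjective ((tau ^ ((2 : Fin 3) : ℕ)) (piO 𝐐 h))
  set β := MulAut.conj (piO 𝐐 k) with hβ
  have e : mp β (Usp (spc T2)) = mp (tau ^ ((2 : Fin 3) : ℕ)) (Upt p) := by
    rw [← tau_sq.2.2.1, ← mp_mul, hβ, hk, show MulAut.conj ((tau ^ ((2 : Fin 3) : ℕ)) (piO 𝐐 h)) *
      tau ^ ((2 : Fin 3) : ℕ) = tau ^ ((2 : Fin 3) : ℕ) * MulAut.conj (piO 𝐐 h)
      from MulEquiv.ext fun y => by simp [MulAut.mul_apply, MulAut.conj_apply, map_mul, map_inv],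
      mp_mul, mp_conj_Upt h (q_bv _), hh]
  have h0 : ∀ (g : Om 𝐐) (a : Subgroup (P8 F)), a ∈ Cl 0 → mp (MulAut.conj (piO 𝐐 g)) a ∈ Cl 0 := by
    intro g a ha
    obtain ⟨q, hq, hq0, rfl⟩ := mem_Cl0.1 ha
    exact mem_Cl0.2 ⟨_, by rw [map_form, hq], fun e => hq0 (LinearEquiv.map_eq_zero_iff _ |>.1 e),
      mp_conj_Upt g hq⟩
  have hset : {a | a ∈ Cl (F := F) 0 ∧ Inc a (mp (tau ^ ((2 : Fin 3) : ℕ)) (Upt p))} =
      mp β '' pts T2 := by
    ext a
    constructor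
    · rintro ⟨ha, hinc⟩
      have ha' : mp β⁻¹ a ∈ Cl 0 := by rw [hβ, ← map_inv, ← map_inv]; exact h0 _ _ ha
      obtain ⟨q, hq, hq0, hqe⟩ := mem_Cl0.1 ha'
      refine ⟨_, ⟨q, (inc_base hq hq0).2.1.1 ?_, hq0, rfl⟩, ?_⟩
      · rw [← hqe, ← inc_mp (α := β), mp_inv', e]; exact hinc
      · rw [← hqe, mp_inv']
    · rintro ⟨_, ⟨q, hq, hq0, rfl⟩, rfl⟩
      have hQ := ts_spc noPairs.2.1 q hq
      exact ⟨h0 _ _ (mem_Cl0.2 ⟨q, hQ, hq0, rfl⟩), e ▸ inc_mp.2 ((inc_base hQ hq0).2.1.2 hq)⟩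
  rw [hset, Set.ncard_image_of_injective _ (mp_injective β)]
  have h := pts_card (F := F) (I := T2) noPairs.2.1
  rw [show (T2).card = 4 by decide] at h
  have hq := Fintype.one_lt_card (α := F)
  obtain ⟨q, hq'⟩ : ∃ q, Fintype.card F = q + 2 := ⟨Fintype.card F - 2, by omega⟩
  rw [hq', show q + 2 - 1 = q + 1 from rfl] at h
  rw [hq']
  refine Nat.eq_of_mul_eq_mul_right (m := q + 1) (by omega) ?_
  have : ((q + 2) ^ 3 + (q + 2) ^ 2 + (q + 2) + 1) * (q + 1) + 1 = (q + 2) ^ 4 := by ring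
  omega

theorem card_Cl0_mod (r : ℕ) [Fact r.Prime] [CharP F r] : ((Cl (F := F) 0).ncard : ZMod r) = 1 := by
  classical
  haveI := (setup4 (F := F)).finiteV
  set G := Upt (e0 (F := F))
  have hG : IsPGroup r G := by
    rintro ⟨g, hg⟩
    obtain ⟨z, hz, rfl⟩ := (mem_Upt (q_bv _)).1 hg
    refine ⟨1, Subtype.ext ?_⟩
    show eb 𝐐 e0 z ^ r ^ 1 = 1
    rw [eb, ← map_pow, show eo 𝐐 e0 z ^ r ^ 1 = 1 from Subtype.ext (by
      rw [SubgroupClass.coe_pow, CG26.AutPO.eo_coe, CG26.AutPO.eich_pow (q_bv _) hz, pow_one,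
        CharP.cast_eq_zero F r, zero_smul, eich_zero]; rfl), map_one]
  letI act : MulAction G (Cl (F := F) 0) :=
    { smul := fun g a => ⟨mp (MulAut.conj (g : P8 F)) a.1, by
        obtain ⟨h, hh⟩ := piO_surjective (g : P8 F)
        obtain ⟨q, hq, hq0, e⟩ := mem_Cl0.1 a.2
        rw [← hh, e, mp_conj_Upt h hq]
        exact mem_Cl0.2 ⟨_, by rw [map_form, hq], fun e => hq0 (LinearEquiv.map_eq_zero_iff _ |>.1 e), rfl⟩⟩
      one_smul := fun a => Subtype.ext (by show mp (MulAut.conj ((1 : G) : P8 F)) a.1 = _; rw [Subgroup.coe_one, map_one, mp_one])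
      mul_smul := fun g h a => Subtype.ext (by
        show mp (MulAut.conj ((g * h : G) : P8 F)) a.1 = mp _ (mp _ a.1)
        rw [Subgroup.coe_mul, map_mul, mp_mul]) }
  have hmod := hG.card_modEq_card_fixedPoints (Cl (F := F) 0)
  have hfix : MulAction.fixedPoints G (Cl (F := F) 0) = {⟨Upt e0, W_mem.1⟩} := by
    ext ⟨a, ha⟩
    obtain ⟨q, hq, hq0, rfl⟩ := mem_Cl0.1 ha
    constructor
    · intro hf
      have hmv : ∀ z, polar 𝐐 e0 z = 0 → ∃ c : F, (eich 𝐐 e0 z).1 q = c • q := by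
        intro z hz
        have h1 : mp (MulAut.conj (piO 𝐐 (eo 𝐐 e0 z))) (Upt q) = Upt q :=
          congrArg Subtype.val (hf ⟨_, eb_mem_Upt hz⟩)
        rw [mp_conj_Upt _ hq] at h1
        exact exists_smul_of_Upt_eq hq hq0 (by rw [map_form, hq])
          (fun e => hq0 (LinearEquiv.map_eq_zero_iff _ |>.1 e)) h1.symm
      by_contra hne
      have hnp : ∀ c : F, q ≠ c • e0 := fun c e => hne (Subtype.ext (by
        show Upt q = Upt e0
        rw [e]; exact Upt_smul (q_bv _) fun e' => hq0 (by rw [e, e', zero_smul])))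
      obtain ⟨i, hi⟩ : ∃ i, i ≠ (.inl 0 : I4) ∧ q i ≠ 0 := by
        by_contra hall
        push Not at hall
        refine hnp (q (.inl 0)) (funext fun i => ?_)
        by_cases e : i = .inl 0
        · subst e; simp
        · simp [hall i e, e]
      by_cases hf0 : q (.inr 0) = 0
      · have hz : polar 𝐐 e0 (bv i.swap) = 0 := by
          rw [polar_bv, bv, Pi.single_eq_of_ne]
          intro e
          exact hi.1 (by have := congrArg Sum.swap e; simpa using this.symm)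
        obtain ⟨c, hc⟩ := hmv _ hz
        rw [eich_apply (q_bv _) hz, polar_bv, polar_bv, q_bv, Sum.swap_swap] at hc
        simp [hf0] at hc
        have e1 := congrFun hc i
        simp [hi.1] at e1
        have c1 : c = 1 := by
          refine mul_right_cancel₀ hi.2 ?_
          rw [one_mul]
          first | exact e1 | exact e1.symm
        subst c1
        have e2 := congrFun hc (.inl 0)
        simp [hi.2] at e2
      · have hz : polar 𝐐 e0 (bv (.inl 1)) = 0 := by rw [polar_bv]; simp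
        obtain ⟨c, hc⟩ := hmv _ hz
        rw [eich_apply (q_bv _) hz, polar_bv, polar_bv, q_bv] at hc
        have e1 := congrFun hc (.inr 0)
        simp at e1
        have c1 : c = 1 := by
          have h : c * q (.inr 0) = 1 * q (.inr 0) := by rw [one_mul]; exact e1.symm
          exact mul_right_cancel₀ hf0 h
        subst c1
        have e2 := congrFun hc (.inl 1)
        simp [hf0] at e2
    · intro h
      rw [Set.mem_singleton_iff.1 h]
      intro g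
      obtain ⟨z, hz, hg⟩ := (mem_Upt (q_bv _)).1 g.2
      refine Subtype.ext ?_
      show mp (MulAut.conj (g : P8 F)) (Upt e0) = _
      rw [hg, eb, mp_conj_Upt _ (q_bv _), CG26.AutPO.eo_coe, eich_apply (q_bv _) hz,
        CG26.AutPO.polar_self_zero (q_bv _), polar_comm _ z, hz]
      simp
  rw [← Nat.card_coe_set_eq, (ZMod.natCast_eq_natCast_iff _ _ r).2 hmod, hfix]
  simp

theorem zmod3_aux : ∀ z : ZMod 3, z ≠ 0 → (z ^ 2 + z + 1) * (z ^ 3 + z ^ 2 + z + 1) = 0 := by decide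

/-- **Absolute points exist and their number is divisible by three.** -/
theorem absolute_points (r : ℕ) [Fact r.Prime] [CharP F r] (hr : r ≠ 3) {x : MulAut (P8 F)}
    (hx3 : x ^ 3 = 1) (hx : ∀ m, ∀ a ∈ Cl (F := F) m, mp x a ∈ Cl (m + 1)) :
    (∃ a ∈ Cl (F := F) 0, Inc a (mp x a)) ∧
      3 ∣ {a | a ∈ Cl (F := F) 0 ∧ Inc a (mp x a)}.ncard := by
  classical
  haveI := (setup4 (F := F)).finiteV
  set ι := ↥(Cl (F := F) 0)
  letI : Fintype ι := Fintype.ofFinite _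
  set τ2 := tau (F := F) ^ ((2 : Fin 3) : ℕ)
  set q := Fintype.card F
  have hx1 : ∀ a : Subgroup (P8 F), mp x (mp x (mp x a)) = a := fun a => by
    rw [← mp_mul, ← mp_mul, ← pow_three', hx3, mp_one]
  have hbij : ∀ (P : Subgroup (P8 F) → Prop),
      Nat.card {a : ι // P (mp x a.1)} = {b | b ∈ Cl (F := F) 1 ∧ P b}.ncard := by
    intro P
    rw [← Nat.card_coe_set_eq]
    refine Nat.card_congr
      { toFun := fun a => ⟨mp x a.1.1, hx 0 _ a.1.2, a.2⟩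
        invFun := fun b => ⟨⟨mp x (mp x b.1), hx 2 _ (hx 1 _ b.2.1)⟩, by rw [hx1]; exact b.2.2⟩
        left_inv := fun a => Subtype.ext (Subtype.ext (hx1 _))
        right_inv := fun b => Subtype.ext (hx1 _) }
  have hτ : ∀ (P : Subgroup (P8 F) → Prop),
      {b | b ∈ Cl (F := F) 1 ∧ P (mp τ2 b)}.ncard = {a | a ∈ Cl (F := F) 0 ∧ P a}.ncard := by
    intro P
    rw [← Set.ncard_image_of_injective _ (mp_injective τ2)]
    congr 1
    ext a
    constructor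
    · rintro ⟨b, ⟨hb, hP⟩, rfl⟩
      exact ⟨mp_tau2_Cl hb, hP⟩
    · rintro ⟨ha, hP⟩
      have e : mp τ2 (mp (tau ^ ((1 : Fin 3) : ℕ)) a) = a := by
        rw [← mp_mul, ← tau_pow_add 2 1, show ((2 + 1 : Fin 3) : ℕ) = 0 from rfl, pow_zero, mp_one]
      exact ⟨mp (tau ^ ((1 : Fin 3) : ℕ)) a, ⟨mp_tau_Cl 1 ha, by rw [e]; exact hP⟩, e⟩
  set k := q ^ 3 + q ^ 2 + q + 1 with hk
  set c0 := q ^ 2 + q + 1 with hc0
  have hrow : ∀ a : ι, Nat.card {a' : ι // Inc a.1 (mp x a'.1)} = k := by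
    intro a
    rw [hbij (fun b => Inc a.1 b),
      show {b | b ∈ Cl (F := F) 1 ∧ Inc a.1 b} = {b | b ∈ Cl (F := F) 1 ∧ Inc (mp τ2 b) (mp τ2 a.1)} from
        Set.ext fun b => and_congr_right fun _ => ⟨fun h => inc_mp.2 h.symm, fun h => (inc_mp.1 h).symm⟩,
      hτ (fun b => Inc b (mp τ2 a.1))]
    exact deg_card (mp_tau2_Cl a.2)
  have hsq : ∀ a a'' : ι, Nat.card {a' : ι // Inc a.1 (mp x a'.1) ∧ Inc a'.1 (mp x a''.1)} =
      if Inc a''.1 (mp x a.1) then c0 else 1 := by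
    intro a a''
    have e1 : ∀ a' : ι, (Inc a'.1 (mp x a''.1)) ↔ Inc (mp x a'.1) (mp x (mp x a''.1)) := fun a' => inc_mp.symm
    rw [Nat.card_congr (Equiv.subtypeEquivRight fun a' => and_congr_right fun _ => e1 a'),
      hbij (fun b => Inc a.1 b ∧ Inc b (mp x (mp x a''.1)))]
    rw [show {b | b ∈ Cl (F := F) 1 ∧ Inc a.1 b ∧ Inc b (mp x (mp x a''.1))} =
        {b | b ∈ Cl (F := F) 1 ∧ Inc (mp τ2 b) (mp τ2 (mp x (mp x a''.1))) ∧ Inc (mp τ2 b) (mp τ2 a.1)} from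
      Set.ext fun b => and_congr_right fun _ => by
        rw [inc_mp, inc_mp]; exact ⟨fun h => ⟨h.2, h.1.symm⟩, fun h => ⟨h.2.symm, h.1⟩⟩,
      hτ (fun b => Inc b (mp τ2 (mp x (mp x a''.1))) ∧ Inc b (mp τ2 a.1))]
    have hb : mp τ2 (mp x (mp x a''.1)) ∈ Cl 1 := mp_tau2_Cl (hx 1 _ (hx 0 _ a''.2))
    have hc : mp τ2 a.1 ∈ Cl 2 := mp_tau2_Cl a.2
    have hiff : Inc (mp τ2 (mp x (mp x a''.1))) (mp τ2 a.1) ↔ Inc a''.1 (mp x a.1) := by
      rw [inc_mp, ← inc_mp (α := x), hx1]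
    show (nb _ _).ncard = _
    split_ifs with h
    · exact (nb_card hb hc).1 (hiff.2 h)
    · exact (nb_card hb hc).2 fun e => h (hiff.1 e)
  have hsum : ∀ (R : Type) [CommRing R] (P : ι → Prop) [DecidablePred P],
      ∑ a, (if P a then (1 : R) else 0) = (Nat.card {a // P a} : R) := by
    intro R _ P _
    rw [Finset.sum_boole, Nat.card_eq_fintype_card, Fintype.card_subtype]
  have hdiag : ∀ (R : Type) [CommRing R], Matrix.trace (Matrix.of fun a a' : ι =>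
      if Inc a.1 (mp x a'.1) then (1 : R) else 0) =
      ({a | a ∈ Cl (F := F) 0 ∧ Inc a (mp x a)}.ncard : R) := by
    intro R _
    simp only [Matrix.trace, Matrix.diag, Matrix.of_apply]
    rw [hsum R (fun a => Inc a.1 (mp x a.1)), ← Nat.card_coe_set_eq]
    exact congrArg _ (Nat.card_congr (Equiv.subtypeSubtypeEquivSubtypeInter _ (fun a => Inc a (mp x a))))
  have hmm : ∀ (R : Type) [CommRing R], (Matrix.of fun a a' : ι => if Inc a.1 (mp x a'.1) then (1 : R) else 0) *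
      (Matrix.of fun a a' : ι => if Inc a.1 (mp x a'.1) then (1 : R) else 0) =
      Matrix.of fun a a'' : ι => if Inc a''.1 (mp x a.1) then (c0 : R) else 1 := by
    intro R _
    ext a a''
    simp only [Matrix.mul_apply, Matrix.of_apply, ite_mul, one_mul, zero_mul, ← ite_and]
    rw [hsum R (fun a' => Inc a.1 (mp x a'.1) ∧ Inc a'.1 (mp x a''.1)), hsq]
    split_ifs <;> simp
  refine ⟨?_, ?_⟩
  · have hq0 : (q : ZMod r) = 0 := by
      obtain ⟨n, -, hn⟩ := FiniteField.card F r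
      rw [show q = r ^ (n : ℕ) from hn, Nat.cast_pow, ZMod.natCast_self, zero_pow n.ne_zero]
    set M : Matrix ι ι (ZMod r) := Matrix.of fun a a' => if Inc a.1 (mp x a'.1) then 1 else 0 with hM
    have hJ : ∀ n, 2 ≤ n → M ^ n = Matrix.of fun _ _ => 1 := by
      intro n hn
      induction n, hn using Nat.le_induction with
      | base =>
        rw [pow_two, hM, hmm]
        ext a a''
        simp [hc0, hq0]
      | succ n _ ih =>
        rw [pow_succ', ih]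
        ext a a''
        simp only [Matrix.mul_apply, hM, Matrix.of_apply, mul_one]
        rw [hsum (ZMod r) (fun a' => Inc a.1 (mp x a'.1)), hrow]
        simp [hk, hq0]
    have h1 := ZMod.trace_pow_card M
    rw [hJ r (Fact.out : r.Prime).two_le, hM, hdiag, ZMod.pow_card] at h1
    simp only [Matrix.trace, Matrix.diag, Matrix.of_apply, Finset.sum_const, Finset.card_univ,
      nsmul_one] at h1
    rw [← Nat.card_eq_fintype_card, Nat.card_coe_set_eq, card_Cl0_mod r] at h1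
    by_contra hne
    push Not at hne
    rw [show {a | a ∈ Cl (F := F) 0 ∧ Inc a (mp x a)} = ∅ from
      Set.eq_empty_of_forall_notMem fun a ha => hne a ha.1 ha.2, Set.ncard_empty, Nat.cast_zero] at h1
    exact one_ne_zero h1
  · haveI : Fact (Nat.Prime 3) := ⟨Nat.prime_three⟩
    have hq3 : (q : ZMod 3) ≠ 0 := by
      obtain ⟨n, -, hn⟩ := FiniteField.card F r
      rw [show q = r ^ (n : ℕ) from hn, Nat.cast_pow]
      refine pow_ne_zero _ ?_
      rw [ne_eq, ZMod.natCast_eq_zero_iff, Nat.prime_dvd_prime_iff_eq Nat.prime_three Fact.out]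
      exact fun e => hr e.symm
    set M : Matrix ι ι (ZMod 3) := Matrix.of fun a a' => if Inc a.1 (mp x a'.1) then 1 else 0 with hM
    have h1 := ZMod.trace_pow_card M
    rw [pow_succ', pow_two, hM, hmm, hdiag, ZMod.pow_card] at h1
    rw [← ZMod.natCast_eq_zero_iff, ← h1]
    have hz := zmod3_aux
    simp only [Matrix.trace, Matrix.diag, Matrix.mul_apply, Matrix.of_apply]
    refine Finset.sum_eq_zero fun a _ => ?_
    have e : ∀ a' : ι, (if Inc a.1 (mp x a'.1) then (1 : ZMod 3) else 0) *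
        (if Inc a.1 (mp x a'.1) then (c0 : ZMod 3) else 1) =
        (c0 : ZMod 3) * (if Inc a.1 (mp x a'.1) then (1 : ZMod 3) else 0) := fun a' => by
      split_ifs <;> simp
    rw [Finset.sum_congr rfl fun a' _ => e a', ← Finset.mul_sum,
      hsum (ZMod 3) (fun a' => Inc a.1 (mp x a'.1)), hrow]
    rw [hc0, hk]
    push_cast
    exact hz _ hq3

end Cfsg.Agent.PlusBal.Tri
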